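import Groth.Agent.RootSys.Span

/-!
# Orthogonal partitions
-/

noncomputable section
open Function Set

namespace Groth.Agent.RootSys

variable {ι M N : Type*} [AddCommGroup M] [AddCommGroup N] {P : RootPairing ι ℤ M N}

lemma eq_zero_of_coroot'_eq_zero [Finite ι] {x : M} (hx : x ∈ P.rootSpan ℤ) (h : ∀ j, P.coroot' j x = 0) :
    x = 0 := by
  haveI := Fintype.ofFinite ι
  refine P.eq_zero_of_mem_rootSpan_of_rootForm_self_eq_zero hx ?_
  rw [RootPairing.rootForm_apply_apply]
  exact Finset.sum_eq_zero fun j _ => by rw [h j, zero_mul]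

lemma pairing_zero_comm [Finite ι] {i j : ι} : P.pairing i j = 0 ↔ P.pairing j i = 0 := by
  haveI : Module.IsReflexive ℤ M := .of_isPerfPair P.toLinearMap
  haveI : Module.IsReflexive ℤ N := .of_isPerfPair P.flip.toLinearMap
  exact P.pairing_eq_zero_iff

lemma isOrthogonal_iff [Finite ι] {i j : ι} : P.IsOrthogonal i j ↔ P.pairing i j = 0 :=
  ⟨fun h => h.1, fun h => ⟨h, pairing_zero_comm.mp h⟩⟩

lemma reflection_eq_of_proportional [Finite ι] {i j : ι} {a b : ℤ} (ha : a ≠ 0) (hb : b ≠ 0)
    (h : b • P.root j = a • P.root i) : refl P j = refl P i := by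
  haveI := Fintype.ofFinite ι
  haveI : Module.IsReflexive ℤ N := .of_isPerfPair P.flip.toLinearMap
  haveI : IsAddTorsionFree N := .of_isTorsionFree ℤ N
  have hB : b * b * P.RootForm (P.root j) (P.root j) = a * a * P.RootForm (P.root i) (P.root i) := by
    have e := congr(P.RootForm $h $h)
    simp only [map_zsmul, map_smul, LinearMap.smul_apply, smul_eq_mul] at e
    linarith
  have hP : b • P.Polarization (P.root j) = a • P.Polarization (P.root i) := by
    rw [← map_zsmul P.Polarization, ← map_zsmul P.Polarization, h]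
  have hco : a • P.coroot j = b • P.coroot i := by
    refine smul_right_injective N (r := a * P.RootForm (P.root i) (P.root i))
      (mul_ne_zero ha (rootForm_pos i).ne') ?_
    calc (a * P.RootForm (P.root i) (P.root i)) • a • P.coroot j
        = (b * b) • (P.RootForm (P.root j) (P.root j) • P.coroot j) := by
          rw [smul_smul, smul_smul, hB]; congr 1; ring
      _ = (2 * b) • (b • P.Polarization (P.root j)) := by
          rw [P.rootForm_self_smul_coroot, smul_smul, ← natCast_zsmul, smul_smul]; congr 1; push_cast; ring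
      _ = (b * a) • (P.RootForm (P.root i) (P.root i) • P.coroot i) := by
          rw [hP, P.rootForm_self_smul_coroot, smul_smul, ← natCast_zsmul, smul_smul]; congr 1; push_cast; ring
      _ = (a * P.RootForm (P.root i) (P.root i)) • b • P.coroot i := by rw [smul_smul, smul_smul]; congr 1; ring
  refine aut_ext fun x => ?_
  rw [RootPairing.Equiv.reflection_smul, RootPairing.Equiv.reflection_smul, P.reflection_apply, P.reflection_apply]
  congr 1
  refine torsionFree_root (mul_ne_zero hb ha) ?_ P
  have e : a * P.coroot' j x = b * P.coroot' i x := by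
    show a * P.toLinearMap x (P.coroot j) = b * P.toLinearMap x (P.coroot i)
    rw [← smul_eq_mul, ← map_zsmul, hco, map_zsmul, smul_eq_mul]
  calc (b * a) • P.coroot' j x • P.root j = (a * P.coroot' j x) • b • P.root j := by
        rw [smul_smul, smul_smul]; congr 1; ring
    _ = _ := by rw [e, h, smul_smul, smul_smul]; congr 1; ring

/-- A partition of the roots into two closed symmetric parts. -/
structure IsClosedPartition (P : RootPairing ι ℤ M N) (R' : Set ι) : Prop where
  closed : RootD.IsClosedSub P R'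
  symm : RootD.IsSymmSub P R'
  closed' : RootD.IsClosedSub P R'ᶜ
  symm' : RootD.IsSymmSub P R'ᶜ

namespace IsClosedPartition

variable {R' : Set ι} (h : IsClosedPartition P R')
include h

lemma mem_iff {i j k : ι} (e : P.root k = P.root i + P.root j) :
    (i ∈ R' ∧ j ∈ R' ∧ k ∈ R') ∨ (i ∉ R' ∧ j ∉ R' ∧ k ∉ R') := by
  by_cases hi : i ∈ R' <;> by_cases hj : j ∈ R'
  · exact Or.inl ⟨hi, hj, h.closed hi hj e⟩
  · by_cases hk : k ∈ R'
    · exact absurd (h.closed hk (h.symm hi) (by rw [show P.reflectionPerm i i = opp P i from rfl, root_opp, e]; abel)) hj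
    · exact absurd hi (h.closed' (i := k) (j := opp P j) hk (h.symm' hj) (by rw [root_opp, e]; abel))
  · by_cases hk : k ∈ R'
    · exact absurd (h.closed hk (h.symm hj) (by rw [show P.reflectionPerm j j = opp P j from rfl, root_opp, e]; abel)) hi
    · exact absurd hj (h.closed' (i := k) (j := opp P i) hk (h.symm' hi) (by rw [root_opp, e]; abel))
  · exact Or.inr ⟨hi, hj, h.closed' hi hj e⟩

lemma mem_of_pairing_ne [Finite ι] {i j : ι} (hi : i ∈ R') (hij : P.pairing i j ≠ 0) : j ∈ R' := by
  by_cases h1 : i = j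
  · exact h1 ▸ hi
  by_cases h2 : opp P i = j
  · exact h2 ▸ h.symm hi
  rcases lt_or_gt_of_ne hij with hlt | hgt
  · obtain ⟨k, hk⟩ := add_root_mem hlt (fun e => h2 (P.root.injective (by rw [root_opp, e, neg_neg])))
    rcases h.mem_iff hk with h' | h'
    · exact h'.2.1
    · exact absurd hi h'.1
  · obtain ⟨k, hk⟩ := sub_root_mem hgt h1
    rcases h.mem_iff (show P.root i = P.root k + P.root j by rw [hk, sub_add_cancel]) with h' | h'
    · exact h'.2.1
    · exact absurd hi h'.2.2

end IsClosedPartition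

/-- An orthogonal partition of simple roots partitions all roots. -/
theorem mem_inSpan_or [Finite ι] {Δ S : Set ι} (hΔ : RootD.IsSimpleSys P Δ) (hS : S ⊆ Δ)
    (horth : ∀ i ∈ S, ∀ j ∈ Δ \ S, P.pairing i j = 0) (k : ι) :
    k ∈ RootD.inSpan P S ∨ k ∈ RootD.inSpan P (Δ \ S) := by
  have hsp : ∀ (T U : Set ι), (∀ a ∈ T, ∀ b ∈ U, P.pairing a b = 0) → ∀ i ∈ U, ∀ k ∈ RootD.inSpan P T,
      refl P i • k ∈ RootD.inSpan P T := fun T U hTU i hi k hk => by
    have h0 : P.coroot' i (P.root k) = 0 := by
      refine Submodule.span_induction (p := fun x _ => P.coroot' i x = 0) ?_ (map_zero _) ?_ ?_ hk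
      · rintro _ ⟨a, ha, rfl⟩
        rw [P.root_coroot'_eq_pairing, hTU a ha i hi]
      · intro x y _ _ hx hy; rw [map_add, hx, hy, add_zero]
      · intro c x _ hx; rw [map_smul, hx, smul_zero]
    show P.root (refl P i • k) ∈ Submodule.span ℤ (P.root '' T)
    rw [root_reflection_smul, ← P.root_coroot'_eq_pairing, h0, zero_smul, sub_zero]
    exact hk
  have hself : ∀ (T : Set ι) i, i ∈ T → ∀ k ∈ RootD.inSpan P T, refl P i • k ∈ RootD.inSpan P T :=
    fun T i hi k hk => by
      show P.root (refl P i • k) ∈ Submodule.span ℤ (P.root '' T)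
      rw [root_reflection_smul]
      exact sub_mem hk (Submodule.smul_mem _ _ (Submodule.subset_span ⟨i, hi, rfl⟩))
  have hind : ∀ k, RootD.IsIndiv P k → k ∈ RootD.inSpan P S ∨ k ∈ RootD.inSpan P (Δ \ S) := by
    intro k hk
    obtain ⟨g, hg, i, hi, rfl⟩ := exists_conj_simple hΔ hk
    clear hk
    have hgen : ∀ x ∈ Δ, ∀ k, k ∈ RootD.inSpan P S ∨ k ∈ RootD.inSpan P (Δ \ S) →
        refl P x • k ∈ RootD.inSpan P S ∨ refl P x • k ∈ RootD.inSpan P (Δ \ S) := by
      rintro x hx k (hk | hk) <;> by_cases hxS : x ∈ S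
      · exact Or.inl (hself S x hxS k hk)
      · exact Or.inl (hsp S (Δ \ S) (fun a ha b hb => horth a ha b hb) x ⟨hx, hxS⟩ k hk)
      · exact Or.inr (hsp (Δ \ S) S (fun a ha b hb => pairing_zero_comm.mp (horth b hb a ha)) x hxS k hk)
      · exact Or.inr (hself (Δ \ S) x ⟨hx, hxS⟩ k hk)
    induction hg using Subgroup.closure_induction_left with
    | one =>
      rw [one_smul]
      by_cases hiS : i ∈ S
      · exact Or.inl (Submodule.subset_span ⟨i, hiS, rfl⟩)
      · exact Or.inr (Submodule.subset_span ⟨i, ⟨hi, hiS⟩, rfl⟩)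
    | mul_left x hx y _ ih =>
      obtain ⟨a, ha, rfl⟩ := hx
      rw [mul_smul]
      exact hgen a ha _ ih
    | inv_mul_cancel x hx y _ ih =>
      obtain ⟨a, ha, rfl⟩ := hx
      rw [mul_smul, inv_eq_of_mul_eq_one_left (reflection_mul_self a)]
      exact hgen a ha _ ih
  by_cases hk : RootD.IsIndiv P k
  · exact hind k hk
  · simp only [RootD.IsIndiv, not_forall, not_not] at hk
    obtain ⟨j, hj⟩ := hk
    have hj' : RootD.IsIndiv P j := fun l hl => by
      have h2 : P.pairing l k * 4 = 2 := by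
        rw [← P.pairing_same k, ← P.root_coroot'_eq_pairing k k, ← hj, ← hl, smul_smul, map_zsmul,
          P.root_coroot'_eq_pairing]
        simp [mul_comm]
      omega
    exact (hind j hj').imp
      (fun h => show P.root k ∈ Submodule.span ℤ (P.root '' S) from hj ▸ Submodule.smul_mem _ _ h)
      fun h => show P.root k ∈ Submodule.span ℤ (P.root '' (Δ \ S)) from hj ▸ Submodule.smul_mem _ _ h

lemma not_mem_inSpan_both {Δ S : Set ι} (hΔ : RootD.IsSimpleSys P Δ) (hS : S ⊆ Δ) (k : ι) :
    ¬(k ∈ RootD.inSpan P S ∧ k ∈ RootD.inSpan P (Δ \ S)) := by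
  rintro ⟨h1, h2⟩
  rw [mem_inSpan_iff hΔ hS] at h1
  rw [mem_inSpan_iff hΔ Set.sdiff_subset] at h2
  exact coef_ne_zero hΔ k (Finsupp.ext fun a => by_contra fun ha => (h2 a ha).2 (h1 a ha))

end Groth.Agent.RootSys
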