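import Groth.Agent.RootSys.Partition
import Mathlib.LinearAlgebra.FreeModule.PID
import Mathlib.LinearAlgebra.FreeModule.Finite.Matrix

/-!
# Ranks
-/

noncomputable section
open Function Set Module

namespace Groth.Agent.RootSys

variable {ι M N : Type*} [AddCommGroup M] [AddCommGroup N] {P : RootPairing ι ℤ M N} [Finite ι]

lemma finrank_ker_add [Module.Finite ℤ M] :
    finrank ℤ (⨅ i : ι, LinearMap.ker (P.coroot' i) : Submodule ℤ M) +
      finrank ℤ (Submodule.span ℤ (Set.range P.root)) = finrank ℤ M := by
  haveI := Fintype.ofFinite ι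
  haveI : Module.IsReflexive ℤ N := .of_isPerfPair P.flip.toLinearMap
  have hker : (⨅ i : ι, LinearMap.ker (P.coroot' i) : Submodule ℤ M) = LinearMap.ker P.Polarization := by
    refine le_antisymm (fun m hm => ?_) fun m hm => ?_
    · rw [Submodule.mem_iInf] at hm
      rw [LinearMap.mem_ker, RootPairing.Polarization_apply]
      exact Finset.sum_eq_zero fun i _ => by rw [LinearMap.mem_ker.mp (hm i), zero_smul]
    · have h0 : P.RootForm m m = 0 := by
        rw [← P.toLinearMap_apply_apply_Polarization, LinearMap.mem_ker.mp hm, map_zero]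
      rw [RootPairing.rootForm_apply_apply,
        Finset.sum_eq_zero_iff_of_nonneg fun i _ => mul_self_nonneg _] at h0
      exact (Submodule.mem_iInf _).mpr fun i => LinearMap.mem_ker.mpr (mul_self_eq_zero.mp (h0 i (Finset.mem_univ _)))
  haveI : Module.Finite ℤ (P.corootSpan ℤ) := Module.Finite.iff_fg.mpr (Submodule.fg_span (Set.finite_range _))
  have hrk : finrank ℤ (LinearMap.range P.Polarization) = finrank ℤ (P.rootSpan ℤ) := by
    rw [← P.finrank_corootSpan_eq']
    refine le_antisymm (Submodule.finrank_mono ?_) ?_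
    · rintro _ ⟨m, rfl⟩
      rw [RootPairing.Polarization_apply]
      exact Submodule.sum_mem _ fun i _ => Submodule.smul_mem _ _ (Submodule.subset_span ⟨i, rfl⟩)
    · rw [← P.finrank_rootSpan_map_polarization_eq_finrank_corootSpan]
      exact Submodule.finrank_mono LinearMap.map_le_range
  rw [hker, ← hrk, ← (LinearMap.quotKerEquivRange P.Polarization).finrank_eq, add_comm,
    Submodule.finrank_quotient_add_finrank]

omit [Finite ι] in
lemma finrank_coweight (P : RootPairing ι ℤ M N) [Module.Finite ℤ M] : finrank ℤ N = finrank ℤ M := by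
  haveI : Module.IsReflexive ℤ M := .of_isPerfPair P.toLinearMap
  haveI : Module.Free ℤ M := Module.free_of_finite_type_torsion_free'
  rw [(P.flip.toPerfPair).finrank_eq]
  simp [Module.finrank_linearMap]

lemma iInf_ker_eq_bot [Module.Finite ℤ M]
    (h : finrank ℤ (Submodule.span ℤ (Set.range P.root)) = finrank ℤ M) :
    (⨅ i : ι, LinearMap.ker (P.coroot' i) : Submodule ℤ M) = ⊥ := by
  haveI : Module.IsReflexive ℤ M := .of_isPerfPair P.toLinearMap
  have e := finrank_ker_add (P := P)
  exact Submodule.finrank_eq_zero.mp (by omega)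

lemma exists_smul_mem_span [Module.Finite ℤ M]
    (h : finrank ℤ (Submodule.span ℤ (Set.range P.root)) = finrank ℤ M) (m : M) :
    ∃ n : ℕ, 0 < n ∧ n • m ∈ Submodule.span ℤ (Set.range P.root) := by
  haveI := Fintype.ofFinite ι
  haveI : Module.Finite ℤ (Submodule.span ℤ (Set.range P.root)) :=
    Module.Finite.iff_fg.mpr (Submodule.fg_span (Set.finite_range _))
  have e := Submodule.finrank_quotient_add_finrank (Submodule.span ℤ (Set.range P.root))
  have h0 : finrank ℤ (M ⧸ Submodule.span ℤ (Set.range P.root)) = 0 := by omega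
  obtain ⟨a, ha, ham⟩ := Module.finrank_eq_zero_iff.mp h0 (Submodule.Quotient.mk m)
  rw [← Submodule.Quotient.mk_smul, Submodule.Quotient.mk_eq_zero] at ham
  refine ⟨a.natAbs, Int.natAbs_pos.mpr ha, ?_⟩
  rw [← natCast_zsmul, Int.natCast_natAbs]
  rcases abs_choice a with e | e <;> rw [e]
  · exact ham
  · rw [neg_smul]; exact neg_mem ham

end Groth.Agent.RootSys
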