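import Groth.Agent.RootSys.BorelSign

/-!
# The opposite Borel subgroup with respect to a split maximal torus
-/

set_option autoImplicit false
set_option backward.isDefEq.respectTransparency false
set_option linter.style.haveILetI false
set_option maxHeartbeats 1000000
set_option synthInstance.maxHeartbeats 400000

universe u

open CategoryTheory Limits MonoidalCategory CartesianMonoidalCategory MonObj AlgebraicGeometry LieS
open scoped CategoryTheory.Obj

noncomputable section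

namespace Groth.Agent.RootSys

open Groth.Agent.HomDiag Groth.Agent.DynPar
open Groth.Agent.DynPar.Der (dv uB pl sG)

variable {k : Type u} [Field k] {G : Over (Spec (CommRingCat.of k))} [GrpObj G] [IsAffine G.left]
  {T : Over (Spec (CommRingCat.of k))} [GrpObj T] {M : Type} [AddCommGroup M] [Module.Free ℤ M] [Module.Finite ℤ M]

omit [IsAffine G.left] [Module.Free ℤ M] [Module.Finite ℤ M] in
theorem isCentralizerOf_split (hG : Red.IsReductive G) (i : T ⟶ G) (hT : Red.IsMaximalTorus i)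
    (E : Grp.mk T ≅ Grp.mk (Red.DS (Spec (CommRingCat.of k)) M)) [IsMonHom (E.inv.hom.hom ≫ i)] :
    Red.IsCentralizerOf (E.inv.hom.hom ≫ i) i := by
  have hz := RedCartan.isCentralizerOf_self hG i hT
  have h1 : E.hom.hom.hom ≫ E.inv.hom.hom = 𝟙 T := congrArg (fun z => z.hom.hom) E.hom_inv_id
  refine ⟨hz.1, hz.2.1, fun X g => ⟨fun hg X' x t => ?_, fun hg => (hz.2.2 X g).2 fun X' x t => ?_⟩⟩
  · rw [← Category.assoc t]
    exact (hz.2.2 X g).1 hg X' x (t ≫ E.inv.hom.hom)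
  · have := hg X' x (t ≫ E.hom.hom.hom)
    rwa [Category.assoc, reassoc_of% h1] at this

omit [Module.Free ℤ M] [Module.Finite ℤ M] in
/-- A functional killing no root has the torus as its centraliser. -/
theorem isCentralizerOf_sign [Smooth G.hom] [ConnectedSpace G.left] (hG : Red.IsReductive G) (i : T ⟶ G)
    (hT : Red.IsMaximalTorus i) (E : Grp.mk T ≅ Grp.mk (Red.DS (Spec (CommRingCat.of k)) M))
    [IsMonHom (E.inv.hom.hom ≫ i)] (mu : M →+ ℤ)
    (hmu : ∀ (v : Lie G k (fk k)) (d : M), IsWt (E.inv.hom.hom ≫ i) v d → v ≠ 1 → d ≠ 0 → mu d ≠ 0) :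
    Red.IsCentralizerOf (Red.DSmap (Spec (CommRingCat.of k)) mu ≫ E.inv.hom.hom ≫ i) i := by
  classical
  let S := Spec (CommRingCat.of k)
  let c := E.inv.hom.hom ≫ i
  haveI := hT.1; haveI := hT.2.1
  haveI : IsAffineHom G.hom := hG.1
  haveI := Chev.locallyOfFiniteType_of_isTorus hT.2.2.1
  haveI := Chev.smooth_of_isTorus hT.2.2.1
  haveI := Chev.isAffine_of_isTorus hT.2.2.1
  have hci : IsClosedImmersion i.left := MTBridge.isClosedImmersion_of_mono
    (MTBridge.locally_of_isMultTypeFT' T (MTBridge.isMultTypeFT_of_isTorus T hT.2.2.1)) inferInstance i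
  have hzc := isCentralizerOf_split hG i hT E
  obtain ⟨Z, _, z, hz, hzcl, hzs⟩ := exists_centralizer_DS (G := G) inferInstance inferInstance (Red.DSmap S mu ≫ c)
  haveI := hzcl; haveI := hzs; haveI := hz.1
  haveI : Mono z := hz.2.1
  haveI : IsAffine Z.left := isAffine_of_isAffineHom z.left
  haveI : IsAffineHom Z.hom := isAffineHom_of_isAffine Z.hom
  obtain ⟨P, _, p, hp⟩ := exists_isP (G := G) (Red.DSmap S mu ≫ c)
  obtain ⟨U, _, u, hu⟩ := exists_isU (G := G) (Red.DSmap S mu ≫ c)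
  have hZconn : ∀ s, ConnectedSpace (Red.geomFibre s Z).left := fun s =>
    (geom_fibre inferInstance (fun s => (hG.2.2 s).2.2.1) hp hu hz s).2.2.1
  have h1 : E.hom.hom.hom ≫ E.inv.hom.hom = 𝟙 T := congrArg (fun z => z.hom.hom) E.hom_inv_id
  obtain ⟨t, ht⟩ := (hz.2.2 T i).2 fun X' x h => by
    have := (hzc.2.2 _ i).1 ⟨𝟙 T, Category.id_comp _⟩ X' x (h ≫ Red.DSmap S mu)
    rwa [Category.assoc] at this
  haveI : IsMonHom t := MTSplit.isMonHom_of_comp_mono t z i ht
  haveI : IsClosedImmersion t.left := by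
    haveI : IsClosedImmersion (t.left ≫ z.left) := by rw [← Over.comp_left, ht]; exact hci
    exact IsClosedImmersion.of_comp t.left z.left
  let cZ : Red.DS S M ⟶ Z := E.inv.hom.hom ≫ t
  have hcZ : cZ ≫ z = c := by show (_ ≫ t) ≫ z = _; rw [Category.assoc, ht]
  haveI : IsMonHom cZ := MTSplit.isMonHom_of_comp_mono cZ z c hcZ
  haveI : IsIso t := by
    refine DynPar.isIso_of_lie t inferInstance hzs inferInstance hZconn fun B _ _ => eq_top_iff.2 fun v _ => ?_
    obtain ⟨F, w, hw, hwt, hv⟩ := exists_wt_decomp cZ v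
    rw [hv]
    refine Subgroup.prod_mem _ fun d _ => ?_
    by_cases hw1 : w d = 1
    · rw [hw1]; exact Subgroup.one_mem _
    have hG' : IsWt c (LieS.map B _ z (w d)) d := IsWt.map (c := cZ) (φ := z) (hwt d) c hcZ
    have hne : LieS.map B _ z (w d) ≠ 1 := fun e => hw1 (map_injective z (e.trans (map_one _).symm))
    have h0 : IsWt (Red.DSmap S mu ≫ c) (LieS.map B _ z (w d)) 0 :=
      (mem_ZSub_iff_isWt_zero _ _).1 (mem_ZSub_of_centralizer hz ((w d).1 : pt (DualNumber B) (fd _) ⟶ Z))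
    have hmd : mu d = 0 := by
      by_contra h
      exact hne (IsWt.eq_one (c := Red.DSmap S mu ≫ c) (IsWt.DSmap (c := c) hG' mu) h0 h)
    have hd : d = 0 := by
      by_contra h
      obtain ⟨x, hx, hx1⟩ := exists_wt_field hG' hne
      exact hmu x d hx hx1 h hmd
    subst hd
    obtain ⟨y, hy⟩ := exists_centralizer_lift hzc ((mem_ZSub_iff_isWt_zero _ _).2 hG')
    let y' : dpt B _ ⟶ T := y
    have hy' : y' ≫ i = (LieS.map B _ z (w 0)).1 := hy
    refine ⟨⟨y', (mem_Lie_iff T B _ _).2 ?_⟩, trivial, map_injective z (Subtype.ext ?_)⟩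
    · rw [← cancel_mono i, Category.assoc, hy', (mem_Lie_iff G B _ _).1 (LieS.map B _ z (w 0)).2, MonObj.one_comp]
    · show (y' ≫ t) ≫ z = _
      rw [Category.assoc, ht, hy']
  refine ⟨hT.1, hT.2.1, fun X g => ?_⟩
  rw [← hz.2.2 X g]
  exact ⟨fun ⟨x, hx⟩ => ⟨x ≫ t, by rw [Category.assoc, ht, hx]⟩,
    fun ⟨x, hx⟩ => ⟨x ≫ inv t, by rw [← ht, Category.assoc, IsIso.inv_hom_id_assoc, hx]⟩⟩

omit [IsAffine G.left] in
/-- The torus in the geometric fibre. -/
theorem isMaxTorus_bc_split [IsAffine G.left] [Smooth G.hom] [ConnectedSpace G.left] (i : T ⟶ G)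
    (hT : Red.IsMaximalTorus i) (E : Grp.mk T ≅ Grp.mk (Red.DS (Spec (CommRingCat.of k)) M))
    [IsMonHom (E.inv.hom.hom ≫ i)] (s : ↥(Spec (CommRingCat.of k))) :
    AGF.IsMaxTorus (bcHom' (Red.geomPt s) (E.inv.hom.hom ≫ i)) := by
  let j := Red.geomPt s
  let F := Over.pullback j
  haveI := hT.1
  obtain ⟨-, -, -, -, hKT⟩ := Chev.Borel.geom_setting i hT s
  haveI := hKT.2.1; haveI := hKT.1
  haveI : IsMonHom E.inv.hom.hom := E.inv.hom.isMonHom_hom
  haveI : IsIso E.inv.hom.hom := inferInstanceAs (IsIso ((Grp.forget _).map E.inv))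
  haveI := isIso_ej j M
  have hiK : bcHom' j (E.inv.hom.hom ≫ i) = (ej j M ≫ F.map E.inv.hom.hom) ≫ F.map i := by
    show ej j _ ≫ F.map (E.inv.hom.hom ≫ i) = _
    rw [Category.assoc, ← F.map_comp]
  haveI : Mono (bcHom' j (E.inv.hom.hom ≫ i)) := by rw [hiK]; exact mono_comp _ _
  obtain ⟨r, ⟨em⟩⟩ := exists_lattice (S := Spec (CommRingCat.of k)) hT.2.2.1 ⟨E⟩
  haveI : AddGroup.FG M := AddGroup.fg_of_surjective (f := em.symm.toAddMonoidHom) em.symm.surjective
  obtain ⟨q⟩ := MTQuot.nonempty_DS_congr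
    (S := Spec (CommRingCat.of (AlgebraicClosure ((Spec (CommRingCat.of k)).residueField s)))) em
  let K := AlgebraicClosure ((Spec (CommRingCat.of k)).residueField s)
  let q' : Red.DS (Spec (CommRingCat.of K)) (Fin r → ℤ) ≅ Red.DS (Spec (CommRingCat.of K)) M :=
    (Grp.forget _).mapIso q
  haveI : IsMonHom q'.hom := q.hom.hom.isMonHom_hom
  refine ⟨inferInstance, inferInstance, Chev.Borel.isTorus_of_iso q' (Chev.CharQuot.isTorus_DS r),
    fun T' _ w _ _ g hT' hg => ?_⟩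
  have := hKT.2.2.2 T' w (inv (ej j M ≫ F.map E.inv.hom.hom) ≫ g) hT' (by
    rw [Category.assoc, hg, hiK, IsIso.inv_hom_id_assoc])
  haveI := this
  exact IsIso.of_isIso_comp_left (inv (ej j M ≫ F.map E.inv.hom.hom)) g

/-- The groups of limits of functionals killing no root are Borel subgroups. -/
theorem isBorel_of_sign [Smooth G.hom] [ConnectedSpace G.left] (hG : Red.IsReductive G) (i : T ⟶ G)
    (hT : Red.IsMaximalTorus i) (E : Grp.mk T ≅ Grp.mk (Red.DS (Spec (CommRingCat.of k)) M))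
    [IsMonHom (E.inv.hom.hom ≫ i)] (mu : M →+ ℤ)
    (hmu : ∀ (v : Lie G k (fk k)) (d : M), IsWt (E.inv.hom.hom ≫ i) v d → v ≠ 1 → d ≠ 0 → mu d ≠ 0)
    {P : Over (Spec (CommRingCat.of k))} [GrpObj P] (p : P ⟶ G)
    (hp : IsP (Red.DSmap (Spec (CommRingCat.of k)) mu ≫ E.inv.hom.hom ≫ i) p) : Red.IsBorel p := by
  haveI : IsAffineHom G.hom := hG.1
  haveI : AddGroup.FG M := Module.Finite.iff_addGroup_fg.1 inferInstance
  refine ⟨hp.1, hp.2.1, smooth_isP inferInstance _ hp, fun s => ?_⟩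
  let j := Red.geomPt s
  haveI := isMaxTorus_bc_split i hT E s |>.1
  have hKmax := isMaxTorus_bc_split i hT E s
  haveI := hKmax.2.1
  obtain ⟨hKs, hKa, hKc, -, -⟩ := Chev.Borel.geom_setting i hT s
  haveI := hKs; haveI := hKa; haveI := hKc
  have hred : Red.IsReductiveOver _ ((Over.pullback j).obj G) := hG.2.2 s
  refine isBorelOver_of_regular hred _ hKmax (exists_isCentralizerOf_self hred _ hKmax) mu
    (fun B _ f g hg => ?_) _ (bcHom'_DSmap j mu (E.inv.hom.hom ≫ i) ▸ hp.bc j)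
  have h1 := bcHom'_DSmap j mu (E.inv.hom.hom ≫ i) ▸ centralizer_bc j (isCentralizerOf_sign hG i hT E mu hmu)
  obtain ⟨y, rfl⟩ := exists_centralizer_lift h1 hg
  exact mem_ZSub_of_centralizer (centralizer_bc j (isCentralizerOf_split hG i hT E)) y

omit [Module.Free ℤ M] [Module.Finite ℤ M] in
/-- Two opposite groups of limits meet in the torus. -/
theorem isPullback_opp (i : T ⟶ G) (E : Grp.mk T ≅ Grp.mk (Red.DS (Spec (CommRingCat.of k)) M))
    [IsMonHom (E.inv.hom.hom ≫ i)] (mu : M →+ ℤ)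
    (hz : Red.IsCentralizerOf (Red.DSmap (Spec (CommRingCat.of k)) mu ≫ E.inv.hom.hom ≫ i) i)
    {P Q : Over (Spec (CommRingCat.of k))} [GrpObj P] [GrpObj Q] {p : P ⟶ G} {q : Q ⟶ G}
    (hp : IsP (Red.DSmap (Spec (CommRingCat.of k)) mu ≫ E.inv.hom.hom ≫ i) p)
    (hq : IsP (Red.DSmap (Spec (CommRingCat.of k)) (-mu) ≫ E.inv.hom.hom ≫ i) q)
    (t : T ⟶ P) (ht : t ≫ p = i) (t' : T ⟶ Q) (ht' : t' ≫ q = i) : IsPullback t t' p q := by
  haveI := hp.2.1; haveI := hq.2.1; haveI := hz.2.1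
  haveI : Mono p := Over.mono_of_mono_left p
  haveI : Mono q := Over.mono_of_mono_left q
  have key : ∀ s : PullbackCone p q, ∃ x, x ≫ i = s.fst ≫ p := fun s => by
    refine (hz.2.2 _ _).2 ((inF_ZFam_iff (c := Red.DSmap (Spec (CommRingCat.of k)) mu ≫ E.inv.hom.hom ≫ i) _).1
      fun B _ f y => (mem_ZSub_iff (E.inv.hom.hom ≫ i) mu gens_univ).2 fun a ha m hm => ?_)
    rcases lt_or_gt_of_ne hm with h | h
    · exact (mem_PSub_iff _ mu gens_univ).1 (hp.exists_fac_iff.1 ⟨y ≫ s.fst, Category.assoc _ _ _⟩) a ha m h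
    · exact (mem_PSub_iff _ (-mu) gens_univ).1 (hq.exists_fac_iff.1 ⟨y ≫ s.snd, by rw [Category.assoc, s.condition]⟩)
        a ha m (by rw [AddMonoidHom.neg_apply]; omega)
  choose l hl using key
  refine IsPullback.of_isLimit' ⟨ht.trans ht'.symm⟩ (PullbackCone.IsLimit.mk _ l (fun s => ?_) (fun s => ?_)
    (fun s m hm _ => ?_))
  · rw [← cancel_mono p, Category.assoc, ht, hl]
  · rw [← cancel_mono q, Category.assoc, ht', hl, s.condition]
  · rw [← cancel_mono i, hl]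
    rw [← hm]
    show m ≫ i = (m ≫ t) ≫ p
    rw [Category.assoc, ht]

/-- A weight cannot be non-negative on two groups of limits meeting in the torus. -/
theorem weight_zero_of_pullback (hG : Red.IsReductive G) (i : T ⟶ G) (hT : Red.IsMaximalTorus i)
    (E : Grp.mk T ≅ Grp.mk (Red.DS (Spec (CommRingCat.of k)) M)) [IsMonHom (E.inv.hom.hom ≫ i)] (mu nu : M →+ ℤ)
    {P Q : Over (Spec (CommRingCat.of k))} [GrpObj P] [GrpObj Q] {p : P ⟶ G} {q : Q ⟶ G} [IsMonHom p] [IsMonHom q]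
    (hp : IsP (Red.DSmap (Spec (CommRingCat.of k)) mu ≫ E.inv.hom.hom ≫ i) p)
    (hq : IsP (Red.DSmap (Spec (CommRingCat.of k)) nu ≫ E.inv.hom.hom ≫ i) q)
    {t : T ⟶ P} {t' : T ⟶ Q} (hpb : IsPullback t t' p q) (ht : t ≫ p = i)
    {v : Lie G k (fk k)} {d : M} (hv : IsWt (E.inv.hom.hom ≫ i) v d) (hv1 : v ≠ 1) (h1 : 0 ≤ mu d) (h2 : 0 ≤ nu d) :
    d = 0 := by
  obtain ⟨a, ha⟩ := exists_map_eq _ mu hp hv h1
  obtain ⟨b, hb⟩ := exists_map_eq _ nu hq hv h2
  have hw : (a.1 ≫ p : dpt k (fk k) ⟶ G) = b.1 ≫ q :=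
    (congrArg Subtype.val ha).trans (congrArg Subtype.val hb).symm
  let x : dpt k (fk k) ⟶ T := hpb.lift a.1 b.1 hw
  have hx : x ≫ i = v.1 := by
    rw [← ht, ← Category.assoc, hpb.lift_fst]
    exact congrArg Subtype.val ha
  have h0 : IsWt (E.inv.hom.hom ≫ i) v 0 := (mem_ZSub_iff_isWt_zero _ v).1 (by
    have := mem_ZSub_of_centralizer (isCentralizerOf_split hG i hT E) (x : pt (DualNumber k) (fd (fk k)) ⟶ T)
    rw [show ((x : pt (DualNumber k) (fd (fk k)) ⟶ T) ≫ i) = v.1 from hx] at this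
    exact this)
  by_contra hd
  exact hv1 (IsWt.eq_one (c := E.inv.hom.hom ≫ i) hv h0 hd)

end Groth.Agent.RootSys
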