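import Groth.Agent.RootSys.Weight

/-!
# Tangent vectors and their weights after base change
-/

set_option autoImplicit false
set_option backward.isDefEq.respectTransparency false
set_option linter.style.haveILetI false
set_option maxHeartbeats 1000000
set_option synthInstance.maxHeartbeats 400000

universe u

open CategoryTheory Limits MonoidalCategory CartesianMonoidalCategory MonObj AlgebraicGeometry LieS
open scoped CategoryTheory.Obj

noncomputable section

namespace Groth.Agent.RootSys

open Groth.Agent.HomDiag Groth.Agent.DynPar Groth.Agent.MTCentre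
open Groth.Agent.DynPar.Der (dv uB pl sG)

theorem coeff_rp_orb {S : Scheme.{u}} [IsAffine S] {G : Over S} [GrpObj G] [IsAffine G.left] {M : Type} [AddCommGroup M]
    (c : Red.DS S M ⟶ G) [IsMonHom c] {B : Type u} [CommRing B] {f : Spec (CommRingCat.of B) ⟶ S} (g : pt B f ⟶ G)
    (x : Γ(G.left, ⊤)) (m : M) : (rp (orb f c g) x).coeff m = rp g (wc c x m) := by
  classical
  conv_lhs => rw [← Category.id_comp c, ← DSmap_id]
  rw [rp_orb, AddMonoidAlgebra.coeff_sum, Finset.sum_apply']
  simp only [AddMonoidAlgebra.coeff_single, Finsupp.single_apply, AddMonoidHom.id_apply]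
  rw [Finset.sum_ite_eq']
  split_ifs with h
  · rfl
  · rw [wc_eq_zero_of_notMem _ h, map_zero]

variable {R R' : Type u} [CommRing R] [CommRing R'] (j : Spec (CommRingCat.of R') ⟶ Spec (CommRingCat.of R))
  {G : Over (Spec (CommRingCat.of R))} [GrpObj G]

/-- The functions pulled back to the base change. -/
def bcFun : Γ(G.left, ⊤) →+* Γ((Red.bc j G).left, ⊤) := (pullback.fst G.hom j).appTop.hom

variable {B : Type u} [CommRing B] {fa : Spec (CommRingCat.of B) ⟶ Spec (CommRingCat.of R')}
  {fb : Spec (CommRingCat.of B) ⟶ Spec (CommRingCat.of R)}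

omit [GrpObj G] in
theorem rp_down (e : fa ≫ j = fb) (g : pt B fb ⟶ G) (x : Γ(G.left, ⊤)) : rp (down j e g) (bcFun j x) = rp g x := by
  have e1 : g.left = (down j e g).left ≫ pullback.fst G.hom j := by
    symm
    rw [down, MTBridge.toBC, Adjunction.homEquiv_unit]
    simp [Over.mapPullbackAdj, upId']
    exact Category.id_comp _
  show _ = (Scheme.ΓSpecIso (CommRingCat.of B)).hom (g.left.appTop x)
  rw [e1, Scheme.Hom.comp_appTop]
  rfl

variable [IsAffine G.left]

theorem bcFun_wc {M : Type} [AddCommGroup M] (c : Red.DS (Spec (CommRingCat.of R)) M ⟶ G) [IsMonHom c]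
    [IsAffine (Red.bc j G).left] (x : Γ(G.left, ⊤)) (m : M) :
    wc (bcHom' j c) (bcFun j x) m = bcFun j (wc c x m) := by
  let X := Red.bc j G
  let y : pt Γ(X.left, ⊤) (X.left.isoSpec.inv ≫ X.hom) ⟶ X := Over.homMk X.left.isoSpec.inv rfl
  have hy : rp y = RingHom.id _ := by
    rw [← rep_left_eq_rp]
    refine Der.rep_eq ?_
    rw [CommRingCat.ofHom_id, Spec.map_id, Category.id_comp]
    rfl
  let g := up j (rfl : (X.left.isoSpec.inv ≫ X.hom) ≫ j = _) y
  have hd : down j rfl g = y := down_up j rfl y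
  have h := congrArg (fun p => (rp p (bcFun j x)).coeff m) (down_orb j rfl c g)
  rw [rp_down, coeff_rp_orb, coeff_rp_orb, hd, hy, RingHom.id_apply] at h
  rw [← h, ← rp_down j rfl g, hd, hy, RingHom.id_apply]

theorem fd_comp (e : fa ≫ j = fb) : fd fa ≫ j = fd fb := by rw [fd, fd, Category.assoc, e]

/-- Tangent vectors over the new base. -/
def lieDown (e : fa ≫ j = fb) : Lie G B fb →* Lie (Red.bc j G) B fa where
  toFun v := ⟨(down j (fd_comp j e) (v.1 : pt (DualNumber B) (fd fb) ⟶ G) : pt (DualNumber B) (fd fa) ⟶ Red.bc j G), by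
    have h := qm_down j (fd_comp j e) e (TrivSqZeroExt.fstHom B B B).toRingHom (Over.w (zeroSec B fa))
      (Over.w (zeroSec B fb)) (v.1 : pt (DualNumber B) (fd fb) ⟶ G)
    rw [mem_Lie_iff]
    refine h.symm.trans ?_
    rw [show qm (TrivSqZeroExt.fstHom B B B).toRingHom (Over.w (zeroSec B fb)) ≫
      (v.1 : pt (DualNumber B) (fd fb) ⟶ G) = 1 from (mem_Lie_iff G B fb v.1).1 v.2]
    exact map_one (upEquiv j e (G := G))⟩
  map_one' := Subtype.ext (map_one (upEquiv j (fd_comp j e) (G := G)))
  map_mul' v w := Subtype.ext (map_mul (upEquiv j (fd_comp j e) (G := G)) v.1 w.1)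

variable [IsAffine (Red.bc j G).left]

theorem dv_lieDown (e : fa ≫ j = fb) (v : Lie G B fb) (x : Γ(G.left, ⊤)) :
    dv (lieDown j e v) (bcFun j x) = dv v x := by
  rw [← rp_vec_snd, ← rp_vec_snd]
  exact congrArg TrivSqZeroExt.snd (rp_down j (fd_comp j e) (v.1 : pt (DualNumber B) (fd fb) ⟶ G) x)

omit [IsAffine G.left] [IsAffine (Red.bc j G).left] in
theorem lieDown_surjective (e : fa ≫ j = fb) : Function.Surjective (lieDown j e (G := G)) := by
  intro w
  let v : pt (DualNumber B) (fd fb) ⟶ G := up j (fd_comp j e) (w.1 : pt (DualNumber B) (fd fa) ⟶ Red.bc j G)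
  refine ⟨⟨v, ?_⟩, Subtype.ext (down_up j (fd_comp j e) _)⟩
  have h := qm_down j (fd_comp j e) e (TrivSqZeroExt.fstHom B B B).toRingHom (Over.w (zeroSec B fa))
    (Over.w (zeroSec B fb)) v
  rw [mem_Lie_iff]
  refine (upEquiv j e (G := G)).injective ((h.trans ?_).trans (map_one (upEquiv j e (G := G))).symm)
  rw [show down j (fd_comp j e) v = (w.1 : pt (DualNumber B) (fd fa) ⟶ Red.bc j G) from down_up j (fd_comp j e) _]
  exact (mem_Lie_iff (Red.bc j G) B fa w.1).1 w.2

theorem eq_one_of_dv_bcFun (e : fa ≫ j = fb) {w : Lie (Red.bc j G) B fa}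
    (h : ∀ x, dv w (bcFun j x) = 0) : w = 1 := by
  obtain ⟨v, rfl⟩ := lieDown_surjective j e w
  rw [show v = 1 from Der.dv_injective (funext fun x => by rw [Der.dv_one, ← dv_lieDown j e, h]), map_one]

theorem eq_of_dv_bcFun (e : fa ≫ j = fb) {w w' : Lie (Red.bc j G) B fa}
    (h : ∀ x, dv w (bcFun j x) = dv w' (bcFun j x)) : w = w' := by
  obtain ⟨v, rfl⟩ := lieDown_surjective j e w
  obtain ⟨v', rfl⟩ := lieDown_surjective j e w'
  exact congrArg _ (Der.dv_injective (funext fun x => by rw [← dv_lieDown j e, h, dv_lieDown]))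

theorem lieDown_injective (e : fa ≫ j = fb) : Function.Injective (lieDown j e (G := G) (B := B)) := fun v w h =>
  Der.dv_injective (funext fun x => by rw [← dv_lieDown j e, h, dv_lieDown])

theorem lieDown_smul (e : fa ≫ j = fb) (b : B) (v : Lie G B fb) : lieDown j e (b • v) = b • lieDown j e v :=
  eq_of_dv_bcFun j e fun x => by rw [dv_lieDown, Der.dv_smul, Der.dv_smul, dv_lieDown]

variable {M : Type} [AddCommGroup M] (c : Red.DS (Spec (CommRingCat.of R)) M ⟶ G) [IsMonHom c]

/-- Weights are unchanged by base change. -/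
theorem isWt_lieDown_iff [LocallyOfFiniteType G.hom] (e : fa ≫ j = fb) (v : Lie G B fb) (a : M) :
    IsWt (bcHom' j c) (lieDown j e v) a ↔ IsWt c v a := by
  refine ⟨fun h x m hm => ?_, fun h x m hm => ?_⟩
  · rw [← dv_lieDown j e, ← bcFun_wc, h _ m hm]
  · obtain ⟨u, hu⟩ := exists_comp (bcHom' j c) (lieDown j e v) m
    rw [← hu, eq_one_of_dv_bcFun j e (w := u) (fun y => by rw [hu, bcFun_wc, dv_lieDown, h y m hm]), Der.dv_one]

end Groth.Agent.RootSys
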