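import Groth.Agent.RootSys.Global
import Groth.Agent.RootSys.Bridge
import Groth.Agent.DynPar.SplitTorus
import Groth.Agent.DynPar.FieldBorel

/-!
# Roots of a split reductive group over a field
-/

set_option autoImplicit false
set_option backward.isDefEq.respectTransparency false
set_option linter.style.haveILetI false
set_option maxHeartbeats 1000000
set_option synthInstance.maxHeartbeats 400000

universe u v

open CategoryTheory Limits MonoidalCategory CartesianMonoidalCategory MonObj AlgebraicGeometry LieS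
open scoped CategoryTheory.Obj

noncomputable section

namespace Groth.Agent.RootSys

open Groth.Agent.HomDiag Groth.Agent.DynPar Groth.Agent.RootIntrinsic
open Groth.Agent.DynPar.Der (dv uB pl sG)

variable {k : Type u} [Field k]

theorem chi_zero (M : Type) [AddCommGroup M] : Red.chi (Spec (CommRingCat.of k)) (0 : M) = 1 :=
  ch_ext fun m => by
    rw [Red.chi, ← Category.id_comp (Red.DSmap _ _), ch_DSmap,
      show (zmultiplesHom M (0 : M) : ℤ →+ M) m.toAdd = 0 from smul_zero _]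
    rw [ofAdd_zero, map_one, ch_one]

theorem chi_injective (M : Type) [AddCommGroup M] : Function.Injective (Red.chi (Spec (CommRingCat.of k)) (M := M)) :=
  fun a b h => by
    have e := congr($(DSmap_injective (k := k) h) (1 : ℤ))
    simpa using e

theorem exists_eq_chi {M : Type} [AddCommGroup M]
    (α : Red.DS (Spec (CommRingCat.of k)) M ⟶ Red.Gm (Spec (CommRingCat.of k))) [IsMonHom α] :
    ∃ a : M, α = Red.chi _ a := by
  obtain ⟨θ, hθ⟩ := Chev.CharQuot.exists_DSmap (k := k) (M := M) (N := ℤ) α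
  exact ⟨θ 1, hθ.trans (congrArg (Red.DSmap _) (AddMonoidHom.ext_int (by simp)))⟩

/-- The structure map of the ground field. -/
abbrev fk (k : Type u) [Field k] : Spec (CommRingCat.of k) ⟶ Spec (CommRingCat.of k) :=
  Spec.map (CommRingCat.ofHom (algebraMap k k))

/-- A split torus of a reductive group as a diagonalisable group, with its base change to an algebraic closure. -/
theorem exists_closure_setting {G : Over (Spec (CommRingCat.of k))} [GrpObj G] [IsAffine G.left] [Smooth G.hom]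
    [ConnectedSpace G.left] (hG : Red.IsReductive G) {T : Over (Spec (CommRingCat.of k))} [GrpObj T] (i : T ⟶ G)
    (hT : Red.IsMaximalTorus i) {M : Type} [AddCommGroup M]
    (E : Grp.mk T ≅ Grp.mk (Red.DS (Spec (CommRingCat.of k)) M)) [IsMonHom (E.inv.hom.hom ≫ i)] :
    ∃ (K : Type u) (_ : Field K) (_ : IsAlgClosed K) (φ : k →+* K),
      IsAffine (Red.bc (Spec.map (CommRingCat.ofHom φ)) G).left ∧
      Red.IsReductiveOver K (Red.bc (Spec.map (CommRingCat.ofHom φ)) G) ∧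
      AGF.IsMaxTorus (bcHom' (Spec.map (CommRingCat.ofHom φ)) (E.inv.hom.hom ≫ i)) := by
  let s : ↥(Spec (CommRingCat.of k)) := IsLocalRing.closedPoint k
  let K := AlgebraicClosure ((Spec (CommRingCat.of k)).residueField s)
  obtain ⟨φ, hφ⟩ := Spec.map_surjective (Red.geomPt s)
  refine ⟨K, inferInstance, inferInstance, φ.hom, ?_⟩
  rw [CommRingCat.ofHom_hom, hφ]
  let j := Red.geomPt s
  let F := Over.pullback j
  haveI := hT.1; haveI := hT.2.1
  obtain ⟨-, hKa, -, -, hKT⟩ := Chev.Borel.geom_setting i hT s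
  haveI := hKa
  refine ⟨hKa, hG.2.2 s, ?_⟩
  haveI : IsMonHom E.inv.hom.hom := E.inv.hom.isMonHom_hom
  haveI : IsIso E.inv.hom.hom := inferInstanceAs (IsIso ((Grp.forget _).map E.inv))
  haveI := isIso_ej j M
  let iK := bcHom' j (E.inv.hom.hom ≫ i)
  have hiK : iK = (ej j M ≫ F.map E.inv.hom.hom) ≫ F.map i := by
    show ej j _ ≫ F.map (E.inv.hom.hom ≫ i) = _
    rw [Category.assoc, ← F.map_comp]
  haveI := hKT.2.1
  haveI : Mono iK := by rw [hiK]; exact mono_comp _ _
  refine ⟨inferInstance, inferInstance, ?_, fun T' _ w _ _ g hT' hg => ?_⟩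
  · obtain ⟨r, ⟨e⟩⟩ := exists_lattice (S := Spec (CommRingCat.of k)) hT.2.2.1 ⟨E⟩
    haveI : AddGroup.FG M := AddGroup.fg_of_surjective (f := e.symm.toAddMonoidHom) e.symm.surjective
    haveI : Module.Free ℤ M := Module.Free.of_equiv e.symm.toIntLinearEquiv
    haveI : Module.Finite ℤ M := Module.Finite.equiv e.symm.toIntLinearEquiv
    obtain ⟨q⟩ := MTQuot.nonempty_DS_congr (S := Spec (CommRingCat.of K)) e
    let q' : Red.DS (Spec (CommRingCat.of K)) (Fin r → ℤ) ≅ Red.DS (Spec (CommRingCat.of K)) M :=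
      (Grp.forget _).mapIso q
    haveI : IsMonHom q'.hom := q.hom.hom.isMonHom_hom
    exact Chev.Borel.isTorus_of_iso q' (Chev.CharQuot.isTorus_DS (k := K) r)
  · have := hKT.2.2.2 T' w (inv (ej j M ≫ F.map E.inv.hom.hom) ≫ g) hT' (by
      rw [Category.assoc, hg]; show _ ≫ iK = _; rw [hiK, IsIso.inv_hom_id_assoc])
    haveI := this
    exact IsIso.of_isIso_comp_left (inv (ej j M ≫ F.map E.inv.hom.hom)) g

variable {G : Over (Spec (CommRingCat.of k))} [GrpObj G] [IsAffine G.left]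

theorem uB_map {B B' : Type u} [CommRing B] [CommRing B'] {f : Spec (CommRingCat.of B) ⟶ Spec (CommRingCat.of k)}
    {f' : Spec (CommRingCat.of B') ⟶ Spec (CommRingCat.of k)} (h : B →+* B')
    (hf : Spec.map (CommRingCat.ofHom h) ≫ f = f') (a : Γ(G.left, ⊤)) : uB G f' a = h (uB G f a) := by
  rw [uB_eq, uB_eq, ← MonObj.comp_one (M := G) (qm h hf), rp_qm, RingHom.comp_apply]

/-- **Roots over a field**: opposite weights occur, proportional weights differ by a sign, weight spaces are lines. -/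
theorem field_rank_one [Smooth G.hom] [ConnectedSpace G.left] (hG : Red.IsReductive G)
    {T : Over (Spec (CommRingCat.of k))} [GrpObj T] (i : T ⟶ G) (hT : Red.IsMaximalTorus i) {M : Type} [AddCommGroup M]
    (E : Grp.mk T ≅ Grp.mk (Red.DS (Spec (CommRingCat.of k)) M)) [IsMonHom (E.inv.hom.hom ≫ i)]
    {v : Lie G k (fk k)} {d : M} (hv : IsWt (E.inv.hom.hom ≫ i) v d) (hd : d ≠ 0) (hv1 : v ≠ 1) :
    (∃ w : Lie G k (fk k), IsWt (E.inv.hom.hom ≫ i) w (-d) ∧ w ≠ 1) ∧
      ∀ (e : M) (w : Lie G k (fk k)), IsWt (E.inv.hom.hom ≫ i) w e → w ≠ 1 → e ≠ 0 →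
        (∃ a b : ℤ, b ≠ 0 ∧ b • e = a • d) → (e = d ∧ ∃ r : k, w = r • v) ∨ e = -d := by
  let c := E.inv.hom.hom ≫ i
  obtain ⟨r₀, ⟨eM⟩⟩ := exists_lattice (S := Spec (CommRingCat.of k)) hT.2.2.1 ⟨E⟩
  haveI : Module.Free ℤ M := Module.Free.of_equiv eM.symm.toIntLinearEquiv
  haveI : Module.Finite ℤ M := Module.Finite.equiv eM.symm.toIntLinearEquiv
  obtain ⟨K, _, _, φ, hKa, hKred, hKmax⟩ := exists_closure_setting hG i hT E
  haveI := hKa
  let j := Spec.map (CommRingCat.ofHom φ)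
  let fb : Spec (CommRingCat.of K) ⟶ Spec (CommRingCat.of k) := 𝟙 (Spec (CommRingCat.of K)) ≫ j
  have hφ : Spec.map (CommRingCat.ofHom φ) ≫ fk k = fb := by
    show _ ≫ Spec.map _ = 𝟙 _ ≫ _
    rw [Algebra.algebraMap_self, CommRingCat.ofHom_id, Spec.map_id, Category.comp_id, Category.id_comp]
  let L : Lie G k (fk k) → Lie (Red.bc j G) K (𝟙 _) := fun u => lieDown j (rfl : 𝟙 _ ≫ j = fb) (pl φ hφ u)
  have hL : ∀ (u : Lie G k (fk k)) (x : Γ(G.left, ⊤)), dv (L u) (bcFun j x) = φ (dv u x) := fun u x => by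
    rw [dv_lieDown, Der.dv_pl]
  have hLw : ∀ {u : Lie G k (fk k)} {e : M}, IsWt c u e → IsWt (bcHom' j c) (L u) e := fun hu =>
    (isWt_lieDown_iff j c rfl _ _).2 (IsWt.pl (c := c) hu φ hφ)
  have hL1 : ∀ {u : Lie G k (fk k)}, u ≠ 1 → L u ≠ 1 := fun hu h => hu (Der.dv_injective (funext fun x => φ.injective (by
    rw [← hL, h, Der.dv_one, Der.dv_one, map_zero])))
  obtain ⟨⟨w, hw, hw1⟩, hall⟩ := global_rank_one hKred (bcHom' j c) hKmax (hLw hv) hd (hL1 hv1)
  refine ⟨?_, fun e u hu hu1 he hab => ?_⟩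
  · -- descend the opposite vector
    obtain ⟨w', rfl⟩ := lieDown_surjective j (rfl : 𝟙 _ ≫ j = fb) w
    have hw' : IsWt c w' (-d) := (isWt_lieDown_iff j c rfl _ _).1 hw
    obtain ⟨x₀, hx₀⟩ : ∃ x, dv w' x ≠ 0 := by
      by_contra! h
      exact hw1 (by rw [show w' = 1 from Der.dv_injective (funext fun x => by rw [Der.dv_one, h]), map_one])
    letI : Algebra k K := φ.toAlgebra
    obtain ⟨lam, hlam⟩ : ∃ lam : K →ₗ[k] k, lam (dv w' x₀) ≠ 0 := by
      by_contra! h
      exact hx₀ ((Module.forall_dual_apply_eq_zero_iff k _).1 h)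
    have hu : ∀ a, uB G fb a = algebraMap k K (uB G (fk k) a) := fun a => uB_map φ hφ a
    obtain ⟨δ, hδ⟩ := Der.exists_of_der (G := G) (f := fk k) (fun x => lam (dv w' x))
      (fun a b => by rw [Der.dv_add, map_add])
      (fun a b => by
        rw [Der.dv_leibniz, map_add, hu, hu, ← Algebra.smul_def, mul_comm (dv w' a), ← Algebra.smul_def, LinearMap.map_smul,
          LinearMap.map_smul, smul_eq_mul, smul_eq_mul, mul_comm (lam (dv w' a))])
      (fun a => by rw [Der.dv_sG, map_zero])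
    refine ⟨δ, fun x m hm => ?_, fun h => hlam ?_⟩
    · rw [hδ, hw' x m hm, map_zero]
    · rw [← hδ, h, Der.dv_one]
  · rcases hall e (L u) (hLw hu) (hL1 hu1) he hab with ⟨rfl, r, hr⟩ | h
    · refine Or.inl ⟨rfl, ?_⟩
      have key : ∀ x, φ (dv u x) = r * φ (dv v x) := fun x => by
        rw [← hL, ← hL, hr, Der.dv_smul]
      obtain ⟨x₀, hx₀⟩ : ∃ x, dv v x ≠ 0 := by
        by_contra! h
        exact hv1 (Der.dv_injective (funext fun x => by rw [Der.dv_one, h]))
      refine ⟨dv u x₀ / dv v x₀, Der.dv_injective (funext fun x => φ.injective ?_)⟩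
      rw [Der.dv_smul, map_mul, map_div₀, key x₀, key x, mul_div_cancel_right₀ _ ((map_ne_zero φ).2 hx₀)]
    · exact Or.inr h

/-- Weight spaces of characters of a split torus. -/
theorem mem_weightSpOf_split {T : Over (Spec (CommRingCat.of k))} [GrpObj T] (i : T ⟶ G) {M : Type} [AddCommGroup M]
    (E : Grp.mk T ≅ Grp.mk (Red.DS (Spec (CommRingCat.of k)) M)) [IsMonHom (E.inv.hom.hom ≫ i)] (a : M)
    {B : Type u} [CommRing B] [Algebra k B] (v : LieR G B) :
    v ∈ LieWt.weightSpOf i (E.hom.hom.hom ≫ Red.chi _ a) B ↔ IsWt (E.inv.hom.hom ≫ i) v a := by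
  rw [← mem_weightSpOf_iff]
  have h1 : E.hom.hom.hom ≫ E.inv.hom.hom = 𝟙 T := congrArg (fun z => z.hom.hom) E.hom_inv_id
  have h2 : E.inv.hom.hom ≫ E.hom.hom.hom = 𝟙 _ := congrArg (fun z => z.hom.hom) E.inv_hom_id
  refine ⟨fun h B' _ _ φ t => ?_, fun h B' _ _ φ t => ?_⟩
  · have := h B' φ (t ≫ E.inv.hom.hom)
    simp only [VecGrp.chiVal, Category.assoc, reassoc_of% h2] at this ⊢
    exact this
  · have := h B' φ (t ≫ E.hom.hom.hom)
    simp only [VecGrp.chiVal, Category.assoc, reassoc_of% h1] at this ⊢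
    exact this

/-- Roots of a split torus. -/
theorem isRoot_iff {T : Over (Spec (CommRingCat.of k))} [GrpObj T] (i : T ⟶ G) {M : Type} [AddCommGroup M]
    (E : Grp.mk T ≅ Grp.mk (Red.DS (Spec (CommRingCat.of k)) M)) [IsMonHom (E.inv.hom.hom ≫ i)]
    (α : T ⟶ Red.Gm (Spec (CommRingCat.of k))) :
    LieWt.IsRoot i α ↔ ∃ a : M, a ≠ 0 ∧ α = E.hom.hom.hom ≫ Red.chi _ a ∧
      ∃ v : Lie G k (fk k), IsWt (E.inv.hom.hom ≫ i) v a ∧ v ≠ 1 := by
  haveI : IsMonHom E.inv.hom.hom := E.inv.hom.isMonHom_hom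
  haveI : IsMonHom E.hom.hom.hom := E.hom.hom.isMonHom_hom
  have h1 : E.hom.hom.hom ≫ E.inv.hom.hom = 𝟙 T := congrArg (fun z => z.hom.hom) E.hom_inv_id
  constructor
  · rintro ⟨hα, hα1, hne⟩
    haveI := hα
    obtain ⟨a, ha⟩ := exists_eq_chi (E.inv.hom.hom ≫ α)
    have hαa : α = E.hom.hom.hom ≫ Red.chi _ a := by rw [← ha, reassoc_of% h1]
    refine ⟨a, fun h => hα1 (by rw [hαa, h, chi_zero, MonObj.comp_one]), hαa, ?_⟩
    obtain ⟨v, hv, hv1⟩ : ∃ v, v ∈ LieWt.weightSpOf i α k ∧ v ≠ 1 := by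
      by_contra! h
      exact hne ((Subgroup.eq_bot_iff_forall _).2 fun x hx => h x hx)
    rw [hαa] at hv
    exact ⟨v, (mem_weightSpOf_split i E a v).1 hv, hv1⟩
  · rintro ⟨a, ha, rfl, v, hv, hv1⟩
    haveI : IsMonHom (Red.chi (Spec (CommRingCat.of k)) a) := inferInstanceAs (IsMonHom (Red.DSmap _ _))
    refine ⟨inferInstance, fun h => ha (chi_injective (k := k) M ?_), fun h => hv1 ?_⟩
    · have h2 : E.inv.hom.hom ≫ E.hom.hom.hom = 𝟙 _ := congrArg (fun z => z.hom.hom) E.inv_hom_id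
      rw [chi_zero (k := k), ← Category.id_comp (Red.chi _ a), ← h2, Category.assoc, h, MonObj.comp_one]
    · exact (Subgroup.eq_bot_iff_forall _).1 h v ((mem_weightSpOf_split i E a v).2 hv)

end Groth.Agent.RootSys
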