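import Groth.Agent.RootIntrinsic.LieDim
import Groth.Agent.RootSys.Field
import Groth.Agent.GLinFree.Dim
import Groth.Agent.RG.Dev.IntegralFibre

/-!
# Spanning tangent vectors bound the dimension from above
-/

set_option autoImplicit false
set_option backward.isDefEq.respectTransparency false
set_option linter.style.haveILetI false
set_option maxHeartbeats 1000000
set_option synthInstance.maxHeartbeats 400000

universe u

open CategoryTheory Limits MonoidalCategory CartesianMonoidalCategory MonObj AlgebraicGeometry LieS
open scoped CategoryTheory.Obj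

noncomputable section

namespace Groth.Agent.RootSys

open Groth.Agent.DynPar
open Groth.Agent.DynPar.Der (dv uB pl sG)

variable {k : Type u} [Field k] {G : Over (Spec (CommRingCat.of k))} [GrpObj G] [IsAffine G.left]

/-- **A family of tangent vectors detecting every tangent vector bounds the dimension.** -/
theorem dim_le_of_span [Smooth G.hom] [ConnectedSpace G.left] {J : Type} [Fintype J]
    (v : J → Lie G k (RootIntrinsic.f₀ (k := k)))
    (hspan : ∀ (w : Lie G k (RootIntrinsic.f₀ (k := k))) (a : Γ(G.left, ⊤)),
      (∀ j, dv (v j) a = 0) → dv w a = 0) :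
    topologicalKrullDim ↥G.left ≤ (Fintype.card J : WithBot ℕ∞) := by
  classical
  let A : Type u := Γ(G.left, ⊤)
  letI : Algebra k A := (sG G).toAlgebra
  haveI : Smooth (Spec.map (CommRingCat.ofHom (sG G))) := by rw [Der.specMap_sG]; infer_instance
  haveI : IsIntegral G.left := RGDev.isIntegral_of_smooth_connected G.hom
  haveI : Nonempty (⊤ : G.left.Opens) := ⟨⟨Classical.arbitrary G.left, trivial⟩⟩
  haveI : IsDomain A := inferInstanceAs (IsDomain Γ(G.left, ⊤))
  haveI : Algebra.FiniteType k A := by
    have h : LocallyOfFiniteType (Spec.map (CommRingCat.ofHom (sG G))) := inferInstance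
    exact HasRingHomProperty.Spec_iff.1 h
  let e : A →+* k := uB G (RootIntrinsic.f₀ (k := k))
  have hes : ∀ c, e (sG G c) = c := RootIntrinsic.uB_sG_apply
  let m : Ideal A := RingHom.ker e
  haveI : m.IsMaximal := RingHom.ker_isMaximal_of_surjective e fun c => ⟨sG G c, hes c⟩
  haveI : IsRegularLocalRing (Localization.AtPrime m) := RegLocus.of_stalk (CommRingCat.of A) ⟨m, inferInstance⟩
    (SmLocalST.isRegularLocalRing_stalk_of_smooth_field (Spec.map (CommRingCat.ofHom (sG G))) _)
  let F : A →ₗ[k] (J → k) :=
    { toFun := fun a j => dv (v j) a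
      map_add' := fun a b => funext fun j => Der.dv_add _ a b
      map_smul' := fun c a => funext fun j => by
        rw [Algebra.smul_def]
        show dv (v j) (sG G c * a) = c * dv (v j) a
        rw [Der.dv_leibniz, Der.dv_sG, zero_mul, add_zero]
        exact congrArg (· * _) (hes c) }
  let mk : Submodule k A := m.restrictScalars k
  let F' : mk →ₗ[k] (J → k) := F.comp mk.subtype
  let b := Module.finBasis k (LinearMap.range F')
  have hb : ∀ i, ∃ a : mk, F' a = (b i : J → k) := fun i => LinearMap.mem_range.1 (b i).2
  choose a ha using hb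
  have hm : m ≤ Ideal.span (Set.range fun i => (a i : A)) ⊔ m • m := by
    intro x hx
    have hxF : F' ⟨x, hx⟩ ∈ LinearMap.range F' := LinearMap.mem_range_self _ _
    let cx := b.repr ⟨_, hxF⟩
    let y : A := x - ∑ i, sG G (cx i) * (a i : A)
    have hy : y ∈ m := Ideal.sub_mem _ hx (Ideal.sum_mem _ fun i _ => Ideal.mul_mem_left _ _ (a i).2)
    suffices h : y ∈ m • m by
      rw [show x = (∑ i, sG G (cx i) * (a i : A)) + y by simp [y]]
      exact Submodule.add_mem_sup (Ideal.sum_mem _ fun i _ => Ideal.mul_mem_left _ _ (Ideal.subset_span ⟨i, rfl⟩)) h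
    have hFy : F y = 0 := by
      have h1 : F y = F' ⟨x, hx⟩ - ∑ i, cx i • F' (a i) := by
        show F (x - _) = _
        rw [map_sub, map_sum]
        congr 1
        exact Finset.sum_congr rfl fun i _ => by
          show F (sG G (cx i) * (a i : A)) = cx i • F (a i : A)
          exact (congrArg F (Algebra.smul_def (cx i) (a i : A)).symm).trans (LinearMap.map_smul F _ _)
      rw [h1, sub_eq_zero]
      have h2 := congrArg Subtype.val (b.sum_repr ⟨_, hxF⟩)
      simp only [Submodule.coe_sum, Submodule.coe_smul] at h2
      simp only [ha]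
      exact h2.symm
    rw [smul_eq_mul, ← pow_two]
    by_contra hne
    let m2 : Submodule k A := (m ^ 2).restrictScalars k
    obtain ⟨f, hf1, hf2⟩ : ∃ f : A →ₗ[k] k, f y ≠ 0 ∧ ∀ z ∈ m2, f z = 0 := by
      obtain ⟨f, hf1, hf2⟩ := Submodule.exists_dual_map_eq_bot_of_notMem (p := m2) hne inferInstance
      exact ⟨f, hf1, fun z hz => by
        have : f z ∈ m2.map f := Submodule.mem_map_of_mem hz
        rwa [hf2] at this⟩
    let π : A → A := fun z => z - sG G (e z)
    have hπ : ∀ z, π z ∈ m := fun z => by rw [RingHom.mem_ker, map_sub, hes, sub_self]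
    obtain ⟨w, hw⟩ := Der.exists_of_der (G := G) (f := RootIntrinsic.f₀ (k := k)) (fun z => f (π z))
      (fun z z' => by rw [← map_add]; congr 1; simp only [π, map_add]; abel)
      (fun z z' => by
        have h3 : π (z * z') = sG G (e z) * π z' + sG G (e z') * π z + π z * π z' := by
          simp only [π, map_mul]; ring
        rw [h3, map_add, map_add, hf2 (π z * π z') (by rw [Submodule.restrictScalars_mem, pow_two]; exact Ideal.mul_mem_mul (hπ z) (hπ z')),
          add_zero, show sG G (e z) * π z' = e z • π z' from (Algebra.smul_def _ _).symm,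
          show sG G (e z') * π z = e z' • π z from (Algebra.smul_def _ _).symm, LinearMap.map_smul, LinearMap.map_smul,
          smul_eq_mul, smul_eq_mul]
        ring)
      (fun z => by rw [show π (sG G z) = 0 by simp only [π, hes]; rw [sub_self], map_zero])
    refine hf1 ?_
    have := hspan w y fun j => congrFun hFy j
    rw [hw, show π y = y by simp only [π]; rw [show e y = 0 from hy, map_zero, sub_zero]] at this
    exact this
  let O := Localization.AtPrime m
  have hO : IsLocalRing.maximalIdeal O ≤ Ideal.span (Set.range fun i => algebraMap A O (a i)) := by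
    have h2 : (m.map (algebraMap A O)) = IsLocalRing.maximalIdeal O := Localization.AtPrime.map_eq_maximalIdeal
    refine Submodule.le_of_le_smul_of_le_jacobson_bot (I := IsLocalRing.maximalIdeal O) (IsNoetherian.noetherian _)
      (IsLocalRing.maximalIdeal_le_jacobson _) ?_
    conv_lhs => rw [← h2]
    refine (Ideal.map_mono hm).trans ?_
    rw [Ideal.map_sup, Ideal.map_span, smul_eq_mul, Ideal.map_mul, h2, smul_eq_mul, ← Set.range_comp]
    rfl
  have h4 : (IsLocalRing.maximalIdeal O).spanFinrank ≤ Fintype.card J := by
    have h5 : IsLocalRing.maximalIdeal O = Ideal.span (Set.range fun i => algebraMap A O (a i)) :=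
      le_antisymm hO (Ideal.span_le.2 (by
        rintro _ ⟨i, rfl⟩
        exact (IsLocalization.AtPrime.to_map_mem_maximal_iff O m _).2 (a i).2))
    rw [h5]
    refine (Submodule.spanFinrank_span_le_ncard_of_finite (Set.finite_range _)).trans ?_
    rw [← Nat.card_coe_set_eq]
    refine (Finite.card_range_le _).trans ?_
    rw [Nat.card_fin, ← Module.finrank_fintype_fun_eq_card k]
    exact Submodule.finrank_le _
  have h6 : topologicalKrullDim ↥G.left = ringKrullDim O := by
    rw [IsLocalization.AtPrime.ringKrullDim_eq_height m O, GLinFree.height_eq_ringKrullDim (K := k) m,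
      ← PrimeSpectrum.topologicalKrullDim_eq_ringKrullDim]
    exact IsHomeomorph.topologicalKrullDim_eq _ (Scheme.homeoOfIso G.left.isoSpec).isHomeomorph
  rw [h6, ← IsRegularLocalRing.spanFinrank_maximalIdeal]
  exact_mod_cast h4

end Groth.Agent.RootSys
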