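import Groth.Agent.RootSys.Coroot
import Groth.Agent.RootSys.DimBound
import Groth.Agent.RootSys.BorelOpp
import Groth.Agent.RootIntrinsic.Card
import Groth.Agent.DimField.Scheme
import Mathlib.LinearAlgebra.RootSystem.Defs

/-!
# The root datum of a split maximal torus over a field
-/

set_option autoImplicit false
set_option backward.isDefEq.respectTransparency false
set_option linter.style.haveILetI false
set_option maxHeartbeats 1000000
set_option synthInstance.maxHeartbeats 400000

universe u

open CategoryTheory Limits MonoidalCategory CartesianMonoidalCategory MonObj AlgebraicGeometry LieS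
open scoped CategoryTheory.Obj

noncomputable section

namespace Groth.Agent.RootSys

open Groth.Agent.HomDiag Groth.Agent.DynPar
open Groth.Agent.DynPar.Der (dv uB pl sG)

variable {k : Type u} [Field k] {G : Over (Spec (CommRingCat.of k))} [GrpObj G] [IsAffine G.left]
  {M : Type} [AddCommGroup M]

/-- Finitely many weights occur. -/
theorem finite_isSplitRoot [LocallyOfFiniteType G.hom] (j : Red.DS (Spec (CommRingCat.of k)) M ⟶ G) [IsMonHom j] :
    {a : M | IsSplitRoot j a}.Finite := by
  classical
  obtain ⟨s, hs⟩ := exists_finite_gens (G := G)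
  refine (s.biUnion (wts j)).finite_toSet.subset fun a ha => ?_
  obtain ⟨-, v, hv, hv1⟩ := ha
  by_contra hF
  refine hv1 (Der.dv_injective (funext fun x => ?_))
  rw [Der.dv_one]
  let K : Subring Γ(G.left, ⊤) :=
    { carrier := {x | dv v x = 0}
      mul_mem' := fun {x y} hx hy => by
        show dv v (x * y) = 0
        rw [Der.dv_leibniz, show dv v x = 0 from hx, show dv v y = 0 from hy]; simp
      one_mem' := by
        show dv v 1 = 0
        rw [← map_one (sG G)]; exact Der.dv_sG v 1
      add_mem' := fun {x y} hx hy => by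
        show dv v (x + y) = 0
        rw [Der.dv_add, show dv v x = 0 from hx, show dv v y = 0 from hy, add_zero]
      zero_mem' := by
        show dv v 0 = 0
        rw [← map_zero (sG G)]; exact Der.dv_sG v 0
      neg_mem' := fun {x} hx => by
        show dv v (-x) = 0
        have h := Der.dv_add v x (-x)
        rw [add_neg_cancel, show dv v x = 0 from hx, zero_add,
          show dv v (0 : Γ(G.left, ⊤)) = 0 by rw [← map_zero (sG G)]; exact Der.dv_sG v 0] at h
        exact h.symm }
  have hK : Subring.closure (Set.range G.hom.appTop ∪ (s : Set Γ(G.left, ⊤))) ≤ K := by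
    refine Subring.closure_le.2 ?_
    rintro y (⟨z, rfl⟩ | hy)
    · obtain ⟨c, rfl⟩ := (ConcreteCategory.bijective_of_isIso (Scheme.ΓSpecIso (CommRingCat.of k)).inv).2 z
      show dv v (G.hom.appTop ((Scheme.ΓSpecIso (CommRingCat.of k)).inv c)) = 0
      rw [← sG_eq]
      exact Der.dv_sG v c
    · show dv v y = 0
      rw [← hv.dv_wc_self, wc_eq_zero_of_notMem j (fun h => hF (Finset.mem_biUnion.2 ⟨y, hy, h⟩))]
      rw [← map_zero (sG G)]
      exact Der.dv_sG v 0
  exact (hK.trans' (le_of_eq hs.symm)) (Subring.mem_top x)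

omit [IsAffine G.left] in
/-- Tangent vectors of a diagonalisable group are combinations of coordinate vectors. -/
theorem lieDS_decomp {J : Type} [Fintype J] (b : Module.Basis J ℤ M)
    (w : J → Lie (Red.DS (Spec (CommRingCat.of k)) M) k (RootIntrinsic.f₀ (k := k)))
    (hw : ∀ j m, ch (w j).1 m = RootIntrinsic.dchar ((Int.castAddHom k).comp (b.coord j).toAddMonoidHom) m)
    (y : Lie (Red.DS (Spec (CommRingCat.of k)) M) k (RootIntrinsic.f₀ (k := k))) :
    ∃ a : J → k, y = ∏ j, a j • w j := by
  classical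
  let Γi := Scheme.ΓSpecIso (CommRingCat.of (DualNumber k))
  let z : Multiplicative M → DualNumber k := fun m => Γi.hom (ch y.1 m)
  have hz : ∀ m, ch y.1 m = Γi.inv (z m) := fun m => (ConcreteCategory.congr_hom Γi.hom_inv_id _).symm
  have hz1 : ∀ m, TrivSqZeroExt.fst (z m) = 1 := fun m => by
    have h := congrArg (fun t => ch t m) ((mem_Lie_iff _ k _ _).1 y.2)
    rw [ch_comp, ch_one, hz] at h
    have h1 := (LieWeight.appTop_comp_inv (TrivSqZeroExt.fstHom k k k).toRingHom (z m)).symm.trans h
    have h2 := congrArg (Scheme.ΓSpecIso (CommRingCat.of k)).hom h1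
    rw [map_one] at h2
    exact (ConcreteCategory.congr_hom (Scheme.ΓSpecIso (CommRingCat.of k)).inv_hom_id _).symm.trans h2
  let φ : M →+ k := AddMonoidHom.mk' (fun m => TrivSqZeroExt.snd (z (Multiplicative.ofAdd m))) fun p q => by
    have hmul : z (Multiplicative.ofAdd p * Multiplicative.ofAdd q) = z (Multiplicative.ofAdd p) * z (Multiplicative.ofAdd q) := by
      show Γi.hom (ch y.1 _) = Γi.hom (ch y.1 _) * Γi.hom (ch y.1 _)
      rw [map_mul, map_mul]
    show TrivSqZeroExt.snd (z (Multiplicative.ofAdd (p + q))) = _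
    rw [ofAdd_add, hmul, TrivSqZeroExt.snd_mul, hz1, hz1, one_smul]
    show TrivSqZeroExt.snd (z (Multiplicative.ofAdd q)) + MulOpposite.op (1 : k) • TrivSqZeroExt.snd (z (Multiplicative.ofAdd p)) = _
    rw [MulOpposite.op_one, one_smul, add_comm]
  refine ⟨fun j => φ (b j), Subtype.ext (ch_ext fun m => ?_)⟩
  have key : ∀ S : Finset J, ch (∏ j ∈ S, φ (b j) • w j :
      Lie (Red.DS (Spec (CommRingCat.of k)) M) k (RootIntrinsic.f₀ (k := k))).1 m =
      Γi.inv (TrivSqZeroExt.inl 1 + TrivSqZeroExt.inr (∑ j ∈ S, φ (b j) * (b.coord j (Multiplicative.toAdd m) : k))) := by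
    intro S
    induction S using Finset.induction_on with
    | empty =>
      rw [Finset.prod_empty, Finset.sum_empty]
      refine (ch_one _).trans ?_
      simp [Γi]
    | insert j S hj ih =>
      rw [Finset.prod_insert hj, Finset.sum_insert hj]
      refine (ch_mul _ _ _).trans ?_
      rw [ih]
      have h1 : ch (φ (b j) • w j).1 m =
          Γi.inv (TrivSqZeroExt.inl 1 + TrivSqZeroExt.inr (φ (b j) * (b.coord j (Multiplicative.toAdd m) : k))) := by
        show ch (scale k _ (φ (b j)) ≫ (w j).1) _ = _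
        rw [ch_comp, hw]
        refine (RootIntrinsic.appTop_scale _ (φ (b j)) _).trans (congrArg _ ?_)
        ext <;> simp [scaleHom, TrivSqZeroExt.algebraMap_eq_inl', mul_comm]
      rw [h1]
      refine (map_mul _ _ _).symm.trans (congrArg _ ?_)
      ext <;> simp [add_comm]
  rw [key Finset.univ, hz]
  congr 1
  refine TrivSqZeroExt.ext (by simp [hz1]) ?_
  have h : φ (Multiplicative.toAdd m) = ∑ j, φ (b j) * (b.coord j (Multiplicative.toAdd m) : k) := by
    conv_lhs => rw [← b.sum_repr (Multiplicative.toAdd m)]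
    rw [map_sum]
    refine Finset.sum_congr rfl fun j _ => ?_
    rw [map_zsmul, zsmul_eq_mul, mul_comm, Module.Basis.coord_apply]
  simp only [TrivSqZeroExt.snd_add, TrivSqZeroExt.snd_inl, TrivSqZeroExt.snd_inr, zero_add]
  exact h

variable {T : Over (Spec (CommRingCat.of k))} [GrpObj T] {i : T ⟶ G}
  {E : Grp.mk T ≅ Grp.mk (Red.DS (Spec (CommRingCat.of k)) M)} [Smooth G.hom] [ConnectedSpace G.left]

/-- The dimension is at most the rank plus the number of roots. -/
theorem dim_le_rank_add_roots [Module.Free ℤ M] [Module.Finite ℤ M] (hG : Red.IsReductive G)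
    (hT : Red.IsMaximalTorus i) [IsMonHom (E.inv.hom.hom ≫ i)] {idx : Type} [Fintype idx] (root : idx → M)
    (u : idx → (Red.Ga (Spec (CommRingCat.of k)) ⟶ G))
    (hu : ∀ o, Red.IsRootHom (E.inv.hom.hom ≫ i) (Red.chi _ (root o)) (u o)) (hroot : ∀ o, root o ≠ 0)
    (hall : ∀ a, IsSplitRoot (E.inv.hom.hom ≫ i) a → ∃ o, root o = a) :
    topologicalKrullDim ↥G.left ≤ (Module.finrank ℤ M + Fintype.card idx : ℕ) := by
  classical
  haveI := hT.1; haveI := hT.2.1
  haveI : IsMonHom E.inv.hom.hom := E.inv.hom.isMonHom_hom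
  haveI : ∀ o, IsMonHom (u o) := fun o => (hu o).1
  let b := Module.finBasis ℤ M
  choose w hw using fun j => RootIntrinsic.exists_tanDS (k := k) ((Int.castAddHom k).comp (b.coord j).toAddMonoidHom)
  let c := E.inv.hom.hom ≫ i
  let v : idx ⊕ Fin (Module.finrank ℤ M) → Lie G k (RootIntrinsic.f₀ (k := k)) :=
    Sum.elim (fun o => RootIntrinsic.vU (u o)) (fun j => RootIntrinsic.lieMap c (w j))
  refine (dim_le_of_span v fun z a ha => ?_).trans ?_
  · obtain ⟨F, comp, -, hcomp, hz⟩ := exists_wt_decomp (c := c) z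
    rw [hz, Der.dv_prod]
    refine Finset.sum_eq_zero fun m _ => ?_
    by_cases h1 : comp m = 1
    · rw [h1, Der.dv_one]
    by_cases hm : m = 0
    · subst hm
      have hzs := (mem_ZSub_iff_isWt_zero (c := c) (comp 0)).2 (hcomp 0)
      obtain ⟨y, hy⟩ := exists_centralizer_lift (isCentralizerOf_split hG i hT E) hzs
      have h2 : E.hom.hom.hom ≫ E.inv.hom.hom = 𝟙 T := congrArg (fun z => z.hom.hom) E.hom_inv_id
      let y' : dpt k (RootIntrinsic.f₀ (k := k)) ⟶ Red.DS (Spec (CommRingCat.of k)) M := y ≫ E.hom.hom.hom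
      have hy' : y' ≫ c = (comp 0).1 := by
        show (y ≫ E.hom.hom.hom) ≫ E.inv.hom.hom ≫ i = _
        rw [Category.assoc, reassoc_of% h2]; exact hy
      haveI : Mono c := by
        haveI : IsIso E.inv.hom.hom := inferInstanceAs (IsIso ((Grp.forget _).map E.inv))
        exact mono_comp _ _
      let yv : Lie (Red.DS (Spec (CommRingCat.of k)) M) k (RootIntrinsic.f₀ (k := k)) := ⟨y', (mem_Lie_iff _ k _ _).2 (by
        rw [← cancel_mono c, Category.assoc, hy', MonObj.one_comp]; exact (mem_Lie_iff G k _ _).1 (comp 0).2)⟩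
      obtain ⟨cj, hcj⟩ := lieDS_decomp b w hw yv
      have h3 : comp 0 = RootIntrinsic.lieMap c (∏ j, cj j • w j) := by rw [← hcj]; exact Subtype.ext hy'.symm
      rw [h3, map_prod, Der.dv_prod]
      refine Finset.sum_eq_zero fun j _ => ?_
      rw [RootIntrinsic.lieMap_smul, Der.dv_smul, show dv (RootIntrinsic.lieMap c (w j)) a = 0 from ha (Sum.inr j),
        mul_zero]
    · obtain ⟨o, ho⟩ := hall m ⟨hm, comp m, hcomp m, h1⟩
      haveI := (hu o).2.1
      haveI : Mono (u o) := Over.mono_of_mono_left (u o)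
      have hvo : IsWt c (RootIntrinsic.vU (u o)) (root o) := isWt_vU E ((rootHom_split_iff i E (root o) (u o)).1 (hu o))
      rcases (field_rank_one hG i hT E hvo (hroot o) (RootIntrinsic.vU_ne_one (u o))).2 m (comp m) (hcomp m) h1 hm
          ⟨1, 1, one_ne_zero, by rw [ho]⟩ with ⟨-, r, hr⟩ | h
      · rw [hr, Der.dv_smul, show dv (RootIntrinsic.vU (u o)) a = 0 from ha (Sum.inl o), mul_zero]
      · have h2 : (2 : ℤ) • m = 0 := by
          rw [two_zsmul]; nth_rw 1 [h, ho]; rw [neg_add_cancel]
        exact absurd ((smul_eq_zero.1 h2).resolve_left two_ne_zero) hm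
  · rw [Fintype.card_sum, Fintype.card_fin, add_comm]

omit [IsAffine G.left] [Smooth G.hom] [ConnectedSpace G.left] in
theorem split_comp (f : Red.DS (Spec (CommRingCat.of k)) M ⟶ Red.DS (Spec (CommRingCat.of k)) M)
    {X : Over (Spec (CommRingCat.of k))} (t : X ⟶ T) :
    ((t ≫ E.hom.hom.hom) ≫ f) ≫ E.inv.hom.hom ≫ i = t ≫ E.hom.hom.hom ≫ f ≫ E.inv.hom.hom ≫ i := by
  simp only [Category.assoc]

/-- Two roots with the same coroot coincide. -/
theorem corootFn_injective [Module.Free ℤ M] (j : Red.DS (Spec (CommRingCat.of k)) M ⟶ G) [IsMonHom j]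
    [LocallyOfFiniteType G.hom] {a b : M} {ea eb : M →+ ℤ}
    (hstab_a : ∀ m, IsSplitRoot j m → IsSplitRoot j (refl' a ea m))
    (hstab_b : ∀ m, IsSplitRoot j m → IsSplitRoot j (refl' b eb m))
    (ha : IsSplitRoot j a) (hea : ea a = 2) (heb : eb b = 2) (he : ea = eb) : a = b := by
  subst he
  have hab : ea (b - a) = 0 := by rw [map_sub, hea, heb, sub_self]
  have hstep : ∀ n : ℕ, IsSplitRoot j (a + (2 * n : ℤ) • (b - a)) := fun n => by
    induction n with
    | zero => simpa using ha
    | succ n ih =>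
      have h := hstab_b _ (hstab_a _ ih)
      convert h using 1
      simp only [refl'_apply, map_add, map_sub, map_zsmul, hea, heb, hab, smul_zero, add_zero, smul_eq_mul, Nat.cast_add,
        Nat.cast_one]
      module
  by_contra hne
  have hd : b - a ≠ 0 := sub_ne_zero.2 (Ne.symm hne)
  have hinj : Function.Injective fun n : ℕ => a + (2 * n : ℤ) • (b - a) := fun n n' h => by
    have h2 := smul_left_injective ℤ hd (add_left_cancel h)
    have h3 : (2 : ℤ) * n = 2 * n' := h2
    omega
  exact Set.infinite_range_of_injective hinj ((finite_isSplitRoot j).subset (by rintro _ ⟨n, rfl⟩; exact hstep n))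

/-- **Splittings over a field**: a split maximal torus extends to a splitting. -/
theorem exists_splitRed [Module.Free ℤ M] [Module.Finite ℤ M] (hG : Red.IsReductive G) (hT : Red.IsMaximalTorus i)
    (E : Grp.mk T ≅ Grp.mk (Red.DS (Spec (CommRingCat.of k)) M)) :
    ∃ D : Red.SplitRed G, D.T = T ∧ HEq D.i i := by
  classical
  haveI := hT.1; haveI := hT.2.1
  haveI := isMonHom_split hT.1 E
  haveI : IsMonHom E.inv.hom.hom := E.inv.hom.isMonHom_hom
  let S := Spec (CommRingCat.of k)
  let j := E.inv.hom.hom ≫ i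
  let Φ := {a : M // IsSplitRoot j a}
  haveI : Fintype Φ := (finite_isSplitRoot j).fintype
  choose e he using fun a : Φ => exists_isCorootOf hG hT a.2
  choose u hu using fun a : Φ => exists_rootHom hG hT a.2
  have he2 : ∀ a : Φ, e a a.1 = 2 := fun a => by
    obtain ⟨_, _, _, _, _, _, h, _⟩ := he a
    exact h
  have huniq : ∀ (a : Φ) (f : M →+ ℤ), IsCorootOf j a.1 f → e a = f := fun a f h => isCorootOf_unique hG hT (he a) h
  have hstab : ∀ (a : Φ) (m : M), IsSplitRoot j m → IsSplitRoot j (refl' a.1 (e a) m) := fun a m hm => by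
    obtain ⟨f, hf⟩ := exists_isCorootOf hG hT hm
    obtain ⟨u', _, _, hu', _, _, h2, _⟩ := (he a).transport hf
    exact isSplitRoot_of_rootHom (fun h => by rw [h, map_zero] at h2; omega) hu'
  let perm : Φ → (Φ ≃ Φ) := fun a =>
    { toFun := fun b => ⟨refl' a.1 (e a) b.1, hstab a b.1 b.2⟩
      invFun := fun b => ⟨refl' a.1 (e a) b.1, hstab a b.1 b.2⟩
      left_inv := fun b => Subtype.ext congr($(refl'_invol (he2 a)) b.1)
      right_inv := fun b => Subtype.ext congr($(refl'_invol (he2 a)) b.1) }
  have hperm : ∀ a b : Φ, e (perm a b) = (e b).comp (refl' a.1 (e a)) := fun a b =>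
    huniq (perm a b) _ ((he a).transport (he b))
  have einj : Function.Injective fun a : Φ => (e a).toIntLinearMap := fun a b h =>
    Subtype.ext (corootFn_injective j (hstab a) (hstab b) a.2 (he2 a) (he2 b)
      (AddMonoidHom.ext fun m => congr($h m)))
  let P : RootPairing Φ ℤ M (Module.Dual ℤ M) :=
    { toLinearMap := Module.Dual.eval ℤ M
      root := ⟨fun a => a.1, fun a b h => Subtype.ext h⟩
      coroot := ⟨fun a => (e a).toIntLinearMap, einj⟩
      root_coroot_two := fun a => he2 a
      reflectionPerm := perm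
      reflectionPerm_root := fun a b => rfl
      reflectionPerm_coroot := fun a b => LinearMap.ext fun m => by
        show e b m - e b a.1 * e a m = e (perm a b) m
        rw [hperm, AddMonoidHom.comp_apply, refl'_apply, map_sub, map_zsmul, smul_eq_mul, mul_comm (e a m)] }
  obtain ⟨n, hn⟩ : ∃ n : ℕ, topologicalKrullDim ↥G.left = (n : WithBot ℕ∞) ∧
      n = Module.finrank ℤ M + Fintype.card Φ := by
    have hle := dim_le_rank_add_roots hG hT (fun a : Φ => a.1) u hu (fun a => a.2.1) fun a ha => ⟨⟨a, ha⟩, rfl⟩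
    have hge : (0 : WithBot ℕ∞) ≤ topologicalKrullDim ↥G.left :=
      Order.krullDim_nonneg_iff.2 ⟨⟨closure {Classical.arbitrary G.left}, isIrreducible_singleton.closure,
        isClosed_closure⟩⟩
    obtain ⟨n, hn⟩ : ∃ n : ℕ, topologicalKrullDim ↥G.left = (n : WithBot ℕ∞) := by
      cases h : topologicalKrullDim ↥G.left using WithBot.recBotCoe with
      | bot => rw [h] at hge; exact absurd hge (by simp)
      | coe x =>
        cases x using ENat.recTopCoe with
        | top => rw [h] at hle; exact absurd (WithBot.coe_le_coe.1 hle) (by simp)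
        | coe n => exact ⟨n, rfl⟩
    refine ⟨n, hn, le_antisymm ?_ ?_⟩
    · rw [hn] at hle; exact_mod_cast hle
    · have := RootIntrinsic.card_add_rank_le E i (fun a : Φ => a.1) (fun a => a.2.1) Subtype.val_injective u
        (fun a => (rootHom_split_iff i E _ _).1 (hu a)) n hn
      omega
  refine ⟨{ T := T, i := i, M := M, idx := Φ, P := P, pairing_eq := rfl, u := u, reductive := hG,
            maximalTorus := hT, split := E, rootHom := fun a => (rootHom_split_iff i E a.1 (u a)).1 (hu a),
            refl := fun a => ?_, dim_fibre := fun s => ?_ }, rfl, HEq.rfl⟩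
  · obtain ⟨w, hw⟩ := (he a).exists_refl
    refine ⟨w, fun X t => ?_⟩
    have h1 : E.hom.hom.hom ≫ E.inv.hom.hom = 𝟙 T := congrArg (fun z => z.hom.hom) E.hom_inv_id
    have hr : (P.reflection a).toLinearMap.toAddMonoidHom = refl' a.1 (e a) := AddMonoidHom.ext fun m =>
      RootPairing.reflection_apply P a m
    have h2 := hw X (t ≫ E.hom.hom.hom)
    rw [split_comp, Category.assoc t, reassoc_of% h1] at h2
    rw [h2, hr]
  · haveI : LocallyOfFiniteType G.hom := inferInstance
    haveI : Subsingleton (Spec (CommRingCat.of k)) := inferInstanceAs (Subsingleton (PrimeSpectrum k))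
    haveI : Subsingleton (Spec (CommRingCat.of (AlgebraicClosure (S.residueField s)))) :=
      inferInstanceAs (Subsingleton (PrimeSpectrum (AlgebraicClosure (S.residueField s))))
    refine Eq.trans ?_ (hn.1.trans (by rw [hn.2]))
    exact (DimField.dim_eq_of_isPullback G.hom (pullback.snd G.hom (Red.geomPt s)) (pullback.fst G.hom (Red.geomPt s))
      (Red.geomPt s) (IsPullback.of_hasPullback _ _)).symm

end Groth.Agent.RootSys
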