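import Groth.Agent.RootSys.NoRoot
import Groth.Agent.DynPar.TwoBorels
import Groth.Agent.UniRad.Radical
import Groth.Agent.SubGen.CommGeom
import Groth.Agent.Chev.GeomPtIso

/-!
# A reductive group whose roots are proportional has two Borel subgroups through a maximal torus
-/

set_option autoImplicit false
set_option backward.isDefEq.respectTransparency false
set_option linter.style.haveILetI false
set_option maxHeartbeats 1000000
set_option synthInstance.maxHeartbeats 400000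

universe u

open CategoryTheory Limits MonoidalCategory CartesianMonoidalCategory MonObj AlgebraicGeometry LieS
open scoped CategoryTheory.Obj

noncomputable section

namespace Groth.Agent.RootSys

open Groth.Agent.HomDiag Groth.Agent.DynPar
open Groth.Agent.DynPar.Der (dv uB pl sG)

variable {k : Type u} [Field k] [IsAlgClosed k]

/-- Reductivity over an algebraically closed field. -/
theorem isReductiveOver_of_isReductive {G : Over (Spec (CommRingCat.of k))} [GrpObj G] (hG : Red.IsReductive G) :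
    Red.IsReductiveOver k G := by
  obtain ⟨i1, i2, i3⟩ := red_inst hG
  refine ⟨i1, i2, i3, fun U _ i _ hi hU hUc hn hno => ?_⟩
  let s : ↥(Spec (CommRingCat.of k)) := IsLocalRing.closedPoint k
  let τ := Red.geomPt s
  haveI := Chev.Borel.isIso_geomPt k s
  obtain ⟨h1, h2⟩ := (UniRad.geomFibre_unipotent_iff U s).2 ⟨hUc, hno⟩
  haveI := hi; haveI := hU
  haveI : IsMonHom ((Over.pullback τ).map i) := isMonHom_map' τ i
  exact UniRad.isTrivial_of_pullback τ U ((hG.2.2 s).2.2.2 _ ((Over.pullback τ).map i)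
    (MorphismProperty.overPullbackMap (P := @IsClosedImmersion) τ i inferInstance)
    (MorphismProperty.pullback_snd (P := @Smooth) U.hom τ hU) h1 (SubGen.isNormalHom_pullback τ G i hn) h2)

/-- A maximal torus transported along an isomorphism. -/
theorem isMaxTorus_comp_iso {G T T' : Over (Spec (CommRingCat.of k))} [GrpObj G] [GrpObj T] [GrpObj T'] {i : T ⟶ G}
    (hi : AGF.IsMaxTorus i) (e : T' ≅ T) [IsMonHom e.hom] : AGF.IsMaxTorus (e.hom ≫ i) := by
  haveI := hi.1; haveI := hi.2.1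
  haveI : IsMonHom e.symm.hom := inferInstanceAs (IsMonHom e.inv)
  refine ⟨inferInstance, mono_comp _ _, Chev.Borel.isTorus_of_iso e.symm hi.2.2.1, fun T'' _ w _ _ g hT'' hg => ?_⟩
  haveI : IsIso (e.inv ≫ g) := hi.2.2.2 T'' w (e.inv ≫ g) hT'' (by rw [Category.assoc, hg, Iso.inv_hom_id_assoc])
  exact IsIso.of_isIso_comp_left e.inv g

local notation "f₀" => 𝟙 (Spec (CommRingCat.of k))

/-- A containment of Borel subgroups is an equality. -/
theorem borel_le_symm {G B B' : Over (Spec (CommRingCat.of k))} [GrpObj G] [GrpObj B] [GrpObj B'] {b : B ⟶ G}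
    {b' : B' ⟶ G} (hB : Red.IsBorelOver k b) (hB' : Red.IsBorelOver k b') (e : B ⟶ B') (he : e ≫ b' = b) :
    ∃ e' : B' ⟶ B, e' ≫ b = b' := by
  haveI := hB'.1
  haveI := hB.2.2.2.2.2 B' b' e hB'.2.1 hB'.2.2.1 hB'.2.2.2.1 hB'.2.2.2.2.1 he
  exact ⟨inv e, by rw [← he, IsIso.inv_hom_id_assoc]⟩

/-- **Two Borel subgroups.** If the non-zero weights lie on a line and one occurs, exactly two Borel subgroups contain
the torus, and they generate the group. -/
theorem two_borel_main {H : Over (Spec (CommRingCat.of k))} [GrpObj H] [IsAffine H.left] [Smooth H.hom]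
    [ConnectedSpace H.left] (hH : Red.IsReductiveOver k H)
    {M : Type} [AddCommGroup M] [Module.Free ℤ M] [Module.Finite ℤ M]
    (j : Red.DS (Spec (CommRingCat.of k)) M ⟶ H) [IsMonHom j] (hj : AGF.IsMaxTorus j)
    {v₀ : Lie H k f₀} {d₀ : M} (hv₀ : IsWt j v₀ d₀) (hd₀ : d₀ ≠ 0) (hv₀1 : v₀ ≠ 1)
    (hprop : ∀ (e : M) (w : Lie H k (fk k)), IsWt j w e → w ≠ 1 → e ≠ 0 → ∃ a b : ℤ, b ≠ 0 ∧ b • e = a • d₀) :
    ∃ (B₁ B₂ : Over (Spec (CommRingCat.of k))) (_ : GrpObj B₁) (_ : GrpObj B₂) (b₁ : B₁ ⟶ H) (b₂ : B₂ ⟶ H)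
      (t₁ : Red.DS (Spec (CommRingCat.of k)) M ⟶ B₁) (t₂ : Red.DS (Spec (CommRingCat.of k)) M ⟶ B₂),
      Red.IsBorelOver k b₁ ∧ Red.IsBorelOver k b₂ ∧ t₁ ≫ b₁ = j ∧ t₂ ≫ b₂ = j ∧
      (¬ ∃ e : B₁ ⟶ B₂, e ≫ b₂ = b₁) ∧
      (∀ (B : Over (Spec (CommRingCat.of k))) [GrpObj B] (b : B ⟶ H) (t : Red.DS (Spec (CommRingCat.of k)) M ⟶ B),
        Red.IsBorelOver k b → t ≫ b = j → (∃ e : B ⟶ B₁, e ≫ b₁ = b) ∨ (∃ e : B ⟶ B₂, e ≫ b₂ = b)) ∧
      (∀ (C : Over (Spec (CommRingCat.of k))) [GrpObj C] (c : C ⟶ H) [IsMonHom c], IsClosedImmersion c.left →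
        (∃ f₁ : B₁ ⟶ C, f₁ ≫ c = b₁) → (∃ f₂ : B₂ ⟶ C, f₂ ≫ c = b₂) → IsIso c) := by
  classical
  let S := Spec (CommRingCat.of k)
  haveI := hj.2.1
  haveI : IsAffineHom H.hom := isAffineHom_of_isAffine H.hom
  haveI : AddGroup.FG M := Module.Finite.iff_addGroup_fg.1 inferInstance
  obtain ⟨M', _, _, _, π, m₁, hπs, hm₁, hπ₁, hπd, hker⟩ := exists_line d₀ hd₀
  obtain ⟨C, _, c, tC, D⟩ := exists_kerData hH j hj π hπs
  haveI := D.htC_hom; haveI := D.hc.1; haveI := D.hc_imm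
  haveI : Mono c := Over.mono_of_mono_left c
  haveI : IsAffine C.left := isAffine_of_isAffineHom c.left
  haveI : IsIso c := by
    refine DynPar.isIso_of_lie c D.hred.2.1 inferInstance inferInstance
      (fun s => by
        haveI := Chev.Borel.isIso_geomPt k s
        exact (Scheme.homeoOfIso (asIso (pullback.fst H.hom (Red.geomPt s)))).symm.surjective.connectedSpace
          (Scheme.homeoOfIso (asIso (pullback.fst H.hom (Red.geomPt s)))).symm.continuous)
      fun B _ _ => eq_top_iff.2 fun v _ => ?_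
    obtain ⟨F, u, hu, hw, hv⟩ := exists_wt_decomp j v
    rw [hv]
    refine Subgroup.prod_mem _ fun e _ => ?_
    by_cases h1 : u e = 1
    · rw [h1]; exact Subgroup.one_mem _
    obtain ⟨w, hw', hw1⟩ := exists_wt_field (hw e) h1
    have hπe : π e = 0 := by
      by_cases he : e = 0
      · rw [he, map_zero]
      obtain ⟨a, b, hb, hab⟩ := hprop e w hw' hw1 he
      have h := congrArg π hab
      rw [map_zsmul, map_zsmul, hπd, smul_zero, smul_eq_zero] at h
      exact h.resolve_left hb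
    obtain ⟨y, -, hy⟩ := D.exists_lift (hw e) hπe
    exact ⟨y, trivial, hy⟩
  have hcent : ∀ (n : Chev.RP H) (X : Over S) (t : X ⟶ Red.DS S M'),
      (toUnit X ≫ n) * (t ≫ Red.DSmap _ π ≫ j) = (t ≫ Red.DSmap _ π ≫ j) * (toUnit X ≫ n) := fun n X t =>
    (D.hc.2.2 _ n).1 ⟨n ≫ inv c, by rw [Category.assoc, IsIso.inv_hom_id, Category.comp_id]⟩ X (toUnit X) t
  have hself := exists_isCentralizerOf_self hH j hj
  obtain ⟨mu₀, hmu₀⟩ := exists_regular (G := H) j
  obtain ⟨mu, hreg, hd⟩ : ∃ mu : M →+ ℤ, Regular j mu ∧ mu d₀ < 0 := by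
    rcases lt_or_gt_of_ne (ne_zero_of_regular j mu₀ hmu₀ hv₀ hv₀1 hd₀) with h | h
    · exact ⟨mu₀, hmu₀, h⟩
    · exact ⟨-mu₀, fun B _ f g hg => hmu₀ B f g ((mem_ZSub_neg j mu₀).1 hg), by rw [AddMonoidHom.neg_apply]; omega⟩
  have hreg' : Regular j (-mu) := fun B _ f g hg => hreg B f g ((mem_ZSub_neg j mu).1 hg)
  obtain ⟨B, _, b, hb⟩ := exists_isP (Red.DSmap S mu ≫ j)
  obtain ⟨B', _, b', hb'⟩ := exists_isP (Red.DSmap S (-mu) ≫ j)
  haveI := hb.1; haveI := hb.2.1; haveI := hb'.1; haveI := hb'.2.1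
  have hB := isBorelOver_of_regular hH j hj hself mu hreg b hb
  have hB' := isBorelOver_of_regular hH j hj hself (-mu) hreg' b' hb'
  have hne : ¬ ∃ e : B' ⟶ B, e ≫ b = b' := by
    rintro ⟨e, he⟩
    obtain ⟨v₁, hv₁⟩ := exists_map_eq j (-mu) hb' hv₀ (by rw [AddMonoidHom.neg_apply]; omega)
    refine hv₀1 (Der.dv_injective (funext fun x => ?_))
    rw [Der.dv_one, ← hv₀.dv_wc_self, ← hv₁]
    refine dv_map_eq_zero b' v₁ ?_
    rw [← he, Over.comp_left, Scheme.Hom.comp_appTop, CommRingCat.comp_apply, appTop_wc_eq_zero j mu hb x hd, map_zero]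
  obtain ⟨tB, htB⟩ : ∃ t, t ≫ b = j := hb.exists_le j fun A _ f y => ZSub_le_PSub f _ (comp_mem_ZSub j mu y)
  obtain ⟨tB', htB'⟩ : ∃ t, t ≫ b' = j := hb'.exists_le j fun A _ f y => ZSub_le_PSub f _ (comp_mem_ZSub j (-mu) y)
  refine ⟨B', B, inferInstance, inferInstance, b', b, tB', tB, hB', hB, htB', htB, hne, ?_, ?_⟩
  · intro B₂ _ b₂ t hB₂ ht
    rcases two_borels j hj hself π m₁ hm₁ hπ₁ hker hcent hB' hB hB₂ htB' htB ht with ⟨e, he⟩ | h | h
    · exact absurd (borel_le_symm hB hB' e he) hne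
    · exact Or.inl h
    · exact Or.inr h
  · rintro D' _ d _ hd' ⟨g₁, hg₁⟩ ⟨g₂, hg₂⟩
    haveI := hd'
    have hc : Red.DSmap S (-mu) ≫ j = negC (Red.DSmap S mu ≫ j) := by
      show _ = Red.DSmap S (-AddMonoidHom.id ℤ) ≫ Red.DSmap S mu ≫ j
      rw [← Category.assoc, RootIntrinsic.DSmap_comp_apply]
      rfl
    refine isIso_of_opposite d _ _ hc (fun A _ f g hg => ?_) fun A _ f g hg => ?_
    · obtain ⟨y, hy⟩ := hb.exists_fac_iff.2 hg
      exact ⟨y ≫ g₂, by rw [Category.assoc, hg₂, hy]⟩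
    · obtain ⟨y, hy⟩ := hb'.exists_fac_iff.2 hg
      exact ⟨y ≫ g₁, by rw [Category.assoc, hg₁, hy]⟩

end Groth.Agent.RootSys
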