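import Groth.Agent.RootSys.Deletion
import Mathlib.LinearAlgebra.RootSystem.Base
import Mathlib.LinearAlgebra.RootSystem.WeylGroup
import Mathlib.LinearAlgebra.RootSystem.Finite.Lemmas

/-!
# Bases of crystallographic root pairings over any domain
-/

noncomputable section
open Function Set

namespace Groth.Agent.RootSys

variable {ι R M N : Type*} [CommRing R] [AddCommGroup M] [Module R M] [AddCommGroup N] [Module R N]
  {P : RootPairing ι R M N}

lemma groot_smul (g : P.Aut) (i : ι) : P.root (g • i) = g • P.root i :=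
  RootPairing.Equiv.root_indexEquiv_eq_smul P i g

lemma groot_opp (i : ι) : P.root (P.reflectionPerm i i) = -P.root i := by
  rw [P.root_reflectionPerm, P.reflection_apply_self]

lemma gsmul_opp (g : P.Aut) (i : ι) : g • P.reflectionPerm i i = P.reflectionPerm (g • i) (g • i) :=
  P.root.injective (by rw [groot_smul, groot_opp, smul_neg, groot_opp, groot_smul])

lemma gcoroot'_smul (g : P.Aut) (i : ι) (x : M) : P.coroot' (g • i) (g • x) = P.coroot' i x := by
  show P.toLinearMap (g • x) (P.coroot (g • i)) = P.toLinearMap x (P.coroot i)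
  have e := LinearMap.congr_fun
    (RootPairing.Hom.weight_coweight_transpose_apply P P (P.coroot (g • i)) g.toHom) x
  rw [RootPairing.Hom.coroot_coweightMap_apply, show g.toHom.indexEquiv.symm (g • i) = i from
    g.toHom.indexEquiv.symm_apply_apply i] at e
  exact e

lemma gpairing_smul (g : P.Aut) (i j : ι) : P.pairing (g • i) (g • j) = P.pairing i j := by
  rw [← P.root_coroot'_eq_pairing, groot_smul, gcoroot'_smul, P.root_coroot'_eq_pairing]

lemma gaut_ext {g h : P.Aut} (H : ∀ x : M, g • x = h • x) : g = h :=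
  RootPairing.Equiv.weightHom_injective P (LinearEquiv.ext H)

lemma gconj_reflection (u : P.Aut) (i : ι) :
    u * RootPairing.Equiv.reflection P i * u⁻¹ = RootPairing.Equiv.reflection P (u • i) := by
  refine gaut_ext fun x => ?_
  rw [mul_smul, mul_smul, RootPairing.Equiv.reflection_smul, RootPairing.Equiv.reflection_smul,
    P.reflection_apply, P.reflection_apply, smul_sub, smul_inv_smul, smul_comm u, groot_smul]
  congr 2
  rw [← gcoroot'_smul u i (u⁻¹ • x), smul_inv_smul]

lemma greflection_mul_self (i : ι) :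
    RootPairing.Equiv.reflection P i * RootPairing.Equiv.reflection P i = 1 :=
  gaut_ext fun x => by
    rw [mul_smul, one_smul, RootPairing.Equiv.reflection_smul, RootPairing.Equiv.reflection_smul,
      P.reflection_same]

variable [CharZero R] [IsDomain R] [Finite ι] [P.IsCrystallographic] [P.IsReduced] (b : P.Base)

lemma isPos_opp_iff (i : ι) : b.IsPos (P.reflectionPerm i i) ↔ ¬ b.IsPos i :=
  RootPairing.Base.IsPos.neg_iff_not b i

lemma baseReflData : ReflData (RootPairing.Equiv.reflection P) b.IsPos (b.support : Set ι) where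
  mul_self i _ := greflection_mul_self i
  conj g _ i := gconj_reflection g i
  pos_simple i hi := RootPairing.Base.isPos_of_mem_support hi
  neg_smul g _ j _ hp h := by
    rw [show RootPairing.Equiv.reflection P j • j = P.reflectionPerm j j from rfl, gsmul_opp] at hp
    exact (isPos_opp_iff b _).mp hp h
  moves i hi j _ g _ hp hn := by_contra fun hne => hn (hp.reflectionPerm hi hne)

lemma base_conj_simple (i : ι) :
    ∃ g ∈ Subgroup.closure (RootPairing.Equiv.reflection P '' (b.support : Set ι)), ∃ j ∈ b.support, g • j = i := by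
  refine b.induction_reflect i (p := fun i => ∃ g ∈ Subgroup.closure (RootPairing.Equiv.reflection P ''
    (b.support : Set ι)), ∃ j ∈ b.support, g • j = i) (fun k => ?_) (fun k hk => ⟨1, one_mem _, k, hk, one_smul _ k⟩) ?_
  · rintro ⟨g, hg, j, hj, rfl⟩
    refine ⟨g * RootPairing.Equiv.reflection P j, mul_mem hg (Subgroup.subset_closure ⟨j, hj, rfl⟩), j, hj, ?_⟩
    rw [mul_smul, show RootPairing.Equiv.reflection P j • j = P.reflectionPerm j j from rfl, gsmul_opp]
  · rintro k l ⟨g, hg, j, hj, rfl⟩ hl
    exact ⟨RootPairing.Equiv.reflection P l * g, mul_mem (Subgroup.subset_closure ⟨l, hl, rfl⟩) hg, j, hj,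
      by rw [mul_smul]; rfl⟩

lemma base_closure_eq :
    Subgroup.closure (RootPairing.Equiv.reflection P '' (b.support : Set ι)) = P.weylGroup := by
  refine le_antisymm (Subgroup.closure_mono (Set.image_subset_range _ _)) ?_
  rw [RootPairing.weylGroup, Subgroup.closure_le]
  rintro _ ⟨i, rfl⟩
  obtain ⟨g, hg, j, hj, rfl⟩ := base_conj_simple b i
  rw [← gconj_reflection]
  exact mul_mem (mul_mem hg (Subgroup.subset_closure ⟨j, hj, rfl⟩)) (inv_mem hg)

lemma base_eq_one {g : P.Aut} (hg : g ∈ P.weylGroup) (h : ∀ j ∈ b.support, b.IsPos (g • j)) : g = 1 :=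
  (baseReflData b).eq_one_of_pos (base_closure_eq b ▸ hg) h

omit [P.IsReduced] in
lemma base_mem_support_iff {k : ι} (hk : b.IsPos k) :
    k ∈ b.support ↔ ¬ ∃ i j, b.IsPos i ∧ b.IsPos j ∧ P.root k = P.root i + P.root j := by
  refine ⟨fun h ⟨i, j, hi, hj, e⟩ => ?_, fun h => ?_⟩
  · have := b.height_add e
    rw [RootPairing.Base.height_one_of_mem_support h] at this
    rw [RootPairing.Base.isPos_iff] at hi hj
    omega
  · refine (hk.induction_on_add (p := fun k => k ∈ b.support ∨ ∃ i j, b.IsPos i ∧ b.IsPos j ∧
      P.root k = P.root i + P.root j) (fun i hi => Or.inl hi) ?_).resolve_right h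
    rintro i j l e (hi | ⟨i₁, i₂, h1, h2, e'⟩) hj
    · exact Or.inr ⟨i, j, RootPairing.Base.isPos_of_mem_support hi, RootPairing.Base.isPos_of_mem_support hj, e⟩
    · exact Or.inr ⟨i, j, h1.add h2 e', RootPairing.Base.isPos_of_mem_support hj, e⟩

lemma base_transitive (b' : P.Base) :
    ∃ g ∈ P.weylGroup, (fun i : ι => g • i) '' (b.support : Set ι) = (b'.support : Set ι) := by
  have key : ∀ n, ∀ g ∈ P.weylGroup, {i | b.IsPos i ∧ ¬ b'.IsPos (g • i)}.ncard = n →
      ∃ g ∈ P.weylGroup, ∀ i, b.IsPos i → b'.IsPos (g • i) := by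
    intro n
    induction n using Nat.strong_induction_on with
    | h n ih =>
      intro g hg hn
      by_cases hs : ∀ j ∈ b.support, b'.IsPos (g • j)
      · refine ⟨g, hg, fun i hi => hi.induction_on_add (p := fun i => b'.IsPos (g • i)) hs ?_⟩
        intro x y z e hx hy
        exact hx.add (hs y hy) (by rw [groot_smul, e, smul_add, groot_smul, groot_smul])
      · push Not at hs
        obtain ⟨j, hj, hbad⟩ := hs
        let s := RootPairing.Equiv.reflection P j
        refine ih _ ?_ (g * s) (mul_mem hg (P.reflection_mem_weylGroup j)) rfl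
        rw [← hn, ← Set.ncard_image_of_injective {i | b.IsPos i ∧ ¬ b'.IsPos ((g * s) • i)} (MulAction.injective s)]
        refine lt_of_le_of_lt (Set.ncard_le_ncard ?_ (Set.toFinite _))
          (Set.ncard_sdiff_singleton_lt_of_mem (a := j)
            (show j ∈ {i | b.IsPos i ∧ ¬ b'.IsPos (g • i)} from ⟨RootPairing.Base.isPos_of_mem_support hj, hbad⟩)
            (Set.toFinite _))
        rintro _ ⟨i, ⟨hi, hbi⟩, rfl⟩
        rw [mul_smul] at hbi
        have hij : i ≠ j := by
          rintro rfl
          rw [show s • i = P.reflectionPerm i i from rfl, gsmul_opp, isPos_opp_iff b'] at hbi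
          exact hbi hbad
        refine ⟨⟨hi.reflectionPerm hj hij, hbi⟩, fun h => hij ?_⟩
        have h2 : b.IsPos (P.reflectionPerm j i) := hi.reflectionPerm hj hij
        exfalso
        have h3 : s • i = j := h
        have e := congrArg (fun x => s • x) h3
        simp only [← mul_smul, show s * s = 1 from greflection_mul_self j, one_smul] at e
        rw [e, show s • j = P.reflectionPerm j j from rfl, isPos_opp_iff b] at hi
        exact hi (RootPairing.Base.isPos_of_mem_support hj)
  obtain ⟨g, hg, h⟩ := key _ 1 (one_mem _) rfl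
  have hiff : ∀ i, b.IsPos i ↔ b'.IsPos (g • i) := fun i => ⟨h i, fun hi => by_contra fun hn => by
    have := h _ ((isPos_opp_iff b i).mpr hn)
    rw [gsmul_opp] at this
    exact (isPos_opp_iff b' _).mp this hi⟩
  refine ⟨g, hg, Set.ext fun k => ?_⟩
  obtain ⟨i, rfl⟩ := MulAction.surjective g k
  rw [(MulAction.injective g).mem_set_image]
  by_cases hi : b.IsPos i
  · show i ∈ b.support ↔ g • i ∈ b'.support
    rw [base_mem_support_iff b hi, base_mem_support_iff b' ((hiff i).mp hi), not_iff_not]
    constructor
    · rintro ⟨x, y, hx, hy, e⟩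
      exact ⟨g • x, g • y, (hiff x).mp hx, (hiff y).mp hy, by rw [groot_smul, e, smul_add, groot_smul, groot_smul]⟩
    · rintro ⟨x, y, hx, hy, e⟩
      obtain ⟨x, rfl⟩ := MulAction.surjective g x
      obtain ⟨y, rfl⟩ := MulAction.surjective g y
      refine ⟨x, y, (hiff x).mpr hx, (hiff y).mpr hy, ?_⟩
      rw [groot_smul, groot_smul, groot_smul, ← smul_add] at e
      exact MulAction.injective g e
  · exact ⟨fun hs => absurd (RootPairing.Base.isPos_of_mem_support hs) hi,
      fun hs => absurd ((hiff i).mpr (RootPairing.Base.isPos_of_mem_support hs)) hi⟩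

end Groth.Agent.RootSys
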