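import Groth.Prelude.Def_RedSub
import Groth.Agent.RootSys.BaseGen
import Mathlib.LinearAlgebra.RootSystem.Base
import Mathlib.LinearAlgebra.RootSystem.Finite.Lemmas

/-! The positive and negative roots of a base, as the roots of positive or negative height. -/

set_option autoImplicit false

namespace Groth.Agent.RootSys

open RedSub

variable {idx M N : Type} [AddCommGroup M] [AddCommGroup N] {P : RootPairing idx ℤ M N} (b : P.Base)

lemma exists_nat_coeff {m : M} (hm : m ∈ AddSubmonoid.closure (P.root '' (b.support : Set idx))) :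
    ∃ f : idx → ℕ, m = ∑ j ∈ b.support, (f j : ℤ) • P.root j := by
  classical
  refine AddSubmonoid.closure_induction ?_ ⟨0, by simp⟩ ?_ hm
  · rintro - ⟨j, hj, rfl⟩
    refine ⟨Pi.single j 1, ?_⟩
    rw [Finset.sum_eq_single j]
    · simp
    · intro i _ hi; simp [hi]
    · exact fun h => absurd hj h
  · rintro _ _ _ _ ⟨f, hf⟩ ⟨g, hg⟩
    exact ⟨f + g, by simp [hf, hg, add_smul, Finset.sum_add_distrib]⟩

lemma mem_posRoots_iff (i : idx) : i ∈ posRoots P b ↔ b.IsPos i := by
  refine ⟨fun h => ?_, fun h => ?_⟩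
  · obtain ⟨f, hf⟩ := exists_nat_coeff b h
    rw [RootPairing.Base.isPos_iff', RootPairing.Base.height_eq_sum (f := fun j => (f j : ℤ)) hf]
    exact Finset.sum_nonneg fun j _ => Int.natCast_nonneg _
  · rcases b.root_mem_or_neg_mem i with h' | h'
    · exact h'
    · obtain ⟨f, hf⟩ := exists_nat_coeff b h'
      rw [neg_eq_iff_eq_neg, ← Finset.sum_neg_distrib] at hf
      simp only [← neg_smul] at hf
      rw [RootPairing.Base.isPos_iff, RootPairing.Base.height_eq_sum hf, Finset.sum_neg_distrib] at h
      have : 0 ≤ ∑ j ∈ b.support, (f j : ℤ) := Finset.sum_nonneg fun j _ => Int.natCast_nonneg _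
      omega

lemma mem_negRoots_iff (i : idx) : i ∈ negRoots P b ↔ ¬ b.IsPos i := by
  refine ⟨fun h h' => ?_, fun h => (b.root_mem_or_neg_mem i).resolve_left
    (fun h' => h ((mem_posRoots_iff b i).mp h'))⟩
  obtain ⟨f, hf⟩ := exists_nat_coeff b h
  rw [neg_eq_iff_eq_neg, ← Finset.sum_neg_distrib] at hf
  simp only [← neg_smul] at hf
  rw [RootPairing.Base.isPos_iff, RootPairing.Base.height_eq_sum hf, Finset.sum_neg_distrib] at h'
  have : 0 ≤ ∑ j ∈ b.support, (f j : ℤ) := Finset.sum_nonneg fun j _ => Int.natCast_nonneg _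
  omega

lemma smul_eq_wordPerm (l : List idx) (i : idx) :
    (l.map (RootPairing.Equiv.reflection P)).prod • i = wordPerm P l i := by
  induction l with
  | nil => simp [wordPerm]
  | cons a t ih =>
    rw [List.map_cons, List.prod_cons, mul_smul, ih]
    simp only [wordPerm, List.map_cons, List.prod_cons]
    rfl

lemma wordPerm_mul_reflectionPerm (l : List idx) (i : idx) :
    wordPerm P l * P.reflectionPerm i = P.reflectionPerm (wordPerm P l i) * wordPerm P l := by
  refine Equiv.ext fun x => ?_
  set u := (l.map (RootPairing.Equiv.reflection P)).prod with hu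
  have e := congrArg (fun g : P.Aut => g • (u • x)) (gconj_reflection u i)
  simp only [mul_smul, inv_smul_smul] at e
  rw [Equiv.Perm.mul_apply, Equiv.Perm.mul_apply, ← smul_eq_wordPerm l x, ← smul_eq_wordPerm l,
    ← hu]
  rw [← smul_eq_wordPerm l i, ← hu]
  exact e

end Groth.Agent.RootSys
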