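import Groth.Agent.RootSys.Forms

/-!
# Orthogonal partitions, lengths, and coroots of simple roots
-/

noncomputable section
open Function Set

namespace Groth.Agent.RootSys

variable {ι M N : Type*} [AddCommGroup M] [AddCommGroup N] {P : RootPairing ι ℤ M N}

lemma pairing_flip (i j : ι) : P.flip.pairing i j = P.pairing j i := rfl

lemma isClosedPartition_of_orth [Finite ι] {R' : Set ι} (h : ∀ a ∈ R', ∀ b ∉ R', P.pairing a b = 0) :
    IsClosedPartition P R' := by
  have hs : ∀ a, P.pairing a (opp P a) ≠ 0 := fun a e => by
    have := pairing_opp_left (P := P) a a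
    rw [pairing_zero_comm.mp e, P.pairing_same] at this
    norm_num at this
  refine ⟨fun a b k ha hb hk => ?_, fun a ha => by_contra fun hc => hs a (h a ha _ hc),
    fun a b k ha hb hk hkR => ?_, fun a ha hc => hs a (pairing_zero_comm.mp (h _ hc a ha))⟩
  · by_contra hc
    have e := congr_arg (P.coroot' k) hk
    rw [map_add, P.root_coroot'_eq_pairing, P.root_coroot'_eq_pairing, P.root_coroot'_eq_pairing, P.pairing_same,
      h a ha k hc, h b hb k hc] at e
    norm_num at e
  · have e := congr_arg (P.coroot' k) hk
    rw [map_add, P.root_coroot'_eq_pairing, P.root_coroot'_eq_pairing, P.root_coroot'_eq_pairing, P.pairing_same,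
      pairing_zero_comm.mp (h k hkR a ha), pairing_zero_comm.mp (h k hkR b hb)] at e
    norm_num at e

lemma IsClosedPartition.orth [Finite ι] {R' : Set ι} (h : IsClosedPartition P R') :
    ∀ a ∈ R', ∀ b ∉ R', P.pairing a b = 0 := fun _ ha _ hb => by_contra fun hne => hb (h.mem_of_pairing_ne ha hne)

/-- Irreducibility in the sense of partitions. -/
def IsIrred (P : RootPairing ι ℤ M N) : Prop :=
  ∀ R' : Set ι, RootD.IsClosedSub P R' → RootD.IsSymmSub P R' → RootD.IsClosedSub P R'ᶜ →
    RootD.IsSymmSub P R'ᶜ → R' = ∅ ∨ R' = Set.univ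

lemma IsIrred.flip [Finite ι] (h : IsIrred P) : IsIrred P.flip := by
  intro R' h1 h2 h3 h4
  have hf := IsClosedPartition.orth (P := P.flip) ⟨h1, h2, h3, h4⟩
  have hp := isClosedPartition_of_orth (P := P) (R' := R') fun a ha b hb => pairing_zero_comm.mp (hf a ha b hb)
  exact h R' hp.closed hp.symm hp.closed' hp.symm'

/-- In an irreducible datum every orbit meets the non-orthogonals of every root. -/
lemma IsIrred.exists_pairing_ne [Finite ι] (h : IsIrred P) (i k : ι) :
    ∃ g ∈ P.weylGroup, P.pairing k (g • i) ≠ 0 := by
  let O : Set ι := {k | ∀ g ∈ P.weylGroup, P.pairing k (g • i) = 0}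
  have hO : ∀ a ∈ O, ∀ b ∉ O, P.pairing a b = 0 := by
    intro a ha b hb
    simp only [O, Set.mem_setOf_eq, not_forall] at hb
    obtain ⟨g, hg, hgb⟩ := hb
    have hs : refl P b • a ∈ O := fun g' hg' => by
      have e := ha (refl P b * g') (mul_mem (P.reflection_mem_weylGroup b) hg')
      rw [← pairing_smul (refl P b), ← mul_smul, ← mul_assoc, show refl P b * refl P b = 1 from reflection_mul_self b,
        one_mul] at e
      exact e
    have e := hs g hg
    rw [← P.root_coroot'_eq_pairing, root_reflection_smul, map_sub, map_zsmul, P.root_coroot'_eq_pairing,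
      P.root_coroot'_eq_pairing, ha g hg, zero_sub, neg_eq_zero, smul_eq_mul, mul_eq_zero] at e
    exact e.resolve_right hgb
  have hp := isClosedPartition_of_orth hO
  rcases h O hp.closed hp.symm hp.closed' hp.symm' with h0 | h0
  · by_contra! hk
    exact Set.notMem_empty k (h0 ▸ hk)
  · have e := (h0.symm ▸ Set.mem_univ i : i ∈ O) 1 (one_mem _)
    rw [one_smul, P.pairing_same] at e
    norm_num at e

variable [Fintype ι]

/-- The product of the two norms is locally constant. -/
lemma norms_eq_of_pairing_ne {i j : ι} (h : P.pairing i j ≠ 0) :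
    P.RootForm (P.root i) (P.root i) * P.CorootForm (P.coroot i) (P.coroot i) =
      P.RootForm (P.root j) (P.root j) * P.CorootForm (P.coroot j) (P.coroot j) := by
  classical
  have hT : ∀ x y, P.RootForm (P.CoPolarization (P.Polarization x)) y =
      ∑ k, P.RootForm x (P.root k) * P.RootForm (P.root k) y := fun x y => by
    rw [RootPairing.CoPolarization_apply, map_sum, LinearMap.sum_apply]
    refine Finset.sum_congr rfl fun k _ => ?_
    rw [map_smul, LinearMap.smul_apply, smul_eq_mul]
    congr 1
    exact P.toLinearMap_apply_apply_Polarization x (P.root k)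
  have hsym : P.RootForm (P.CoPolarization (P.Polarization (P.root i))) (P.root j) =
      P.RootForm (P.CoPolarization (P.Polarization (P.root j))) (P.root i) := by
    rw [hT, hT]
    exact Finset.sum_congr rfl fun k _ => by
      rw [rootForm_comm (P.root i), rootForm_comm (P.root j) (P.root k)]; ring
  have e : ∀ a b, (P.RootForm (P.root a) (P.root a) * P.CorootForm (P.coroot a) (P.coroot a)) *
      P.RootForm (P.root a) (P.root b) = 4 * P.RootForm (P.CoPolarization (P.Polarization (P.root a))) (P.root b) := by
    intro a b
    rw [← smul_eq_mul, ← LinearMap.smul_apply, ← map_smul, ← P.four_nsmul_coPolarization_compl_polarization_apply_root,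
      LinearMap.smul_apply, map_nsmul, LinearMap.smul_apply, nsmul_eq_mul, LinearMap.comp_apply]
    rfl
  have h1 := e i j
  have h2 := e j i
  rw [rootForm_comm (P.root j) (P.root i), ← hsym] at h2
  refine mul_right_cancel₀ (fun h0 : P.RootForm (P.root i) (P.root j) = 0 => ?_) (h1.trans h2.symm)
  have e3 := rootForm_mul_pairing (P := P) j i
  rw [rootForm_comm (P.root j) (P.root i), h0, mul_zero] at e3
  exact h ((mul_eq_zero.mp e3).resolve_left (rootForm_pos j).ne')

lemma pairing_mul_pairing_le (i j : ι) : P.pairing i j * P.pairing j i ≤ 4 := by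
  have h := P.coxeterWeightIn_le_four ℤ i j
  rwa [RootPairing.coxeterWeightIn, pairingIn_int, pairingIn_int] at h

lemma length_ratio {i j : ι} :
    P.RootForm (P.root i) (P.root i) * P.pairing j i = P.RootForm (P.root j) (P.root j) * P.pairing i j := by
  rw [rootForm_mul_pairing, rootForm_mul_pairing, rootForm_comm]

/-- A length not smaller than that of a non-orthogonal root is a small multiple of it. -/
lemma length_cases {i j : ι} (h : P.pairing i j ≠ 0)
    (hle : P.RootForm (P.root j) (P.root j) ≤ P.RootForm (P.root i) (P.root i)) :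
    ∃ r : ℤ, (r = 1 ∨ r = 2 ∨ r = 3 ∨ r = 4) ∧
      P.RootForm (P.root i) (P.root i) = r * P.RootForm (P.root j) (P.root j) := by
  have hB := length_ratio (P := P) (i := i) (j := j)
  have hi := rootForm_pos (P := P) i
  have hj := rootForm_pos (P := P) j
  have h4 := pairing_mul_pairing_le (P := P) i j
  have hne : P.pairing j i ≠ 0 := fun e => h (pairing_zero_comm.mpr e)
  generalize P.RootForm (P.root i) (P.root i) = a at *
  generalize P.RootForm (P.root j) (P.root j) = b at *
  generalize P.pairing i j = p at *
  generalize P.pairing j i = q at *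
  have hpq : 0 < p * q := by
    rcases lt_or_gt_of_ne hne with hq | hq
    · have : p < 0 := by nlinarith
      exact mul_pos_of_neg_of_neg this hq
    · have : 0 < p := by nlinarith
      exact mul_pos this hq
  rcases lt_or_gt_of_ne hne with hq | hq
  · have hp : p < 0 := by nlinarith
    have hqp : p ≤ q := by nlinarith
    have : -4 ≤ p := by nlinarith
    have : q = -1 ∨ q ≤ -2 := by omega
    rcases this with rfl | hq2
    · exact ⟨-p, by omega, by linarith⟩
    · have : p = -2 := by nlinarith
      have : q = -2 := by nlinarith
      subst_vars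
      exact ⟨1, Or.inl rfl, by linarith⟩
  · have hp : 0 < p := by nlinarith
    have hqp : q ≤ p := by nlinarith
    have : p ≤ 4 := by nlinarith
    have : q = 1 ∨ 2 ≤ q := by omega
    rcases this with rfl | hq2
    · exact ⟨p, by omega, by linarith⟩
    · have : p = 2 := by nlinarith
      have : q = 2 := by nlinarith
      subst_vars
      exact ⟨1, Or.inl rfl, by linarith⟩

/-- Non-orthogonal roots of equal length are conjugate. -/
lemma exists_conj_of_pairing_ne {i j : ι} (h : P.pairing i j ≠ 0)
    (hl : P.RootForm (P.root i) (P.root i) = P.RootForm (P.root j) (P.root j)) :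
    ∃ g ∈ P.weylGroup, g • i = j := by
  classical
  have hq : P.pairing j i = P.pairing i j := by
    have e := length_ratio (P := P) (i := i) (j := j)
    rw [← hl] at e
    exact mul_left_cancel₀ (rootForm_pos i).ne' e
  have h4 := pairing_mul_pairing_le (P := P) i j
  have hform : ∀ e : ℤ, e * e = 1 → e * P.pairing i j = 2 → P.root j = e • P.root i := fun e he he2 => by
    refine sub_eq_zero.mp (P.eq_zero_of_mem_rootSpan_of_rootForm_self_eq_zero
      (sub_mem (Submodule.subset_span ⟨j, rfl⟩) (Submodule.smul_mem _ _ (Submodule.subset_span ⟨i, rfl⟩))) ?_)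
    have e1 := rootForm_mul_pairing (P := P) i j
    simp only [map_sub, map_zsmul, map_smul, LinearMap.sub_apply, LinearMap.smul_apply, smul_eq_mul,
      rootForm_comm (P.root j) (P.root i)]
    rw [hq] at e1
    have e3 : 2 * (e * P.RootForm (P.root i) (P.root j)) = 2 * P.RootForm (P.root i) (P.root i) := by
      linear_combination (norm := ring1) (-e) * e1 + P.RootForm (P.root i) (P.root i) * he2
    linear_combination (norm := ring1) P.RootForm (P.root i) (P.root i) * he - e3 - hl
  have hW := P.reflection_mem_weylGroup
  rcases (by rw [hq] at h4; have : -2 ≤ P.pairing i j := by nlinarith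
             have : P.pairing i j ≤ 2 := by nlinarith
             omega : P.pairing i j = -2 ∨ P.pairing i j = -1 ∨ P.pairing i j = 1 ∨ P.pairing i j = 2)
    with hp | hp | hp | hp
  · refine ⟨refl P i, hW i, P.root.injective ?_⟩
    rw [reflection_smul_self, root_opp, hform (-1) (by norm_num) (by omega), neg_smul, one_smul]
  · refine ⟨refl P i * refl P j, mul_mem (hW i) (hW j), P.root.injective ?_⟩
    rw [mul_smul, root_smul, root_reflection_smul, smul_sub, ← root_smul, reflection_smul_self, root_opp,
      smul_comm, ← root_smul, root_reflection_smul, hq, hp]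
    module
  · refine ⟨refl P j * refl P i * refl P j, mul_mem (mul_mem (hW j) (hW i)) (hW j), P.root.injective ?_⟩
    have e : P.root (refl P i • refl P j • i) = -P.root j := by
      rw [root_smul, root_reflection_smul, smul_sub, ← root_smul, reflection_smul_self, root_opp,
        smul_comm, ← root_smul, root_reflection_smul, hq, hp]
      module
    rw [mul_smul, mul_smul, root_smul, e, smul_neg, ← root_smul, reflection_smul_self, root_opp, neg_neg]
  · exact ⟨1, one_mem _, P.root.injective (by rw [one_smul, hform 1 (by norm_num) (by omega), one_smul])⟩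

/-- Coroots of simple roots are linearly independent. -/
lemma linIndepOn_coroot {Δ : Set ι} (h : LinearIndepOn ℤ P.root Δ) : LinearIndepOn ℤ P.coroot Δ := by
  classical
  obtain ⟨D, rfl⟩ : ∃ D : Finset ι, (D : Set ι) = Δ := ⟨Δ.toFinite.toFinset, Set.Finite.coe_toFinset _⟩
  show LinearIndependent ℤ fun a : D => P.coroot (a : ι)
  refine Fintype.linearIndependent_iff.mpr fun c hc => ?_
  have hdet := cartan_det_pos h
  by_contra hne
  refine hdet.ne' (Matrix.exists_vecMul_eq_zero_iff.mp ⟨c, fun h0 => hne fun a => congrFun h0 a, funext fun b => ?_⟩)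
  have e := congr_arg (P.toLinearMap (P.root b)) hc
  simp only [map_sum, map_zero, map_zsmul, smul_eq_mul] at e
  exact e

end Groth.Agent.RootSys
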