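import Groth.Agent.RootSys.Existence
import Mathlib.LinearAlgebra.RootSystem.Base

/-!
# Bases of reduced integral root pairings
-/

set_option autoImplicit false

noncomputable section

open Function Set Finsupp

namespace Groth.Agent.RootSys

variable {ι M N : Type*} [AddCommGroup M] [AddCommGroup N] {P : RootPairing ι ℤ M N} [Finite ι] [P.IsReduced]

theorem eq_of_root_smul {i k : ι} {n : ℤ} (hn : 0 < n) (h : P.root k = n • P.root i) : k = i := by
  haveI : Module.IsReflexive ℤ M := .of_isPerfPair P.toLinearMap
  haveI : IsAddTorsionFree M := .of_isTorsionFree ℤ M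
  have hdep : ¬ LinearIndependent ℤ ![P.root k, P.root i] := fun hl => by
    obtain ⟨h1, -⟩ := LinearIndependent.pair_iff.1 hl 1 (-n) (by rw [h]; module)
    exact one_ne_zero h1
  rcases RootPairing.IsReduced.eq_or_eq_neg k i hdep with e | e
  · exact P.root.injective e
  · exfalso
    have h2 : (n + 1) • P.root i = 0 := by rw [add_smul, ← h, e, one_smul, neg_add_cancel]
    rcases smul_eq_zero.1 h2 with h3 | h3
    · omega
    · exact P.ne_zero i h3

/-- A simple root is a positive root whose reflection keeps the others positive. -/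
theorem simple_iff_preserves {Δ : Set ι} (hΔ : RootD.IsSimpleSys P Δ) {i : ι} (hi : i ∈ RootD.posOf P Δ) :
    i ∈ Δ ↔ ∀ k ∈ RootD.posOf P Δ, k ≠ i → P.reflectionPerm i k ∈ RootD.posOf P Δ := by
  classical
  refine ⟨fun h k hk hki => ?_, fun h => ?_⟩
  · obtain ⟨b, hb, hb'⟩ : ∃ b, b ≠ i ∧ 0 < coef hΔ k b := by
      by_contra hne
      push Not at hne
      have hnn := (mem_posOf_iff hΔ k).1 hk
      have e : coef hΔ k = Finsupp.single i (coef hΔ k i) := Finsupp.ext fun b => by
        by_cases hb : b = i
        · subst hb; rw [Finsupp.single_eq_same]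
        · rw [Finsupp.single_eq_of_ne hb]; exact le_antisymm (hne b hb) (hnn b)
      refine hki (eq_of_root_smul (P := P) (n := coef hΔ k i) ?_ ?_)
      · refine lt_of_le_of_ne (hnn i) fun h0 => coef_ne_zero hΔ k (by rw [e, ← h0, Finsupp.single_zero])
      · conv_lhs => rw [← lc_coef hΔ k, e, lc, Finsupp.linearCombination_single]
    refine mem_posOf_of_coef_pos hΔ (a := b) (show 0 < coef hΔ (RootPairing.Equiv.reflection P i • k) b from ?_)
    rw [coef_reflection hΔ h, Finsupp.sub_apply, Finsupp.single_eq_of_ne hb, sub_zero]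
    exact hb'
  · by_contra hn
    have hnn := (mem_posOf_iff hΔ i).1 hi
    have hsum : ∑ a ∈ (coef hΔ i).support, coef hΔ i a * P.pairing a i = 2 := by
      have e := congr_arg (P.coroot' i) (lc_coef hΔ i)
      rw [lc, Finsupp.linearCombination_apply, Finsupp.sum, map_sum] at e
      simp only [map_smul, P.root_coroot'_eq_pairing, P.pairing_same, smul_eq_mul] at e
      exact e
    obtain ⟨a, ha, hpos⟩ : ∃ a ∈ (coef hΔ i).support, 0 < coef hΔ i a * P.pairing a i := by
      by_contra h0
      push Not at h0
      have h1 := Finset.sum_nonpos h0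
      rw [hsum] at h1
      omega
    have haΔ : a ∈ Δ := coef_support hΔ i ha
    have hai : a ≠ i := fun e => hn (e ▸ haΔ)
    have hc : 0 < coef hΔ i a := lt_of_le_of_ne (hnn a) (Ne.symm (Finsupp.mem_support_iff.1 ha))
    have hp : 0 < P.pairing a i := (mul_pos_iff_of_pos_left hc).1 hpos
    obtain ⟨b, hb, hb'⟩ : ∃ b, b ≠ a ∧ 0 < coef hΔ i b := by
      by_contra hne
      push Not at hne
      have e : coef hΔ i = Finsupp.single a (coef hΔ i a) := Finsupp.ext fun b => by
        by_cases hb : b = a
        · subst hb; rw [Finsupp.single_eq_same]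
        · rw [Finsupp.single_eq_of_ne hb]; exact le_antisymm (hne b hb) (hnn b)
      refine hai (eq_of_root_smul (P := P) (n := coef hΔ i a) hc ?_).symm
      conv_lhs => rw [← lc_coef hΔ i, e, lc, Finsupp.linearCombination_single]
    have hk := (mem_posOf_iff hΔ _).1 (h a (simple_mem_posOf hΔ haΔ) hai) b
    have he : coef hΔ (P.reflectionPerm i a) = Finsupp.single a 1 - P.pairing a i • coef hΔ i := by
      refine coef_eq hΔ (fun x hx => ?_) ?_
      · rcases Finset.mem_union.mp (Finsupp.support_sub hx) with h1 | h1
        · exact Finset.mem_singleton.mp (Finsupp.support_single_subset h1) ▸ haΔ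
        · exact coef_support hΔ _ (Finsupp.support_smul h1)
      · rw [lc, map_sub, map_smul, Finsupp.linearCombination_single, one_smul, ← lc, lc_coef,
          P.root_reflectionPerm, P.reflection_apply_root]
    rw [he, Finsupp.sub_apply, Finsupp.single_eq_of_ne hb, Finsupp.smul_apply, smul_eq_mul, zero_sub] at hk
    nlinarith

/-- **A reduced integral root pairing with a regular vector has a base.** -/
theorem nonempty_base [Module.Finite ℤ M] [Module.Free ℤ M] [P.flip.IsReduced] (ξ : M)
    (hξ : ∀ i, P.coroot' i ξ ≠ 0) : Nonempty P.Base := by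
  classical
  letI := Fintype.ofFinite ι
  let S : Set ι := {i | 0 < P.coroot' i ξ}
  have hform : ∀ i, P.RootForm (P.root i) (P.root i) * P.coroot' i ξ = 2 * P.RootForm ξ (P.root i) := fun i => by
    have e := congr_arg (P.toLinearMap ξ) (P.rootForm_self_smul_coroot i)
    rw [map_zsmul, map_nsmul, P.toLinearMap_apply_apply_Polarization, nsmul_eq_mul, smul_eq_mul] at e
    have hs : P.RootForm ξ (P.root i) = P.RootForm (P.root i) ξ := P.rootForm_symmetric.eq _ _
    rw [hs]
    simpa [RootPairing.coroot'] using e
  have hS : S = {i | 0 < P.RootForm ξ (P.root i)} := by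
    ext i
    have h1 := hform i
    have h2 := rootForm_pos (P := P) i
    show 0 < P.coroot' i ξ ↔ 0 < P.RootForm ξ (P.root i)
    constructor <;> intro h <;> nlinarith
  have hφne : ∀ i, P.RootForm ξ (P.root i) ≠ 0 := fun i h => by
    have h1 := hform i
    rw [h, mul_zero] at h1
    rcases mul_eq_zero.1 h1 with h2 | h2
    · exact (rootForm_pos (P := P) i).ne' h2
    · exact hξ i h2
  have hP : RootD.IsPosSys P S := by
    rw [hS, isPosSys_iff]
    refine ⟨fun i hi h => ?_, fun i => ?_, fun i j k hi hj hk => ?_⟩
    · have h' : 0 < P.RootForm ξ (P.root (opp P i)) := h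
      rw [root_opp, map_neg] at h'
      have h'' : 0 < P.RootForm ξ (P.root i) := hi
      omega
    · rcases (hφne i).lt_or_gt with h | h
      · right
        show 0 < P.RootForm ξ (P.root (opp P i))
        rw [root_opp, map_neg]; omega
      · exact Or.inl h
    · show 0 < P.RootForm ξ (P.root k)
      rw [hk, map_add]
      exact add_pos hi hj
  have hf : ∀ i, P.flip.root i = P.coroot i := fun i => rfl
  have hQ : RootD.IsPosSys P.flip S := by
    rw [isPosSys_iff]
    refine ⟨fun i hi h => ?_, fun i => ?_, fun i j k hi hj hk => ?_⟩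
    · have h' : 0 < P.toLinearMap ξ (P.flip.root (opp P.flip i)) := h
      rw [root_opp, map_neg] at h'
      have h'' : 0 < P.toLinearMap ξ (P.flip.root i) := hi
      omega
    · rcases (hξ i).lt_or_gt with h | h
      · right
        show 0 < P.toLinearMap ξ (P.flip.root (opp P.flip i))
        rw [root_opp, map_neg]
        exact neg_pos.2 h
      · exact Or.inl h
    · show 0 < P.toLinearMap ξ (P.flip.root k)
      rw [hk, map_add]
      exact add_pos hi hj
  have hΔ := isSimpleSys_simpleOf hP
  have hΔ' := isSimpleSys_simpleOf hQ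
  have e : simpleOf P.flip S = simpleOf P S := by
    ext i
    by_cases hi : i ∈ S
    · rw [simple_iff_preserves hΔ (by rwa [posOf_simpleOf hP]), simple_iff_preserves hΔ' (by rwa [posOf_simpleOf hQ]),
        posOf_simpleOf hP, posOf_simpleOf hQ]
      exact Iff.rfl
    · exact iff_of_false (fun h => hi h.1) fun h => hi h.1
  rw [e] at hΔ'
  refine ⟨{
    support := (Set.toFinite (simpleOf P S)).toFinset
    linearIndepOn_root := ?_
    linearIndepOn_coroot := ?_
    root_mem_or_neg_mem := fun i => ?_
    coroot_mem_or_neg_mem := fun i => ?_ }⟩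
  · rw [Set.Finite.coe_toFinset]; exact hΔ.linInd
  · rw [Set.Finite.coe_toFinset]; exact hΔ'.linInd
  · rw [Set.Finite.coe_toFinset]; exact hΔ.mem_or_neg_mem i
  · rw [Set.Finite.coe_toFinset]; exact hΔ'.mem_or_neg_mem i

end Groth.Agent.RootSys
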