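import Groth.Agent.RootSys.RootU
import Groth.Agent.DynPar.FieldBorel
import Groth.Agent.SubGen.SpreadBase

/-!
# Root homomorphisms after a change of base
-/

set_option autoImplicit false
set_option backward.isDefEq.respectTransparency false
set_option linter.style.haveILetI false
set_option maxHeartbeats 1000000
set_option synthInstance.maxHeartbeats 400000

universe u

open CategoryTheory Limits MonoidalCategory CartesianMonoidalCategory MonObj AlgebraicGeometry LieS
open scoped CategoryTheory.Obj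

noncomputable section

namespace Groth.Agent.RootSys

open Groth.Agent.HomDiag Groth.Agent.DynPar Groth.Agent.MTBridge

variable {S S' : Scheme.{u}} (j : S' ⟶ S)

/-- The tautological point of the additive group over a base of a base. -/
def gaPush : (Over.map j).obj (Red.Ga S') ⟶ Red.Ga S :=
  BGaNotS.gaPt (W := (Over.map j).obj (Red.Ga S')) (Red.gaFn (𝟙 (Red.Ga S')) :)

theorem gaFn_gaPush {X : Over S'} (x : X ⟶ Red.Ga S') : Red.gaFn ((Over.map j).map x ≫ gaPush j) = Red.gaFn x := by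
  rw [BGaNotS.gaFn_comp, gaPush, BGaNotS.gaFn_gaPt]
  exact (BGaNotS.gaFn_comp x (𝟙 _)).symm.trans (by rw [Category.comp_id])

/-- The comparison of additive groups along a change of base. -/
def gaBC : Red.Ga S' ⟶ Red.bc j (Red.Ga S) := toBC j (gaPush j)

theorem comp_gaBC {X : Over S'} (x : X ⟶ Red.Ga S') : x ≫ gaBC j = toBC j ((Over.map j).map x ≫ gaPush j) :=
  ((Over.mapPullbackAdj j).homEquiv_naturality_left x (gaPush j)).symm

instance isMonHom_gaBC : IsMonHom (gaBC j) :=
  isMonHom_toBC j (gaPush j) fun _ x y => BGaNotS.gaPt_ext (by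
    rw [BGaNotS.gaFn_mul, gaFn_gaPush, gaFn_gaPush, gaFn_gaPush]
    exact BGaNotS.gaFn_mul x y)

theorem isIso_gaBC : IsIso (gaBC j) := by
  let ε : (Over.map j).obj (Red.bc j (Red.Ga S)) ⟶ Red.Ga S := fromB j (𝟙 _)
  let w : Red.bc j (Red.Ga S) ⟶ Red.Ga S' := BGaNotS.gaPt (W := Red.bc j (Red.Ga S)) (Red.gaFn ε :)
  have h1 : (Over.map j).map w ≫ gaPush j = ε := BGaNotS.gaPt_ext (by
    rw [gaFn_gaPush]; exact BGaNotS.gaFn_gaPt _)
  refine ⟨w, ?_, ?_⟩
  · refine BGaNotS.gaPt_ext ?_
    rw [← gaFn_gaPush j, Functor.map_comp, Category.assoc, h1, ← gaFn_gaPush j (𝟙 _)]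
    congr 1
    rw [CategoryTheory.Functor.map_id, Category.id_comp]
    exact ((Over.mapPullbackAdj j).homEquiv_naturality_left_symm (gaBC j) (𝟙 _)).symm.trans
      ((congrArg _ (Category.comp_id _)).trans (Equiv.symm_apply_apply _ _))
  · rw [comp_gaBC, h1]
    exact Equiv.apply_symm_apply _ _

variable {G : Over S} [GrpObj G]

/-- A homomorphism from the additive group after a change of base. -/
def bcGa (u : Red.Ga S ⟶ G) : Red.Ga S' ⟶ Red.bc j G := gaBC j ≫ (Over.pullback j).map u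

theorem bcGa_eq (u : Red.Ga S ⟶ G) {X : Over S'} (x : X ⟶ Red.Ga S') :
    x ≫ bcGa j u = toBC j (((Over.map j).map x ≫ gaPush j) ≫ u) := by
  rw [bcGa, ← Category.assoc, comp_gaBC, ← toBC_comp]

/-- A root homomorphism stays one after a change of base. -/
theorem isRootHom_bc {M : Type} [AddCommGroup M] {c : Red.DS S M ⟶ G} {a : M} {u : Red.Ga S ⟶ G}
    (hu : Red.IsRootHom c (Red.chi S a) u) :
    Red.IsRootHom (bcHom' j c) (Red.chi S' a) (bcGa j u) := by
  haveI := hu.1; haveI := hu.2.1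
  haveI := isIso_gaBC j
  haveI := isMonHom_map' j u
  refine ⟨isMonHom_comp' (gaBC j) ((Over.pullback j).map u), ?_, fun X t x => ?_⟩
  · haveI : IsIso (gaBC j).left := inferInstanceAs (IsIso ((Over.forget S').map (gaBC j)))
    haveI := SubGen.Spread.isClosedImmersion_map j u
    rw [bcGa, Over.comp_left]
    infer_instance
  · obtain ⟨y, hy, hy'⟩ := hu.2.2 _ ((Over.map j).map t ≫ ejPt j M) ((Over.map j).map x ≫ gaPush j)
    have ht : t ≫ bcHom' j c = toBC j (((Over.map j).map t ≫ ejPt j M) ≫ c) := by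
      rw [bcHom', ← Category.assoc, comp_ej, ← toBC_comp]
    have hinv : ∀ (z : (Over.map j).obj X ⟶ G), toBC j z⁻¹ = (toBC j z)⁻¹ := fun z =>
      map_inv (MonoidHom.mk' (fun z : (Over.map j).obj X ⟶ G => toBC j z) (toBC_mul j)) z
    refine ⟨BGaNotS.gaPt (W := X) (Red.gaFn y :), ?_, ?_⟩
    · rw [bcGa_eq, bcGa_eq, ht, ← toBC_mul, ← hinv, ← toBC_mul]
      congr 1
      rw [← hy]
      congr 1
      exact BGaNotS.gaPt_ext (by rw [gaFn_gaPush]; exact BGaNotS.gaFn_gaPt _)
    · rw [BGaNotS.gaFn_gaPt, hy', RootIntrinsic.gmFn_chi, RootIntrinsic.gmFn_chi, ch_map_ejPt, gaFn_gaPush]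

end Groth.Agent.RootSys
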