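import Groth.Agent.RootSys.Field
import Groth.Agent.HomDiag.DualConst

/-!
# Elementary consequences of the rank-one theory over a field
-/

set_option autoImplicit false
set_option backward.isDefEq.respectTransparency false
set_option linter.style.haveILetI false
set_option maxHeartbeats 1000000
set_option synthInstance.maxHeartbeats 400000

universe u v

open CategoryTheory Limits MonoidalCategory CartesianMonoidalCategory MonObj AlgebraicGeometry LieS
open scoped CategoryTheory.Obj

noncomputable section

namespace Groth.Agent.RootSys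

open Groth.Agent.HomDiag Groth.Agent.DynPar Groth.Agent.RootIntrinsic

/-- the group structure of a diagonalisable group over the integers -/
local instance (priority := high) diagGrpFG (M : Type) [AddCommGroup M] :
    GrpObj (Red.diag (ULift.{u} ℤ) M) :=
  (Groth.Agent.MTBridge.specGrp (ULift.{u} ℤ) (ZA.{u} M)).grp

variable {k : Type u} [Field k] {M : Type} [AddCommGroup M]

/-- A reductive group over a field is affine, smooth and connected. -/
theorem red_inst {G : Over (Spec (CommRingCat.of k))} [GrpObj G] (hG : Red.IsReductive G) :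
    IsAffine G.left ∧ Smooth G.hom ∧ ConnectedSpace G.left := by
  haveI := hG.1; haveI := hG.2.1
  refine ⟨isAffine_of_isAffineHom G.hom, inferInstance, ?_⟩
  haveI := Groth.Agent.Rigid.geometricallyConnected_of_geomFibre G fun s => (hG.2.2 s).2.2.1
  exact GeometricallyConnected.geometrically_connectedSpace (f := G.hom) (𝟙 (Spec (CommRingCat.of k))) (𝟙 G.left) G.hom
    (IsPullback.id_horiz G.hom)

theorem isMonHom_split {G T : Over (Spec (CommRingCat.of k))} [GrpObj G] [GrpObj T] {i : T ⟶ G} (hi : IsMonHom i)
    (E : Grp.mk T ≅ Grp.mk (Red.DS (Spec (CommRingCat.of k)) M)) : IsMonHom (E.inv.hom.hom ≫ i) := by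
  haveI := hi
  haveI : IsMonHom E.inv.hom.hom := E.inv.hom.isMonHom_hom
  infer_instance

theorem chi_neg' (a : M) :
    Red.chi (Spec (CommRingCat.of k)) (-a) = (Red.chi (Spec (CommRingCat.of k)) a)⁻¹ := by
  refine eq_inv_of_mul_eq_one_left ?_
  have h := chi_add (S := Spec (CommRingCat.of k)) (𝟙 (Red.DS (Spec (CommRingCat.of k)) M)) (-a) a
  rw [neg_add_cancel, chi_zero (k := k), Category.id_comp, Category.id_comp, Category.id_comp] at h
  exact h.symm

/-- The characters as a homomorphism. -/
def chiHom (k : Type u) [Field k] (M : Type) [AddCommGroup M] :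
    Multiplicative M →* (Red.DS (Spec (CommRingCat.of k)) M ⟶ Red.Gm (Spec (CommRingCat.of k))) :=
  MonoidHom.mk' (fun a => Red.chi _ a.toAdd) fun a b => by
    have h := chi_add (S := Spec (CommRingCat.of k)) (𝟙 (Red.DS (Spec (CommRingCat.of k)) M)) a.toAdd b.toAdd
    rw [Category.id_comp, Category.id_comp, Category.id_comp] at h
    exact h

theorem chi_zpow (a : M) (n : ℤ) :
    (Red.chi (Spec (CommRingCat.of k)) a) ^ n = Red.chi (Spec (CommRingCat.of k)) (n • a) := by
  have h := (map_zpow (chiHom k M) (Multiplicative.ofAdd a) n).symm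
  exact h

theorem comp_zpow' {S : Scheme.{u}} {X Y A : Over S} [GrpObj A] (f : X ⟶ Y) (g : Y ⟶ A) (n : ℤ) :
    f ≫ g ^ n = (f ≫ g) ^ n :=
  map_zpow (MonoidHom.mk' (fun h : Y ⟶ A => f ≫ h) fun a b => MonObj.comp_mul f a b) g n

end Groth.Agent.RootSys
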