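import Groth.Agent.RootSys.Weyl
import Mathlib.Algebra.Polynomial.Roots
import Mathlib.LinearAlgebra.Dual.Basis
import Mathlib.RingTheory.Localization.FractionRing

/-!
# Roots in the span of some simple roots, generic functionals, rational saturation
-/

noncomputable section
open Function Set

namespace Groth.Agent.RootSys

variable {ι M N : Type*} [AddCommGroup M] [AddCommGroup N] {P : RootPairing ι ℤ M N}

lemma torsionFree_root {n : ℤ} (hn : n ≠ 0) {x y : M} (h : n • x = n • y) (P : RootPairing ι ℤ M N) : x = y := by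
  haveI : Module.IsReflexive ℤ M := .of_isPerfPair P.toLinearMap
  haveI : IsAddTorsionFree M := .of_isTorsionFree ℤ M
  exact smul_right_injective M hn h

/-- Roots positively proportional to an indivisible root. -/
lemma proportional_cases [Finite ι] {a i : ι} {n m : ℤ} (hn : 0 < n) (hm : 0 < m)
    (h : n • P.root a = m • P.root i) (hi : RootD.IsIndiv P i) :
    a = i ∨ P.root a = (2 : ℤ) • P.root i := by
  have e1 : n * P.pairing a i = m * 2 := by
    simpa [P.root_coroot'_eq_pairing, P.pairing_same] using congr_arg (P.coroot' i) h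
  have e2 : n * 2 = m * P.pairing i a := by
    simpa [P.root_coroot'_eq_pairing, P.pairing_same] using congr_arg (P.coroot' a) h
  have hprod : P.pairing a i * P.pairing i a = 4 := by
    have : (n * m) * (P.pairing a i * P.pairing i a) = (n * m) * 4 := by
      calc (n * m) * (P.pairing a i * P.pairing i a) = (n * P.pairing a i) * (m * P.pairing i a) := by ring
        _ = _ := by rw [e1, ← e2]; ring
    exact mul_left_cancel₀ (mul_pos hn hm).ne' this
  have hpos : 0 < P.pairing a i := pos_of_mul_pos_right (e1 ▸ by positivity) hn.le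
  have hle : P.pairing a i ≤ 4 := Int.le_of_dvd four_pos ⟨_, hprod.symm⟩
  rcases (by omega : P.pairing a i = 1 ∨ P.pairing a i = 2 ∨ P.pairing a i = 3 ∨ P.pairing a i = 4)
    with h' | h' | h' | h' <;> rw [h'] at e1 hprod
  · refine absurd ?_ (hi a)
    refine torsionFree_root hm.ne' ?_ P
    rw [← h, smul_smul]
    congr 1
    omega
  · exact Or.inl (P.root.injective (torsionFree_root hn.ne' (h.trans (by congr 1; omega)) P))
  · omega
  · refine Or.inr (torsionFree_root hn.ne' (h.trans ?_) P)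
    rw [smul_smul]
    congr 1
    omega

/-! Roots in the span of some simple roots -/

section Simple
variable {Δ : Set ι} (hΔ : RootD.IsSimpleSys P Δ)
include hΔ

lemma mem_inSpan_iff {S : Set ι} (hS : S ⊆ Δ) (k : ι) :
    k ∈ RootD.inSpan P S ↔ ∀ a, coef hΔ k a ≠ 0 → a ∈ S := by
  refine ⟨fun h a ha => ?_, fun h => ?_⟩
  · obtain ⟨c, hc, he⟩ := (Finsupp.mem_span_image_iff_linearCombination ℤ).mp h
    rw [coef_eq hΔ (fun b hb => hS (hc hb)) he] at ha
    exact hc (Finsupp.mem_support_iff.mpr ha)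
  · exact (Finsupp.mem_span_image_iff_linearCombination ℤ).mpr
      ⟨coef hΔ k, fun a ha => h a (Finsupp.mem_support_iff.mp ha), lc_coef hΔ k⟩

lemma mem_inSpan_of_zsmul {S : Set ι} (hS : S ⊆ Δ) {k : ι} {n : ℤ} (hn : n ≠ 0)
    (h : n • P.root k ∈ Submodule.span ℤ (P.root '' S)) : k ∈ RootD.inSpan P S := by
  obtain ⟨c, hc, he⟩ := (Finsupp.mem_span_image_iff_linearCombination ℤ).mp h
  refine (mem_inSpan_iff hΔ hS k).mpr fun a ha => ?_
  have e : n • coef hΔ k = c := lc_injective hΔ (fun b hb => coef_support hΔ k (Finsupp.support_smul hb))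
    (fun b hb => hS (hc hb)) (by rw [lc, map_zsmul, ← lc, lc_coef]; exact he.symm)
  exact hc (Finsupp.mem_support_iff.mpr (by rw [← e, Finsupp.smul_apply, smul_eq_mul]; exact mul_ne_zero hn ha))

lemma opp_mem_inSpan_iff {S : Set ι} (hS : S ⊆ Δ) (k : ι) :
    opp P k ∈ RootD.inSpan P S ↔ k ∈ RootD.inSpan P S := by
  simp [mem_inSpan_iff hΔ hS, coef_opp hΔ]

lemma reflection_keeps_outside [Finite ι] {S : Set ι} (hS : S ⊆ Δ) {i : ι} (hi : i ∈ S) {k : ι}
    (hk : k ∈ RootD.posOf P Δ) (hk' : k ∉ RootD.inSpan P S) :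
    refl P i • k ∈ RootD.posOf P Δ ∧ refl P i • k ∉ RootD.inSpan P S := by
  simp only [mem_inSpan_iff hΔ hS, not_forall] at hk' ⊢
  obtain ⟨a, ha, haS⟩ := hk'
  have hne : a ≠ i := fun h => haS (h ▸ hi)
  refine ⟨mem_posOf_reflection hΔ (hS hi) hk hne ha, a, ?_, haS⟩
  rw [coef_reflection hΔ (hS hi), Finsupp.sub_apply, Finsupp.single_eq_of_ne hne, sub_zero]
  exact ha

lemma keeps_outside [Finite ι] {S : Set ι} (hS : S ⊆ Δ) {g : P.Aut}
    (hg : g ∈ Subgroup.closure (refl P '' S)) {k : ι}
    (hk : k ∈ RootD.posOf P Δ) (hk' : k ∉ RootD.inSpan P S) :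
    g • k ∈ RootD.posOf P Δ ∧ g • k ∉ RootD.inSpan P S := by
  induction hg using Subgroup.closure_induction_left generalizing k with
  | one => rw [one_smul]; exact ⟨hk, hk'⟩
  | mul_left x hx y _ ih =>
    obtain ⟨i, hi, rfl⟩ := hx
    rw [mul_smul]
    exact reflection_keeps_outside hΔ hS hi (ih hk hk').1 (ih hk hk').2
  | inv_mul_cancel x hx y _ ih =>
    obtain ⟨i, hi, rfl⟩ := hx
    rw [mul_smul, inv_eq_of_mul_eq_one_left (reflection_mul_self i)]
    exact reflection_keeps_outside hΔ hS hi (ih hk hk').1 (ih hk hk').2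

lemma exists_support_not_orthogonal [Finite ι] (k : ι) :
    ∃ i ∈ Δ, coef hΔ k i ≠ 0 ∧ P.pairing k i ≠ 0 := by
  by_cases hk : k ∈ RootD.posOf P Δ
  · obtain ⟨i, hi, hc, hp⟩ := exists_simple_pairing_pos hΔ hk
    exact ⟨i, hi, hc.ne', hp.ne'⟩
  · obtain ⟨i, hi, hc, hp⟩ := exists_simple_pairing_pos hΔ ((opp_mem_posOf_iff hΔ k).mpr hk)
    rw [coef_opp hΔ, Finsupp.neg_apply] at hc
    rw [pairing_opp_left] at hp
    exact ⟨i, hi, by omega, by omega⟩

lemma root_eq_of_coef_on_single {i k : ι} (h : ∀ a, coef hΔ k a ≠ 0 → a = i) :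
    P.root k = coef hΔ k i • P.root i := by
  classical
  conv_lhs => rw [← lc_coef hΔ k, show coef hΔ k = Finsupp.single i (coef hΔ k i) from Finsupp.ext fun a => by
    rcases eq_or_ne a i with rfl | hne
    · rw [Finsupp.single_eq_same]
    · rw [Finsupp.single_eq_of_ne hne]
      exact by_contra fun h0 => hne (h a h0)]
  rw [lc, Finsupp.linearCombination_single]

end Simple

/-! Generic functionals -/

/-- A finite family of additive maps has an integer combination vanishing only where all vanish. -/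
lemma exists_generic_comb {κ : Type*} [Fintype κ] {T : Type*} [Finite T] (v : T → κ → ℚ) :
    ∃ c : κ → ℚ, ∀ t, (∃ j, v t j ≠ 0) → ∑ j, c j * v t j ≠ 0 := by
  classical
  haveI := Fintype.ofFinite T
  let e := Fintype.equivFin κ
  let p : T → Polynomial ℚ := fun t => ∑ j, Polynomial.C (v t j) * Polynomial.X ^ (e j : ℕ)
  let q : Polynomial ℚ := ∏ t ∈ Finset.univ.filter (fun t => p t ≠ 0), p t
  have hq : q ≠ 0 := Finset.prod_ne_zero_iff.mpr fun t ht => (Finset.mem_filter.mp ht).2
  obtain ⟨K, hK⟩ := Polynomial.exists_eval_ne_zero_of_natDegree_lt_card q hq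
    (lt_of_lt_of_le (Cardinal.nat_lt_aleph0 _) (Cardinal.aleph0_le_mk ℚ))
  refine ⟨fun j => K ^ (e j : ℕ), fun t ⟨j, hj⟩ h0 => ?_⟩
  have hp : p t ≠ 0 := fun h => hj (by
    have := congr_arg (fun r => Polynomial.coeff r (e j : ℕ)) h
    simpa [p, Polynomial.coeff_C_mul_X_pow, Fin.val_inj] using this)
  rw [Polynomial.eval_prod, Finset.prod_ne_zero_iff] at hK
  refine hK t (Finset.mem_filter.mpr ⟨Finset.mem_univ _, hp⟩) ?_
  rw [← h0, Polynomial.eval_finsetSum]
  refine Finset.sum_congr rfl fun x _ => ?_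
  rw [Polynomial.eval_mul, Polynomial.eval_C, Polynomial.eval_pow, Polynomial.eval_X]
  exact mul_comm _ _

/-- Saturation of a set of roots in the rational span. -/
def IsSaturated (P : RootPairing ι ℤ M N) (R' : Set ι) : Prop :=
  ∀ k, (∃ n : ℕ, 0 < n ∧ n • P.root k ∈ Submodule.span ℤ (P.root '' R')) → k ∈ R'

/-- The coroot coordinates. -/
def coords (P : RootPairing ι ℤ M N) : M →+ (ι → ℚ) where
  toFun x j := (P.coroot' j x : ℚ)
  map_zero' := by funext j; simp
  map_add' x y := by funext j; simp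

/-- A functional vanishing exactly on a saturated set of roots. -/
theorem exists_vanishing_exactly [Finite ι] {R' : Set ι} (hR : IsSaturated P R') :
    ∃ f : M →+ ℚ, ∀ k, f (P.root k) = 0 ↔ k ∈ R' := by
  classical
  haveI := Fintype.ofFinite ι
  let W : Submodule ℚ (ι → ℚ) := Submodule.span ℚ ((fun k => coords P (P.root k)) '' R')
  let d := Submodule.dualAnnihilator W
  have hd : ∀ k, k ∉ R' → ∃ φ : Module.Dual ℚ (ι → ℚ), φ ∈ d ∧ φ (coords P (P.root k)) ≠ 0 := by
    intro k hk
    have hnot : coords P (P.root k) ∉ W := by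
      intro h
      let L : Submodule ℤ (ι → ℚ) := Submodule.span ℤ ((fun k => coords P (P.root k)) '' R')
      obtain ⟨c, hc⟩ : ∃ c : ℕ, 0 < c ∧ (c : ℕ) • coords P (P.root k) ∈ L := by
        refine Submodule.span_induction (p := fun x _ => ∃ c : ℕ, 0 < c ∧ c • x ∈ L) ?_ ?_ ?_ ?_ h
        · exact fun x hx => ⟨1, one_pos, by rw [one_smul]; exact Submodule.subset_span hx⟩
        · exact ⟨1, one_pos, by simp⟩
        · rintro x y _ _ ⟨a, ha, hx⟩ ⟨b, hb, hy⟩
          refine ⟨a * b, Nat.mul_pos ha hb, ?_⟩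
          rw [smul_add, mul_comm a b, mul_smul, mul_comm b a, mul_smul]
          exact add_mem (nsmul_mem hx b) (nsmul_mem hy a)
        · rintro q x _ ⟨a, ha, hx⟩
          refine ⟨q.den * a, Nat.mul_pos q.den_pos ha, ?_⟩
          rw [show (q.den * a) • q • x = q.num • (a • x) by
            rw [← Nat.cast_smul_eq_nsmul ℚ, ← Int.cast_smul_eq_zsmul ℚ, ← Nat.cast_smul_eq_nsmul ℚ a x, smul_smul,
              smul_smul]
            congr 1
            push_cast
            rw [← Rat.mul_den_eq_num q]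
            ring]
          exact L.smul_mem _ hx
      rw [show L = (Submodule.span ℤ (P.root '' R')).map (coords P).toIntLinearMap by
        rw [Submodule.map_span, Set.image_image]; rfl] at hc
      obtain ⟨y, hy, hye⟩ := hc.2
      refine hk (hR k ⟨c, hc.1, ?_⟩)
      have hdiff : c • P.root k - y = 0 := by
        refine P.eq_zero_of_mem_rootSpan_of_rootForm_self_eq_zero
          (sub_mem (nsmul_mem (Submodule.subset_span (show P.root k ∈ Set.range P.root from ⟨k, rfl⟩)) c)
            (Submodule.span_mono (Set.image_subset_range _ _) hy)) ?_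
        rw [RootPairing.rootForm_apply_apply]
        refine Finset.sum_eq_zero fun j _ => ?_
        have e := congrFun (show coords P y = c • coords P (P.root k) from hye) j
        have e2 : P.coroot' j (c • P.root k - y) = 0 := by
          rw [map_sub, map_nsmul, sub_eq_zero]
          have e3 : ((P.coroot' j y : ℤ) : ℚ) = ((c • P.coroot' j (P.root k) : ℤ) : ℚ) := by
            simpa [coords] using e
          exact_mod_cast e3.symm
        rw [e2, zero_mul]
      rwa [sub_eq_zero.mp hdiff]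
    obtain ⟨φ, h1, h2⟩ := Submodule.exists_dual_map_eq_bot_of_notMem hnot inferInstance
    exact ⟨φ, (Submodule.mem_dualAnnihilator φ).mpr fun w hw => by
      have h3 : φ w ∈ W.map φ := ⟨w, hw, rfl⟩
      rwa [h2, Submodule.mem_bot] at h3, h1⟩
  choose φ hφd hφ using hd
  let v : ι → {k // k ∉ R'} → ℚ := fun t j => φ j.1 j.2 (coords P (P.root t))
  obtain ⟨c, hc⟩ := exists_generic_comb v
  let F : (ι → ℚ) →ₗ[ℚ] ℚ := ∑ j : {k // k ∉ R'}, c j • φ j.1 j.2
  refine ⟨F.toAddMonoidHom.comp (coords P), fun k => ⟨fun h => by_contra fun hk => ?_, fun hk => ?_⟩⟩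
  · refine hc k ⟨⟨k, hk⟩, hφ k hk⟩ ?_
    simpa [F, v] using h
  · show F (coords P (P.root k)) = 0
    simp only [F, LinearMap.sum_apply, LinearMap.smul_apply]
    refine Finset.sum_eq_zero fun j _ => ?_
    rw [(Submodule.mem_dualAnnihilator _).mp (hφd j.1 j.2) _ (Submodule.subset_span ⟨k, hk, rfl⟩), smul_zero]

lemma isSaturated_empty [Finite ι] : IsSaturated P (∅ : Set ι) := by
  rintro k ⟨n, hn, h⟩
  rw [Set.image_empty, Submodule.span_empty, Submodule.mem_bot] at h
  have e := congr_arg (P.coroot' k) h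
  rw [map_nsmul, P.root_coroot'_eq_pairing, P.pairing_same, map_zero, nsmul_eq_mul] at e
  omega

/-- Positive system cut out by a functional and refined on its kernel. -/
lemma isPosSys_refine [Finite ι] (f : M →+ ℚ) {T : Set ι}
    (hd : ∀ i ∈ T, opp P i ∉ T) (hc : ∀ i, f (P.root i) = 0 → i ∈ T ∨ opp P i ∈ T)
    (hcl : RootD.IsClosedSub P T) (h0 : ∀ i ∈ T, f (P.root i) = 0) :
    RootD.IsPosSys P ({k | 0 < f (P.root k)} ∪ T) := by
  refine (isPosSys_iff _).mpr ⟨?_, fun i => ?_, ?_⟩
  · rintro i (hi | hi) (h | h)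
    · rw [Set.mem_setOf_eq, root_opp, map_neg] at h
      linarith [show 0 < f (P.root i) from hi]
    · have := h0 _ h
      rw [root_opp, map_neg] at this
      linarith [show 0 < f (P.root i) from hi]
    · rw [Set.mem_setOf_eq, root_opp, map_neg, h0 i hi, neg_zero] at h
      exact lt_irrefl _ h
    · exact hd i hi h
  · rcases lt_trichotomy (f (P.root i)) 0 with h | h | h
    · exact Or.inr (Or.inl (by rw [Set.mem_setOf_eq, root_opp, map_neg]; linarith))
    · exact (hc i h).imp Or.inr Or.inr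
    · exact Or.inl (Or.inl h)
  · intro i j k hi hj hk
    have e : f (P.root k) = f (P.root i) + f (P.root j) := by rw [hk, map_add]
    rcases hi with hi | hi <;> rcases hj with hj | hj
    · exact Or.inl (show 0 < f (P.root k) by rw [e]; exact add_pos hi hj)
    · exact Or.inl (show 0 < f (P.root k) by rw [e, h0 j hj, add_zero]; exact hi)
    · exact Or.inl (show 0 < f (P.root k) by rw [e, h0 i hi, zero_add]; exact hj)
    · exact Or.inr (hcl hi hj hk)

lemma exists_posSys [Finite ι] : ∃ S : Set ι, RootD.IsPosSys P S := by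
  obtain ⟨f, hf⟩ := exists_vanishing_exactly (isSaturated_empty (P := P))
  exact ⟨_, isPosSys_refine f (T := ∅) (fun i hi => hi.elim) (fun i h => ((hf i).mp h).elim)
    (fun i j k hi => hi.elim) (fun i hi => hi.elim)⟩

lemma exists_simpleSys [Finite ι] : ∃ Δ : Set ι, RootD.IsSimpleSys P Δ :=
  let ⟨_, hS⟩ := exists_posSys (P := P); ⟨_, isSimpleSys_simpleOf hS⟩

lemma isSaturated_inSpan [Finite ι] {Δ S : Set ι} (hΔ : RootD.IsSimpleSys P Δ) (hS : S ⊆ Δ) :
    IsSaturated P (RootD.inSpan P S) := by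
  rintro k ⟨n, hn, h⟩
  refine mem_inSpan_of_zsmul hΔ hS (Int.natCast_ne_zero.mpr hn.ne') ?_
  rw [natCast_zsmul]
  refine Submodule.span_le.mpr ?_ h
  rintro _ ⟨a, ha, rfl⟩
  exact ha

/-- A saturated set with a functional vanishing exactly on it is cut out by adapted simple roots. -/
lemma inSpan_simple_inter [Finite ι] {R' : Set ι} (hR : IsSaturated P R') {f : M →+ ℚ}
    (hf : ∀ k, f (P.root k) = 0 ↔ k ∈ R') {T : Set ι}
    (hS : RootD.IsPosSys P ({k | 0 < f (P.root k)} ∪ T)) (hTR : T ⊆ R') :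
    R' = RootD.inSpan P (simpleOf P ({k | 0 < f (P.root k)} ∪ T) ∩ R') := by
  generalize hS' : ({k | 0 < f (P.root k)} ∪ T) = S at hS
  have hnn : ∀ a ∈ S, 0 ≤ f (P.root a) := fun a ha => by
    rw [← hS'] at ha
    rcases ha with h | h
    · exact le_of_lt h
    · exact ((hf a).mpr (hTR h)).ge
  have hΔ := isSimpleSys_simpleOf hS
  have key : ∀ k ∈ R', k ∈ S → k ∈ RootD.inSpan P (simpleOf P S ∩ R') := by
    intro k hk hkS
    refine (mem_inSpan_iff hΔ Set.inter_subset_left k).mpr fun a ha => ?_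
    have haΔ := coef_support hΔ k (Finsupp.mem_support_iff.mpr ha)
    refine ⟨haΔ, (hf a).mp ?_⟩
    have hpos : ∀ b, 0 ≤ coef hΔ k b := (mem_posOf_iff hΔ k).mp (by rw [posOf_simpleOf hS]; exact hkS)
    have e := congr_arg f (lc_coef hΔ k)
    rw [(hf k).mpr hk, lc, Finsupp.linearCombination_apply, map_finsuppSum] at e
    have e2 := (Finset.sum_eq_zero_iff_of_nonneg fun b hb => by
      show 0 ≤ f (coef hΔ k b • P.root b)
      rw [map_zsmul, zsmul_eq_mul]
      exact mul_nonneg (Int.cast_nonneg (hpos b)) (hnn b (coef_support hΔ k hb).1)).mp e a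
        (Finsupp.mem_support_iff.mpr ha)
    replace e2 : f (coef hΔ k a • P.root a) = 0 := e2
    rw [map_zsmul, smul_eq_zero] at e2
    exact e2.resolve_left ha
  refine Set.Subset.antisymm (fun k hk => ?_) fun k hk => hR k ⟨1, one_pos, ?_⟩
  · rcases hS.cover k with h | h
    · exact key k hk h
    · exact (opp_mem_inSpan_iff hΔ Set.inter_subset_left k).mp
        (key _ ((hf _).mp (by rw [root_opp, map_neg, (hf k).mpr hk, neg_zero])) h)
  · rw [one_smul]
    exact Submodule.span_mono (Set.image_mono Set.inter_subset_right) hk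

/-- Saturated sets are the spans of parts of systems of simple roots. -/
theorem saturated_eq_inSpan [Finite ι] {R' : Set ι} (hR : IsSaturated P R') :
    ∃ Δ Δ' : Set ι, RootD.IsSimpleSys P Δ ∧ Δ' ⊆ Δ ∧ R' = RootD.inSpan P Δ' := by
  obtain ⟨f, hf⟩ := exists_vanishing_exactly hR
  obtain ⟨S₀, hS₀⟩ := exists_posSys (P := P)
  have hS := isPosSys_refine f (P := P) (T := R' ∩ S₀) (fun i hi h => hS₀.disjoint hi.2 h.2)
    (fun i h => (hS₀.cover i).imp (fun hh => ⟨(hf i).mp h, hh⟩)
      fun hh => ⟨(hf _).mp (by rw [root_opp, map_neg, h, neg_zero]), hh⟩)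
    (fun i j k hi hj hk => ⟨hR k ⟨1, one_pos, by
      rw [one_smul, hk]
      exact add_mem (Submodule.subset_span ⟨i, hi.1, rfl⟩) (Submodule.subset_span ⟨j, hj.1, rfl⟩)⟩,
      IsPosSys.closed hS₀ hi.2 hj.2 hk⟩)
    (fun i hi => (hf i).mpr hi.1)
  exact ⟨_, _, isSimpleSys_simpleOf hS, Set.inter_subset_left,
    inSpan_simple_inter hR hf hS Set.inter_subset_left⟩

end Groth.Agent.RootSys
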