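import Groth.Agent.RootSys.NoRoot
import Groth.Agent.DynPar.FieldBorel
import Groth.Agent.Chev.NonAffTori

/-!
# Borel subgroups containing a split maximal torus
-/

set_option autoImplicit false
set_option backward.isDefEq.respectTransparency false
set_option linter.style.haveILetI false
set_option maxHeartbeats 1000000
set_option synthInstance.maxHeartbeats 400000

universe u

open CategoryTheory Limits MonoidalCategory CartesianMonoidalCategory MonObj AlgebraicGeometry LieS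
open scoped CategoryTheory.Obj

noncomputable section

namespace Groth.Agent.RootSys

open Groth.Agent.HomDiag Groth.Agent.DynPar
open Groth.Agent.DynPar.Der (dv uB pl sG)

variable {k : Type u} [Field k]

/-- Containment of closed subgroups descends from the geometric fibre. -/
theorem exists_le_of_geom {G A P : Over (Spec (CommRingCat.of k))} (s : ↥(Spec (CommRingCat.of k))) (a : A ⟶ G) (p : P ⟶ G)
    [Mono p] (e : Red.geomFibre s A ⟶ Red.geomFibre s P)
    (he : e ≫ (Over.pullback (Red.geomPt s)).map p = (Over.pullback (Red.geomPt s)).map a) :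
    ∃ f : A ⟶ P, f ≫ p = a := by
  let F := Over.pullback (Red.geomPt s)
  haveI : PreservesLimitsOfShape WalkingCospan F :=
    (Over.mapPullbackAdj (Red.geomPt s)).rightAdjoint_preservesLimits.preservesLimitsOfShape
  haveI : Mono (F.map p) := F.map_mono p
  have hpb : IsPullback (F.map (pullback.fst a p)) (F.map (pullback.snd a p)) (F.map a) (F.map p) :=
    (IsPullback.of_hasPullback a p).map F
  haveI : IsIso (F.map (pullback.fst a p)) := by
    refine ⟨hpb.lift (𝟙 _) e (by rw [Category.id_comp]; exact he.symm), ?_, hpb.lift_fst _ _ _⟩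
    refine hpb.hom_ext (by rw [Category.assoc, hpb.lift_fst, Category.comp_id, Category.id_comp]) ?_
    rw [← cancel_mono (F.map p), Category.assoc (F.map (pullback.fst a p)), hpb.lift_snd, Category.assoc, he,
      Category.id_comp, hpb.w]
  haveI := Chev.Borel.isIso_of_isIso_geomPt s (pullback.fst a p)
  exact ⟨inv (pullback.fst a p) ≫ pullback.snd a p, by
    rw [Category.assoc, ← pullback.condition, IsIso.inv_hom_id_assoc]⟩

/-- **Borel subgroups containing a split maximal torus** are the groups of limits of regular cocharacters. -/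
theorem exists_borel_eq {G : Over (Spec (CommRingCat.of k))} [GrpObj G] [IsAffine G.left] (hG : Red.IsReductive G)
    {T : Over (Spec (CommRingCat.of k))} [GrpObj T] (iT : T ⟶ G) (hT : Red.IsMaximalTorus iT)
    {M : Type} [AddCommGroup M] [Module.Free ℤ M] [Module.Finite ℤ M]
    (E : Grp.mk T ≅ Grp.mk (Red.DS (Spec (CommRingCat.of k)) M)) [IsMonHom (E.inv.hom.hom ≫ iT)]
    {B : Over (Spec (CommRingCat.of k))} [GrpObj B] (iB : B ⟶ G) (hB : Red.IsBorel iB) (t : T ⟶ B) (ht : t ≫ iB = iT) :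
    ∃ mu : M →+ ℤ, IsP (Red.DSmap (Spec (CommRingCat.of k)) mu ≫ E.inv.hom.hom ≫ iT) iB ∧
      ∀ (v : Lie G k (fk k)) (d : M), IsWt (E.inv.hom.hom ≫ iT) v d → v ≠ 1 → d ≠ 0 → mu d ≠ 0 := by
  let S := Spec (CommRingCat.of k)
  haveI : AddGroup.FG M := Module.Finite.iff_addGroup_fg.1 inferInstance
  let s : ↥S := IsLocalRing.closedPoint k
  let K := AlgebraicClosure (S.residueField s)
  let j := Red.geomPt s
  let F := Over.pullback j
  haveI := hG.1; haveI := hG.2.1; haveI := hT.1; haveI := hT.2.1; haveI := hB.1; haveI := hB.2.1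
  obtain ⟨-, i2, i3⟩ := red_inst hG
  haveI := i3
  obtain ⟨hKs, hKa, hKc, -, hKT⟩ := Chev.Borel.geom_setting iT hT s
  haveI := hKs; haveI := hKa; haveI := hKc
  haveI : IsAffineHom (F.obj G).hom := isAffineHom_of_isAffine _
  haveI : IsMonHom E.inv.hom.hom := E.inv.hom.isMonHom_hom
  haveI : IsIso E.inv.hom.hom := inferInstanceAs (IsIso ((Grp.forget _).map E.inv))
  let i : Red.DS S M ⟶ G := E.inv.hom.hom ≫ iT
  haveI : IsMonHom i := inferInstanceAs (IsMonHom (E.inv.hom.hom ≫ iT))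
  let iK := bcHom' j i
  haveI := isIso_ej j M
  have hiK : iK = (ej j M ≫ F.map E.inv.hom.hom) ≫ F.map iT := by
    show ej j _ ≫ F.map i = _
    rw [Category.assoc, ← F.map_comp]
  haveI := hKT.2.1
  haveI : Mono iK := by rw [hiK]; exact mono_comp _ _
  have hiKmax : AGF.IsMaxTorus iK := by
    obtain ⟨r, ⟨em⟩⟩ := exists_lattice (S := S) hT.2.2.1 ⟨E⟩
    obtain ⟨q⟩ := MTQuot.nonempty_DS_congr (S := Spec (CommRingCat.of K)) em
    let q' : Red.DS (Spec (CommRingCat.of K)) (Fin r → ℤ) ≅ Red.DS (Spec (CommRingCat.of K)) M :=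
      (Grp.forget _).mapIso q
    haveI : IsMonHom q'.hom := q.hom.hom.isMonHom_hom
    refine ⟨inferInstance, inferInstance, Chev.Borel.isTorus_of_iso q' (Chev.CharQuot.isTorus_DS (k := K) r),
      fun T' _ w _ _ g hT' hg => ?_⟩
    have := hKT.2.2.2 T' w (inv (ej j M ≫ F.map E.inv.hom.hom) ≫ g) hT' (by
      rw [Category.assoc, hg, hiK, IsIso.inv_hom_id_assoc])
    haveI := this
    exact IsIso.of_isIso_comp_left (inv (ej j M ≫ F.map E.inv.hom.hom)) g
  have hred : Red.IsReductiveOver K (F.obj G) := hG.2.2 s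
  have hself := exists_isCentralizerOf_self hred iK hiKmax
  obtain ⟨mu, hmu⟩ := exists_regular (G := F.obj G) iK
  obtain ⟨B₀, _, b₀, hb₀⟩ := exists_isP (G := F.obj G) (Red.DSmap _ mu ≫ iK)
  have hBor₀ := isBorelOver_of_regular hred iK hiKmax hself mu hmu b₀ hb₀
  haveI := hiKmax.1; haveI := hb₀.1; haveI := hb₀.2.1
  have hB' : Red.IsBorelOver K (F.map iB) := hB.2.2.2 s
  obtain ⟨t₀, ht₀⟩ := hb₀.exists_le iK fun B _ f y => ZSub_le_PSub f _ (comp_mem_ZSub iK mu y)
  obtain ⟨n, τ, σ, hτ, hσ⟩ := Groth.Agent.S3912.result K (F.obj G) _ _ _ iK b₀ (F.map iB) hiKmax hBor₀ hB' t₀ ht₀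
    ((ej j M ≫ F.map E.inv.hom.hom) ≫ F.map t) (by rw [Category.assoc, ← F.map_comp, ht, hiK])
  haveI : IsMonHom (AGF.conjBy n iK) := Chev.Borel.isMonHom_conjBy n iK
  haveI : IsMonHom τ.hom := MTSplit.isMonHom_of_comp_mono τ.hom iK _ hτ
  obtain ⟨w, hw⟩ := Chev.CharQuot.exists_DSmap (k := K) τ.hom
  let mu' : M →+ ℤ := mu.comp w
  haveI : IsMonHom (AGF.conjBy n (𝟙 (F.obj G))) := Chev.Borel.isMonHom_conjBy n (𝟙 (F.obj G))
  haveI : IsIso (AGF.conjBy n (𝟙 (F.obj G))) := ⟨AGF.conjBy n⁻¹ (𝟙 (F.obj G)), by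
      rw [Chev.Borel.comp_conjBy', Category.comp_id, Chev.Borel.conjBy_conjBy, inv_mul_cancel, AGF.conjBy,
        MonObj.comp_one, _root_.one_mul, inv_one, _root_.mul_one], by
      rw [Chev.Borel.comp_conjBy', Category.comp_id, Chev.Borel.conjBy_conjBy, mul_inv_cancel, AGF.conjBy,
        MonObj.comp_one, _root_.one_mul, inv_one, _root_.mul_one]⟩
  let φ := AGF.conjBy n (𝟙 (F.obj G))
  haveI : IsIso φ := ‹IsIso (AGF.conjBy n (𝟙 (F.obj G)))›
  haveI : IsMonHom φ := ‹IsMonHom (AGF.conjBy n (𝟙 (F.obj G)))›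
  haveI : IsIso φ.left := inferInstanceAs (IsIso ((Over.forget _).map φ))
  have h1 : (Red.DSmap _ mu ≫ iK) ≫ φ = Red.DSmap _ mu' ≫ iK := by
    show _ ≫ AGF.conjBy n (𝟙 (F.obj G)) = _
    rw [Chev.Borel.comp_conjBy', Category.comp_id, ← Chev.Borel.comp_conjBy' n (Red.DSmap _ mu) iK, ← hτ, hw,
      reassoc_of% (RootIntrinsic.DSmap_comp_apply (k := K) mu w)]
  have h2 : iK ≫ φ = τ.hom ≫ iK := by
    show _ ≫ AGF.conjBy n (𝟙 (F.obj G)) = _
    rw [Chev.Borel.comp_conjBy', Category.comp_id, hτ]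
  -- the model over the ground field
  obtain ⟨P, _, iP, hP⟩ := exists_isP (G := G) (Red.DSmap S mu' ≫ i)
  haveI := hP.1; haveI := hP.2.1
  have hPK : IsP (Red.DSmap _ mu' ≫ iK) (F.map iP) := bcHom'_DSmap j mu' i ▸ hP.bc j
  have htr := hb₀.transport φ
  have h3 : b₀ ≫ φ = σ.hom ≫ F.map iB := by
    show _ ≫ AGF.conjBy n (𝟙 (F.obj G)) = _
    rw [Chev.Borel.comp_conjBy', Category.comp_id, hσ]
  simp only [h1] at htr
  obtain ⟨d, hd⟩ := hPK.exists_iso htr
  rw [h3] at hd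
  haveI : Mono iP := Over.mono_of_mono_left iP
  haveI : Mono iB := Over.mono_of_mono_left iB
  obtain ⟨f, hf⟩ := exists_le_of_geom s iP iB (d.hom ≫ σ.hom) (by rw [Category.assoc]; exact hd)
  obtain ⟨g, hg⟩ := exists_le_of_geom s iB iP (σ.inv ≫ d.inv) (by
    rw [Category.assoc, show F.map iP = d.hom ≫ σ.hom ≫ F.map iB from hd.symm, Iso.inv_hom_id_assoc,
      Iso.inv_hom_id_assoc])
  refine ⟨mu', ⟨hB.1, hB.2.1, fun X y => ?_⟩, fun v dd hv hv1 hdd hmd => ?_⟩
  · rw [← hP.2.2 X y]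
    exact ⟨fun ⟨z, hz⟩ => ⟨z ≫ g, by rw [Category.assoc, hg, hz]⟩,
      fun ⟨z, hz⟩ => ⟨z ≫ f, by rw [Category.assoc, hf, hz]⟩⟩
  · obtain ⟨ψ, hψ⟩ := Spec.map_surjective j
    have hfb : Spec.map (CommRingCat.ofHom ψ.hom) ≫ fk k = 𝟙 _ ≫ j := by
      rw [CommRingCat.ofHom_hom, hψ, Category.id_comp]
      show _ ≫ Spec.map _ = _
      rw [Algebra.algebraMap_self, CommRingCat.ofHom_id, Spec.map_id, Category.comp_id]
    let v' : Lie (F.obj G) K (𝟙 _) := lieDown j (rfl : 𝟙 _ ≫ j = _) (pl ψ.hom hfb v)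
    have hv' : IsWt iK v' dd := (isWt_lieDown_iff j i rfl _ _).2 (IsWt.pl (c := i) hv ψ.hom hfb)
    have hv'1 : v' ≠ 1 := fun h => hv1 (Der.dv_injective (funext fun x => ψ.hom.injective (by
      rw [← Der.dv_pl _ hfb, ← dv_lieDown j (rfl : 𝟙 _ ≫ j = _), Der.dv_one, map_zero]
      show dv v' _ = _
      rw [h, Der.dv_one])))
    have hreg' : Regular iK mu' := fun A _ f' y hy => by
      let y' : pt A f' ⟶ F.obj G := y ≫ inv φ
      have e : y' ≫ φ = y := by rw [Category.assoc, IsIso.inv_hom_id, Category.comp_id]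
      rw [← e, ← h1, mem_ZSub_comp_iff] at hy
      have h4 : y' ≫ φ ∈ ZSub f' (iK ≫ φ) := (mem_ZSub_comp_iff iK φ).2 (hmu A f' y' hy)
      rw [h2, e, mem_ZSub_iff_commute] at h4
      rw [mem_ZSub_iff_commute]
      intro A' _ f'' x h
      have := h4 A' f'' x (h ≫ τ.inv)
      rwa [Category.assoc, Iso.inv_hom_id_assoc] at this
    exact ne_zero_of_regular iK mu' hreg' hv' hv'1 hdd hmd

end Groth.Agent.RootSys
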