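import Groth.Agent.RootSys.FieldGen
import Groth.Agent.RootIntrinsic.Tangent

/-!
# Tangent vectors of root homomorphisms are weight vectors
-/

set_option autoImplicit false
set_option backward.isDefEq.respectTransparency false
set_option linter.style.haveILetI false
set_option maxHeartbeats 1000000
set_option synthInstance.maxHeartbeats 400000

universe u

open CategoryTheory Limits MonoidalCategory CartesianMonoidalCategory MonObj AlgebraicGeometry LieS
open scoped CategoryTheory.Obj

noncomputable section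

namespace Groth.Agent.RootSys

open Groth.Agent.HomDiag Groth.Agent.DynPar

variable {k : Type u} [Field k] {G : Over (Spec (CommRingCat.of k))} [GrpObj G] [IsAffine G.left]

/-- A root homomorphism gives a weight vector of its character. -/
theorem isWt_vU {T : Over (Spec (CommRingCat.of k))} [GrpObj T] {i : T ⟶ G} {M : Type} [AddCommGroup M]
    (E : Grp.mk T ≅ Grp.mk (Red.DS (Spec (CommRingCat.of k)) M)) [IsMonHom (E.inv.hom.hom ≫ i)] {a : M}
    {u : Red.Ga (Spec (CommRingCat.of k)) ⟶ G} [IsMonHom u]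
    (hu : Red.IsRootHom i (E.hom.hom.hom ≫ Red.chi _ a) u) :
    IsWt (E.inv.hom.hom ≫ i) (RootIntrinsic.vU u) a := by
  have h2 : E.inv.hom.hom ≫ E.hom.hom.hom = 𝟙 _ := congrArg (fun z => z.hom.hom) E.inv_hom_id
  refine (isWt_iff_forall_ad _).2 fun B' _ f' h hf g => ?_
  obtain ⟨y, hy, hy'⟩ := hu.2.2 (dpt B' f') ((proj B' f' ≫ g) ≫ E.inv.hom.hom)
    (Der.qdual h hf ≫ RootIntrinsic.eGa)
  refine Subtype.ext ?_
  show (proj B' f' ≫ g ≫ E.inv.hom.hom ≫ i) * (Der.qdual h hf ≫ RootIntrinsic.eGa ≫ u) *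
      (proj B' f' ≫ g ≫ E.inv.hom.hom ≫ i)⁻¹ =
    scale B' f' (chv g (Multiplicative.ofAdd a)) ≫ Der.qdual h hf ≫ RootIntrinsic.eGa ≫ u
  rw [Category.assoc, Category.assoc, Category.assoc] at hy
  rw [← hy]
  have hval : y = scale B' f' (chv g (Multiplicative.ofAdd a)) ≫ Der.qdual h hf ≫ RootIntrinsic.eGa := by
    refine BGaNotS.gaPt_ext ?_
    rw [hy', Category.assoc (proj B' f' ≫ g), reassoc_of% h2, RootIntrinsic.gmFn_chi, BGaNotS.gaFn_comp,
      BGaNotS.gaFn_comp, BGaNotS.gaFn_comp, RootIntrinsic.gaFn_eGa, ch_comp]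
    have hc : ch g (Multiplicative.ofAdd a) =
        (Scheme.ΓSpecIso (CommRingCat.of B')).inv (chv g (Multiplicative.ofAdd a)) :=
      (ConcreteCategory.congr_hom (Scheme.ΓSpecIso (CommRingCat.of B')).hom_inv_id _).symm
    have hq : (Der.qdual h hf).left.appTop ((Scheme.ΓSpecIso (CommRingCat.of (DualNumber k))).inv DualNumber.eps) =
        (Scheme.ΓSpecIso (CommRingCat.of (DualNumber B'))).inv (bcHom h DualNumber.eps) :=
      LieWeight.appTop_comp_inv (bcHom h) _
    rw [hc, RootIntrinsic.appTop_proj, hq, RootIntrinsic.appTop_scale]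
    refine (map_mul _ _ _).symm.trans (congrArg _ ?_)
    ext <;> simp [scaleHom, bcHom, TrivSqZeroExt.algebraMap_eq_inl']
  rw [hval, Category.assoc, Category.assoc]

end Groth.Agent.RootSys
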