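import Groth.Agent.DynPar.LieWt
import Groth.Agent.DynPar.Tangent
import Groth.Agent.Chev.BorelTools
import Groth.Agent.RG.Dev.IntegralFibre
import Groth.Agent.SmoothRed.Scheme
import Groth.Agent.UFDLib.Regular
import Groth.Agent.S2116

/-!
# One function detects the tangent vectors transversal to a set-theoretic hypersurface
-/

set_option autoImplicit false
set_option backward.isDefEq.respectTransparency false
set_option linter.style.haveILetI false
set_option maxHeartbeats 1000000
set_option synthInstance.maxHeartbeats 400000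

universe u

open CategoryTheory Limits MonoidalCategory CartesianMonoidalCategory MonObj AlgebraicGeometry LieS
open scoped CategoryTheory.Obj

noncomputable section

namespace Groth.Agent.RootSys

open Groth.Agent.DynPar
open Groth.Agent.DynPar.Der (dv uB sG)

variable {k : Type u} [Field k]

theorem rp_sG {H : Over (Spec (CommRingCat.of k))} [GrpObj H] [IsAffine H.left] (z : Chev.RP H) (r : k) :
    rp (B := k) (f := 𝟙 (Spec (CommRingCat.of k))) z (sG H r) = r := by
  rw [sG_eq, rp_hom]
  exact ConcreteCategory.congr_hom (Scheme.ΓSpecIso (CommRingCat.of k)).inv_hom_id r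

theorem finiteType_sG {H : Over (Spec (CommRingCat.of k))} [GrpObj H] [IsAffine H.left] [LocallyOfFiniteType H.hom] :
    (sG H).FiniteType := by
  have h0 : LocallyOfFiniteType (H.left.isoSpec.inv ≫ H.hom) := inferInstance
  rw [← Der.specMap_sG] at h0
  exact (HasRingHomProperty.Spec_iff (P := @LocallyOfFiniteType)).1 h0

variable [IsAlgClosed k]

/-- Maximal ideals of the coordinate ring are rational points. -/
theorem exists_rp_ker {H : Over (Spec (CommRingCat.of k))} [GrpObj H] [IsAffine H.left] [LocallyOfFiniteType H.hom]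
    (J : Ideal Γ(H.left, ⊤)) [J.IsMaximal] :
    ∃ z : Chev.RP H, ∀ a, rp (B := k) (f := 𝟙 (Spec (CommRingCat.of k))) z a = 0 ↔ a ∈ J := by
  letI : Algebra k Γ(H.left, ⊤) := (sG H).toAlgebra
  haveI : Algebra.FiniteType k Γ(H.left, ⊤) := finiteType_sG
  letI : Field (Γ(H.left, ⊤) ⧸ J) := Ideal.Quotient.field J
  haveI : Algebra.FiniteType k (Γ(H.left, ⊤) ⧸ J) := Algebra.FiniteType.of_surjective (Ideal.Quotient.mkₐ k J) Ideal.Quotient.mk_surjective
  haveI : Module.Finite k (Γ(H.left, ⊤) ⧸ J) := finite_of_finite_type_of_isJacobsonRing k _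
  have hb := IsAlgClosed.algebraMap_bijective_of_isIntegral (k := k) (K := Γ(H.left, ⊤) ⧸ J)
  let e := RingEquiv.ofBijective (algebraMap k (Γ(H.left, ⊤) ⧸ J)) hb
  let χ : Γ(H.left, ⊤) →+* k := e.symm.toRingHom.comp (Ideal.Quotient.mk J)
  obtain ⟨z, hz⟩ := exists_pt_of_ringHom (H := H) (f := 𝟙 (Spec (CommRingCat.of k))) χ (fun r => by
    obtain ⟨s, rfl⟩ : ∃ s, (Scheme.ΓSpecIso (CommRingCat.of k)).inv s = r :=
      (ConcreteCategory.bijective_of_isIso (Scheme.ΓSpecIso (CommRingCat.of k)).inv).2 r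
    rw [← sG_eq]
    show e.symm (Ideal.Quotient.mk J (sG H s)) = _
    rw [show Ideal.Quotient.mk J (sG H s) = e s from rfl, RingEquiv.symm_apply_apply]
    exact (ConcreteCategory.congr_hom (Scheme.ΓSpecIso (CommRingCat.of k)).inv_hom_id s).symm)
  refine ⟨z, fun a => ?_⟩
  rw [hz]
  show e.symm (Ideal.Quotient.mk J a) = 0 ↔ _
  rw [map_eq_zero_iff _ e.symm.injective, Ideal.Quotient.eq_zero_iff_mem]

/-- A function vanishing at all rational points lies in every radical ideal containing nothing more. -/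
theorem mem_radical_of_rp {H : Over (Spec (CommRingCat.of k))} [GrpObj H] [IsAffine H.left] [LocallyOfFiniteType H.hom]
    (I : Ideal Γ(H.left, ⊤)) (a : Γ(H.left, ⊤))
    (h : ∀ z : Chev.RP H, (∀ x ∈ I, rp (B := k) (f := 𝟙 (Spec (CommRingCat.of k))) z x = 0) →
      rp (B := k) (f := 𝟙 (Spec (CommRingCat.of k))) z a = 0) : a ∈ I.radical := by
  letI : Algebra k Γ(H.left, ⊤) := (sG H).toAlgebra
  haveI : Algebra.FiniteType k Γ(H.left, ⊤) := finiteType_sG
  haveI : IsJacobsonRing Γ(H.left, ⊤) := isJacobsonRing_of_finiteType (A := k)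
  rw [← IsJacobsonRing.out' (R := Γ(H.left, ⊤)) I.radical I.radical_isRadical, Ideal.jacobson, Ideal.mem_sInf]
  rintro J ⟨hJ, hmax⟩
  haveI := hmax
  obtain ⟨z, hz⟩ := exists_rp_ker J
  exact (hz a).1 (h z fun x hx => (hz x).2 (hJ (Ideal.le_radical hx)))

/-- **One function detects transversal tangent vectors.** -/
theorem exists_killer {C B : Over (Spec (CommRingCat.of k))} [GrpObj C] [GrpObj B] [IsAffine C.left] [Smooth C.hom]
    [ConnectedSpace C.left] (b : B ⟶ C) [IsMonHom b] [IsClosedImmersion b.left] [Smooth B.hom] [ConnectedSpace B.left]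
    (x : Γ(C.left, ⊤)) (n : Chev.RP C) (h1 : IsUnit (rp (B := k) (f := 𝟙 (Spec (CommRingCat.of k))) (1 : Chev.RP C) x))
    (hx : ∀ z : Chev.RP C, ¬ IsUnit (rp (B := k) (f := 𝟙 (Spec (CommRingCat.of k))) z x) ↔
      ∃ q : Chev.RP B, z = n * (q ≫ b)) :
    ∃ z : Γ(C.left, ⊤), ∀ v : Lie C k (𝟙 (Spec (CommRingCat.of k))), dv v z = 0 →
      ∀ a, b.left.appTop a = 0 → dv v a = 0 := by
  let f₀ := 𝟙 (Spec (CommRingCat.of k))
  haveI : IsAffine B.left := isAffine_of_isAffineHom b.left
  haveI : LocallyOfFiniteType B.hom := inferInstance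
  haveI : IsReduced B.left := SmoothRed.isReduced_of_smooth_scheme B.hom
  haveI : IsIntegral C.left := RGDev.isIntegral_of_smooth_connected C.hom
  haveI : IsIntegral B.left := RGDev.isIntegral_of_smooth_connected B.hom
  let A := Γ(C.left, ⊤)
  let bT : A →+* Γ(B.left, ⊤) := b.left.appTop.hom
  have hbT : Function.Surjective bT := b.left.app_surjective ⊤ (isAffineOpen_top _)
  haveI : IsDomain Γ(B.left, ⊤) := inferInstance
  let I : Ideal A := RingHom.ker bT
  haveI : I.IsPrime := RingHom.ker_isPrime _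
  -- the translate
  let Ln : C ⟶ C := (toUnit C ≫ n) * 𝟙 C
  let x' : A := Ln.left.appTop x
  have hx' : ∀ z : Chev.RP C, rp (B := k) (f := f₀) z x' = rp (B := k) (f := f₀) (n * z : Chev.RP C) x := fun z => by
    have e : z ≫ Ln = n * z := by
      rw [MonObj.comp_mul, Category.comp_id, ← Category.assoc, toUnit_unique (z ≫ toUnit C) (𝟙 _), Category.id_comp]
    show (rp (B := k) (f := f₀) z).comp Ln.left.appTop.hom x = _
    rw [← rp_comp_left (B := k) (f := f₀) z Ln]
    exact congrArg (fun w => rp (B := k) (f := f₀) w x) e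
  have hzero : ∀ z : Chev.RP C, rp (B := k) (f := f₀) z x' = 0 ↔ ∃ q : Chev.RP B, z = q ≫ b := fun z => by
    rw [hx', ← not_iff_not, ← Ne, ← isUnit_iff_ne_zero, ← not_iff_not, not_not, hx]
    exact exists_congr fun q => mul_right_inj n
  have hxI : x' ∈ I := by
    have h : bT x' ∈ (⊥ : Ideal Γ(B.left, ⊤)).radical := mem_radical_of_rp _ _ fun q _ => by
      show (rp (B := k) (f := f₀) q).comp b.left.appTop.hom x' = 0
      rw [← rp_comp_left (B := k) (f := f₀) q b]
      exact (hzero (q ≫ b)).2 ⟨q, rfl⟩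
    show bT x' = 0
    obtain ⟨m, hm⟩ := h
    exact eq_zero_of_pow_eq_zero (Ideal.mem_bot.1 hm)
  have hIr : I ≤ (Ideal.span {x'}).radical := fun a ha => mem_radical_of_rp _ _ fun z hz => by
    obtain ⟨q, rfl⟩ := (hzero z).1 (hz x' (Ideal.subset_span rfl))
    show rp (B := k) (f := f₀) (q ≫ b) a = 0
    rw [rp_comp_left (B := k) (f := f₀) q b, RingHom.comp_apply, show b.left.appTop.hom a = 0 from ha, map_zero]
  have hmin : I ∈ (Ideal.span {x'}).minimalPrimes :=
    ⟨⟨inferInstance, (Ideal.span_singleton_le_iff_mem _).2 hxI⟩,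
      fun P hP _ => hIr.trans ((Ideal.IsPrime.radical_le_iff hP.1).2 hP.2)⟩
  have hx0 : x' ≠ 0 := fun h => by
    have h2 := hx' n⁻¹
    rw [h, map_zero, mul_inv_cancel] at h2
    exact h1.ne_zero h2.symm
  letI : Algebra k A := (sG C).toAlgebra
  haveI : Algebra.FiniteType k A := finiteType_sG
  haveI : IsNoetherianRing A := Algebra.FiniteType.isNoetherianRing k A
  have hI1 : I.height = 1 := by
    haveI : (Ideal.span {x'}).IsPrincipal := ⟨x', rfl⟩
    refine le_antisymm (Ideal.height_le_one_of_isPrincipal_of_mem_minimalPrimes _ I hmin) ?_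
    rw [Order.one_le_iff_ne_zero, Ne, Ideal.height_eq_zero_iff_eq_bot]
    exact fun h => hx0 (by rw [h] at hxI; exact Ideal.mem_bot.1 hxI)
  -- the unit
  let ε : A →+* k := uB C f₀
  have hε : ∀ r : k, ε (sG C r) = r := fun r => by
    rw [show ε = rp (B := k) (f := f₀) (1 : Chev.RP C) from RingHom.ext fun a => uB_eq a, rp_sG]
  have hεI : ∀ a ∈ I, ε a = 0 := fun a ha => by
    rw [show ε a = rp (B := k) (f := f₀) (1 : Chev.RP C) a from uB_eq a,
      show (1 : Chev.RP C) = (1 : Chev.RP B) ≫ b from (MonObj.one_comp b).symm,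
      rp_comp_left (B := k) (f := f₀), RingHom.comp_apply, show b.left.appTop.hom a = 0 from ha, map_zero]
  let m : Ideal A := RingHom.ker ε
  haveI : m.IsMaximal := RingHom.ker_isMaximal_of_surjective ε fun r => ⟨sG C r, hε r⟩
  haveI : Algebra.Smooth k A := by
    have h0 : Smooth (C.left.isoSpec.inv ≫ C.hom) := inferInstance
    rw [← Der.specMap_sG] at h0
    exact RingHom.smooth_algebraMap.1 ((HasRingHomProperty.Spec_iff (P := @Smooth)).1 h0)
  let L := Localization.AtPrime m
  haveI : Algebra.IsSmoothAt k m := inferInstanceAs (Algebra.FormallySmooth k L)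
  haveI : IsRegularLocalRing L := (Groth.Agent.S2116.result m).2 ‹Algebra.IsSmoothAt k m›
  haveI : UniqueFactorizationMonoid L := UFDLib.ufd_of_isRegularLocalRing L
  have hdis : Disjoint (m.primeCompl : Set A) (I : Set A) :=
    Set.disjoint_left.2 fun a ha hI => ha (hεI a hI)
  haveI : (I.map (algebraMap A L)).IsPrime := IsLocalization.isPrime_of_isPrime_disjoint m.primeCompl L I inferInstance hdis
  have hI1' : (I.map (algebraMap A L)).height = 1 := by
    rw [IsLocalization.height_map_of_disjoint m.primeCompl I hdis, hI1]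
  obtain ⟨g, hg⟩ := UniqueFactorizationMonoid.isPrincipal_of_height_eq_one hI1'
  obtain ⟨⟨z, s⟩, hzs⟩ := IsLocalization.surj m.primeCompl g
  simp only at hzs
  have hgI : g ∈ I.map (algebraMap A L) := hg ▸ Submodule.mem_span_singleton_self g
  have hzI : z ∈ I := by
    have h : algebraMap A L z ∈ I.map (algebraMap A L) := hzs ▸ Ideal.mul_mem_right _ _ hgI
    rwa [← Ideal.mem_comap, ← Ideal.under_def, IsLocalization.under_map_of_isPrime_disjoint m.primeCompl L ‹I.IsPrime› hdis] at h
  refine ⟨z, fun v hv a ha => ?_⟩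
  have haI : algebraMap A L a ∈ Submodule.span L {g} := hg ▸ Ideal.mem_map_of_mem _ (show a ∈ I from ha)
  obtain ⟨r, hr⟩ := Submodule.mem_span_singleton.1 haI
  rw [smul_eq_mul] at hr
  obtain ⟨⟨r', t⟩, hrt⟩ := IsLocalization.surj m.primeCompl r
  simp only at hrt
  have hinj : Function.Injective (algebraMap A L) :=
    IsLocalization.injective L m.primeCompl_le_nonZeroDivisors
  have key : (t * s : A) * a = r' * z := hinj (by
    rw [map_mul, map_mul, map_mul, ← hr, ← hrt, ← hzs]; ring)
  have h := congrArg (dv v) key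
  rw [Der.dv_leibniz v ((t : A) * s) a, Der.dv_leibniz v r' z, hv] at h
  change ε (t * s) * dv v a + dv v (t * s : A) * ε a = ε r' * 0 + dv v r' * ε z at h
  rw [hεI a ha, hεI z hzI, mul_zero, mul_zero, mul_zero, add_zero, add_zero, mul_eq_zero] at h
  refine h.resolve_left ?_
  rw [map_mul]
  exact mul_ne_zero (fun e => t.2 e) (fun e => s.2 e)

end Groth.Agent.RootSys
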