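import Groth.Agent.RootSys.RootGa
import Groth.Agent.RootSys.BorelOpp
import Groth.Agent.RootSys.Killer

/-!
# Root groups of a split reductive group over a field: existence, structure and uniqueness
-/

set_option autoImplicit false
set_option backward.isDefEq.respectTransparency false
set_option linter.style.haveILetI false
set_option maxHeartbeats 1000000
set_option synthInstance.maxHeartbeats 400000

universe u

open CategoryTheory Limits MonoidalCategory CartesianMonoidalCategory MonObj AlgebraicGeometry LieS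
open scoped CategoryTheory.Obj

noncomputable section

namespace Groth.Agent.RootSys

open Groth.Agent.HomDiag Groth.Agent.DynPar
open Groth.Agent.DynPar.Der (dv uB pl sG)

variable {k : Type u} [Field k] {G : Over (Spec (CommRingCat.of k))} [GrpObj G] [IsAffine G.left]
  {M : Type} [AddCommGroup M]

/-- Weight vectors over an algebra are multiples of the vector spanning the weight space over the field. -/
theorem wt_vector_eq_smul {c : Red.DS (Spec (CommRingCat.of k)) M ⟶ G} [IsMonHom c] {d : M} {v₀ : Lie G k (fk k)}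
    (hv₀1 : v₀ ≠ 1) (h1 : ∀ w : Lie G k (fk k), IsWt c w d → ∃ r : k, w = r • v₀)
    {B : Type u} [CommRing B] {φ : k →+* B} {f : Spec (CommRingCat.of B) ⟶ Spec (CommRingCat.of k)}
    (hf : Spec.map (CommRingCat.ofHom φ) ≫ fk k = f) {v : Lie G B f} (hv : IsWt c v d) :
    ∃ b : B, v = b • pl φ hf v₀ := by
  letI : Algebra k B := φ.toAlgebra
  obtain ⟨x₀, hx₀⟩ : ∃ x, dv v₀ x ≠ 0 := by
    by_contra! h
    exact hv₀1 (Der.dv_injective (funext fun x => by rw [Der.dv_one, h]))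
  refine ⟨(dv v₀ x₀)⁻¹ • dv v x₀, Der.dv_injective (funext fun x => ?_)⟩
  rw [Der.dv_smul, Der.dv_pl]
  refine sub_eq_zero.1 ((Module.forall_dual_apply_eq_zero_iff k _).1 fun lam => ?_)
  have hu : ∀ a, uB G f a = algebraMap k B (uB G (fk k) a) := fun a => uB_map φ hf a
  obtain ⟨δ, hδ⟩ := Der.exists_of_der (G := G) (f := fk k) (fun x => lam (dv v x))
    (fun a b => by rw [Der.dv_add, map_add])
    (fun a b => by
      rw [Der.dv_leibniz, map_add, hu, hu, ← Algebra.smul_def, mul_comm (dv v a), ← Algebra.smul_def, LinearMap.map_smul,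
        LinearMap.map_smul, smul_eq_mul, smul_eq_mul, mul_comm (lam (dv v a))])
    (fun a => by rw [Der.dv_sG, map_zero])
  obtain ⟨r, hr⟩ := h1 δ fun y m hm => by rw [hδ, hv y m hm, map_zero]
  have e : ∀ y, lam (dv v y) = r * dv v₀ y := fun y => by rw [← hδ, hr, Der.dv_smul]
  rw [map_sub, show ((dv v₀ x₀)⁻¹ • dv v x₀) * φ (dv v₀ x) = (dv v₀ x * (dv v₀ x₀)⁻¹) • dv v x₀ by
    rw [Algebra.smul_def, Algebra.smul_def, map_mul]
    show φ _ * _ * φ _ = φ _ * φ _ * _
    ring, LinearMap.map_smul, e, e, smul_eq_mul]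
  field_simp
  ring

variable {T : Over (Spec (CommRingCat.of k))} [GrpObj T]

/-- **The structure of a root group.** -/
theorem rootGroup_struct (hG : Red.IsReductive G) (i : T ⟶ G) (hT : Red.IsMaximalTorus i)
    (E : Grp.mk T ≅ Grp.mk (Red.DS (Spec (CommRingCat.of k)) M)) [IsMonHom (E.inv.hom.hom ≫ i)] {d : M} (hd : d ≠ 0)
    {U : Over (Spec (CommRingCat.of k))} [GrpObj U] (u : U ⟶ G) [IsMonHom u] (hcl : IsClosedImmersion u.left)
    [IsAffine U.left] [Smooth U.hom] [ConnectedSpace U.left]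
    (hn : ∀ (X : Over (Spec (CommRingCat.of k))) (t : X ⟶ T) (x : X ⟶ U), ∃ x' : X ⟶ U,
      (t ≫ i) * (x ≫ u) * (t ≫ i)⁻¹ = x' ≫ u)
    {v₀ : Lie G k (fk k)} (hv₀ : IsWt (E.inv.hom.hom ≫ i) v₀ d) (hv₀1 : v₀ ≠ 1)
    (hv₀U : ∃ w : Lie U k (fk k), LieS.map k _ u w = v₀)
    (hwt : ∀ w : Lie U k (fk k), IsWt (E.inv.hom.hom ≫ i) (LieS.map k _ u w) d) :
    (∃ e : U ≅ Red.Ga (Spec (CommRingCat.of k)), IsMonHom e.hom ∧
      Red.IsRootHom i (E.hom.hom.hom ≫ Red.chi _ d) (e.inv ≫ u)) ∧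
    (∀ a (m : M), (∀ n : ℕ, m ≠ n • d) → u.left.appTop (wc (E.inv.hom.hom ≫ i) a m) = 0) ∧
      ∀ a, ∃ r : k, u.left.appTop (wc (E.inv.hom.hom ≫ i) a 0) = sG U r := by
  haveI := hcl
  obtain ⟨i1, i2, i3⟩ := red_inst hG
  haveI : Module.Free ℤ M := by
    obtain ⟨r, ⟨eM⟩⟩ := exists_lattice (S := Spec (CommRingCat.of k)) hT.2.2.1 ⟨E⟩
    exact Module.Free.of_equiv eM.symm.toIntLinearEquiv
  haveI : IsIntegral U.left := RGDev.isIntegral_of_smooth_connected U.hom
  haveI : Nonempty (⊤ : U.left.Opens) := ⟨⟨Classical.arbitrary U.left, trivial⟩⟩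
  haveI : IsDomain Γ(U.left, ⊤) := inferInstance
  haveI : IsLocallyNoetherian U.left := LocallyOfFiniteType.isLocallyNoetherian U.hom
  haveI : IsNoetherianRing Γ(U.left, ⊤) := IsLocallyNoetherian.component_noetherian ⟨⊤, isAffineOpen_top U.left⟩
  have hnc : ∀ (X : Over (Spec (CommRingCat.of k))) (s : X ⟶ Red.DS (Spec (CommRingCat.of k)) M) (x : X ⟶ U),
      ∃ x' : X ⟶ U, (s ≫ E.inv.hom.hom ≫ i) * (x ≫ u) * (s ≫ E.inv.hom.hom ≫ i)⁻¹ = x' ≫ u := fun X s x => by
    obtain ⟨x', hx'⟩ := hn X (s ≫ E.inv.hom.hom) x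
    exact ⟨x', by rw [← hx', Category.assoc]⟩
  obtain ⟨w₀, rfl⟩ := hv₀U
  obtain ⟨a₀, h⟩ := exists_coord (c := E.inv.hom.hom ≫ i) u (u.left.app_surjective ⊤ (isAffineOpen_top _)) hnc hd hwt
    hv₀1 fun w => by
      by_cases hw : LieS.map k _ u w = 1
      · exact ⟨0, by rw [hw, LieWt.zero_rescale]⟩
      rcases (field_rank_one hG i hT E hv₀ hd hv₀1).2 d _ (hwt w) hw hd ⟨1, 1, one_ne_zero, rfl⟩ with ⟨-, hr⟩ | h
      · exact hr
      · have h2 : (2 : ℤ) • d = 0 := by rw [two_zsmul]; nth_rw 1 [h]; rw [neg_add_cancel]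
        exact absurd ((smul_eq_zero.1 h2).resolve_left two_ne_zero) hd
  obtain ⟨hone, hbij, hzero, hspan⟩ := h
  refine ⟨exists_iso_ga i E hd rfl hbij hone hn, hzero, fun a => ?_⟩
  obtain ⟨r, hr⟩ := hspan a 0
  refine ⟨r, ?_⟩
  rwa [zero_smul, pow_zero, _root_.mul_one] at hr

/-- **Existence of the root group.** -/
theorem exists_rootGroup (hG : Red.IsReductive G) (i : T ⟶ G) (hT : Red.IsMaximalTorus i)
    (E : Grp.mk T ≅ Grp.mk (Red.DS (Spec (CommRingCat.of k)) M)) [IsMonHom (E.inv.hom.hom ≫ i)] {d : M} (hd : d ≠ 0)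
    {v₀ : Lie G k (fk k)} (hv₀ : IsWt (E.inv.hom.hom ≫ i) v₀ d) (hv₀1 : v₀ ≠ 1) :
    ∃ (U : Over (Spec (CommRingCat.of k))) (_ : GrpObj U) (u : U ⟶ G) (_ : IsMonHom u),
      IsClosedImmersion u.left ∧ Smooth U.hom ∧ ConnectedSpace U.left ∧
      (∀ (X : Over (Spec (CommRingCat.of k))) (t : X ⟶ T) (x : X ⟶ U), ∃ x' : X ⟶ U,
        (t ≫ i) * (x ≫ u) * (t ≫ i)⁻¹ = x' ≫ u) ∧
      (∃ w : Lie U k (fk k), LieS.map k _ u w = v₀) ∧
      (∀ {B : Type u} [CommRing B] {f : Spec (CommRingCat.of B) ⟶ Spec (CommRingCat.of k)} (w : Lie U B f),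
        IsWt (E.inv.hom.hom ≫ i) (LieS.map B f u w) d) ∧
      ∀ (U' : Over (Spec (CommRingCat.of k))) [GrpObj U'] (u' : U' ⟶ G) [IsMonHom u'], IsClosedImmersion u'.left →
        Smooth U'.hom → ConnectedSpace U'.left →
        (∀ (X : Over (Spec (CommRingCat.of k))) (t : X ⟶ T) (x : X ⟶ U'), ∃ x' : X ⟶ U',
          (t ≫ i) * (x ≫ u') * (t ≫ i)⁻¹ = x' ≫ u') →
        (∃ w : Lie U' k (fk k), LieS.map k _ u' w = v₀) →
        (∀ w : Lie U' k (fk k), IsWt (E.inv.hom.hom ≫ i) (LieS.map k _ u' w) d) →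
        ∃ e : U' ≅ U, e.hom ≫ u = u' := by
  classical
  let S := Spec (CommRingCat.of k)
  obtain ⟨i1, i2, i3⟩ := red_inst hG
  haveI := i2
  haveI : IsAffineHom G.hom := hG.1
  obtain ⟨r, ⟨eM⟩⟩ := exists_lattice (S := S) hT.2.2.1 ⟨E⟩
  haveI : Module.Free ℤ M := Module.Free.of_equiv eM.symm.toIntLinearEquiv
  haveI : Module.Finite ℤ M := Module.Finite.equiv eM.symm.toIntLinearEquiv
  haveI : AddGroup.FG M := Module.Finite.iff_addGroup_fg.1 inferInstance
  let c := E.inv.hom.hom ≫ i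
  obtain ⟨M', _, _, _, π, m₁, hπs, hm₁, hπ₁, hπd, hker⟩ := exists_line d hd
  obtain ⟨nu, hnu⟩ : ∃ nu : M →+ ℤ, 0 < nu d := exists_hom_pos_of_ne_zero hd
  obtain ⟨Z, _, z, hz, hzcl, hzs⟩ := exists_centralizer_DS (G := G) inferInstance inferInstance (Red.DSmap S π ≫ c)
  haveI := hzcl; haveI := hzs; haveI := hz.1
  haveI : Mono z := hz.2.1
  haveI : IsAffine Z.left := isAffine_of_isAffineHom z.left
  haveI : IsAffineHom Z.hom := isAffineHom_of_isAffine Z.hom
  obtain ⟨cZ, hcZ⟩ := (hz.2.2 _ c).2 fun X' x h => by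
    rw [← Category.assoc h, ← MonObj.mul_comp, ← MonObj.mul_comp, DS_comm]
  haveI : IsMonHom cZ := MTSplit.isMonHom_of_comp_mono cZ z c hcZ
  let lam := Red.DSmap S nu ≫ cZ
  obtain ⟨P, _, p, hp⟩ := exists_isP (G := Z) lam
  obtain ⟨U, _, uZ, hu⟩ := exists_isU (G := Z) lam
  obtain ⟨Z', _, z', hz', -, -⟩ := exists_centralizer_DS (G := Z) inferInstance inferInstance lam
  haveI := hu.1; haveI := hu.2.1
  haveI : Mono uZ := Over.mono_of_mono_left uZ
  haveI hUs : Smooth U.hom := (smooth_isU inferInstance hp hu hz').1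
  haveI hUc : ConnectedSpace U.left := (field_fibre lam hp hu).2.1
  haveI : IsAffine U.left := isAffine_of_isAffineHom uZ.left
  let u : U ⟶ G := uZ ≫ z
  haveI : Mono u := mono_comp _ _
  haveI hucl : IsClosedImmersion u.left := by show IsClosedImmersion (uZ ≫ z).left; rw [Over.comp_left]; infer_instance
  -- weights in the centraliser
  have hπ0 : ∀ {B : Type u} [CommRing B] {f : Spec (CommRingCat.of B) ⟶ S} {v : Lie Z B f} {e : M},
      IsWt cZ v e → v ≠ 1 → π e = 0 := fun {B} _ f v e hv hv1 => by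
    by_contra he
    have h1 : IsWt c (LieS.map B f z v) e := IsWt.map (c := cZ) (φ := z) hv c hcZ
    have h2 : IsWt (Red.DSmap S π ≫ c) (LieS.map B f z v) 0 :=
      (mem_ZSub_iff_isWt_zero _ _).1 (mem_ZSub_of_centralizer hz (v.1 : pt (DualNumber B) (fd f) ⟶ Z))
    exact hv1 (map_injective z ((IsWt.eq_one (c := Red.DSmap S π ≫ c) (IsWt.DSmap (c := c) h1 π) h2 he).trans
      (map_one _).symm))
  have hUwt : ∀ {B : Type u} [CommRing B] {f : Spec (CommRingCat.of B) ⟶ S} (w : Lie U B f),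
      IsWt c (LieS.map B f u w) d := fun {B} _ f w => by
    have hw := (mem_USub_iff cZ nu gens_univ).1 (hu.exists_fac_iff.1
      ⟨(w.1 : pt (DualNumber B) (fd f) ⟶ U), rfl⟩ :
        ((LieS.map B f uZ w).1 : pt (DualNumber B) (fd f) ⟶ Z) ∈ USub (fd f) (Red.DSmap S nu ≫ cZ))
    have hwZ : IsWt cZ (LieS.map B f uZ w) d := fun x m hm => by
      rcases lt_trichotomy (nu m) 0 with h | h | h
      · rw [← rp_vec_snd, (mem_PSub_iff cZ nu gens_univ).1 hw.1 x (Set.mem_univ x) m h, TrivSqZeroExt.snd_zero]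
      · rw [← rp_vec_snd, hw.2 x (Set.mem_univ x) m h]
        by_cases h0 : m = 0
        · have e : (1 : pt (DualNumber B) (fd f) ⟶ Z) =
              qm (algebraMap B (DualNumber B)) (Over.w (proj B f)) ≫ (1 : pt B f ⟶ Z) := (MonObj.comp_one _).symm
          rw [e, rp_qm, RingHom.comp_apply, TrivSqZeroExt.algebraMap_eq_inl', TrivSqZeroExt.snd_inl]
        · rw [rp_one_wc cZ x h0, TrivSqZeroExt.snd_zero]
      · by_contra hne
        obtain ⟨v, hv⟩ := DynPar.exists_comp cZ (LieS.map B f uZ w) m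
        have hvw : IsWt cZ v m := isWt_of_comp cZ hv
        have hv1 : v ≠ 1 := fun e => hne (by rw [← hv, e, Der.dv_one])
        have hπm := hπ0 hvw hv1
        have hG' : IsWt c (LieS.map B f z v) m := IsWt.map (c := cZ) (φ := z) hvw c hcZ
        obtain ⟨y, hy, hy1⟩ := exists_wt_field hG' (fun e => hv1 (map_injective z (e.trans (map_one _).symm)))
        obtain ⟨a, ha⟩ := hker m hπm
        obtain ⟨b, hb⟩ := hker d hπd
        have hb0 : b ≠ 0 := fun e => hd (by rw [hb, e, zero_smul])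
        rcases (field_rank_one hG i hT E hv₀ hd hv₀1).2 m y hy hy1 (fun e => by rw [e, map_zero] at h; omega)
            ⟨a, b, hb0, by rw [ha, hb, smul_smul, smul_smul, mul_comm]⟩ with ⟨e, -⟩ | e
        · exact hm e
        · rw [e, map_neg] at h; omega
    exact IsWt.map (c := cZ) (φ := z) hwZ c hcZ
  have hlift : ∀ {B : Type u} [CommRing B] {f : Spec (CommRingCat.of B) ⟶ S} {v : Lie G B f},
      IsWt c v d → ∃ w : Lie U B f, LieS.map B f u w = v := fun {B} _ f v hv => by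
    have h0 : IsWt (Red.DSmap S π ≫ c) v 0 := by rw [← hπd]; exact IsWt.DSmap (c := c) hv π
    obtain ⟨y, hy⟩ := exists_centralizer_lift hz ((mem_ZSub_iff_isWt_zero _ v).2 h0)
    let y' : dpt B f ⟶ Z := y
    have hy' : y' ≫ z = v.1 := hy
    let vZ : Lie Z B f := ⟨y', (mem_Lie_iff Z B f _).2 (by
      rw [← cancel_mono z, Category.assoc, hy', (mem_Lie_iff G B f v.1).1 v.2, MonObj.one_comp])⟩
    have hvz : LieS.map B f z vZ = v := Subtype.ext hy'
    have hvZ : IsWt cZ vZ d := IsWt.of_map (c := cZ) (φ := z) hcZ (by rw [hvz]; exact hv)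
    have hU : (vZ.1 : pt (DualNumber B) (fd f) ⟶ Z) ∈ USub (fd f) (Red.DSmap S nu ≫ cZ) := by
      refine (mem_USub_iff cZ nu gens_univ).2 ⟨IsWt.mem_PSub (c := cZ) hvZ nu hnu.le, fun x _ m hm => ?_⟩
      have hmd : m ≠ d := fun e => by rw [e] at hm; omega
      have e : (1 : pt (DualNumber B) (fd f) ⟶ Z) =
          qm (algebraMap B (DualNumber B)) (Over.w (proj B f)) ≫ (1 : pt B f ⟶ Z) := (MonObj.comp_one _).symm
      rw [e, rp_qm, RingHom.comp_apply, TrivSqZeroExt.algebraMap_eq_inl']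
      refine TrivSqZeroExt.ext ?_ ?_
      · rw [rp_vec_fst, TrivSqZeroExt.fst_inl]; rfl
      · rw [rp_vec_snd, hvZ x m hmd, TrivSqZeroExt.snd_inl]
    obtain ⟨w, hw⟩ := hu.exists_fac_iff.2 hU
    let w' : dpt B f ⟶ U := w
    have hw' : w' ≫ uZ = vZ.1 := hw
    refine ⟨⟨w', (mem_Lie_iff U B f _).2 ?_⟩, Subtype.ext ?_⟩
    · rw [← cancel_mono uZ, Category.assoc, hw', (mem_Lie_iff Z B f _).1 vZ.2, MonObj.one_comp]
    · show w' ≫ uZ ≫ z = v.1
      rw [reassoc_of% hw', hy']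
  have h1 : E.hom.hom.hom ≫ E.inv.hom.hom = 𝟙 T := congrArg (fun z => z.hom.hom) E.hom_inv_id
  have hnU : ∀ (X : Over S) (t : X ⟶ T) (x : X ⟶ U), ∃ x' : X ⟶ U, (t ≫ i) * (x ≫ u) * (t ≫ i)⁻¹ = x' ≫ u := by
    intro X t x
    obtain ⟨x', hx'⟩ := hu.exists_le (((t ≫ E.hom.hom.hom) ≫ cZ) * (x ≫ uZ) * ((t ≫ E.hom.hom.hom) ≫ cZ)⁻¹)
      fun B _ f y => by
        rw [MonObj.comp_mul, MonObj.comp_mul, GrpObj.comp_inv, ← Category.assoc y, ← Category.assoc y]
        exact conj_mem_USub (comp_mem_ZSub cZ nu _) (hu.exists_fac_iff.1 ⟨y ≫ x, rfl⟩)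
    refine ⟨x', ?_⟩
    show _ = x' ≫ uZ ≫ z
    rw [reassoc_of% hx']
    simp only [u, c, MonObj.mul_comp, GrpObj.inv_comp, Category.assoc, hcZ, reassoc_of% h1]
  refine ⟨U, inferInstance, u, inferInstance, hucl, hUs, hUc, hnU, hlift hv₀, hUwt, ?_⟩
  intro U' _ u' _ hcl' hs' hc' hn' hv' hw'
  haveI := hcl'; haveI := hs'; haveI := hc'
  haveI : Mono u' := Over.mono_of_mono_left u'
  haveI : IsAffine U'.left := isAffine_of_isAffineHom u'.left
  haveI : IsAffineHom U'.hom := isAffineHom_of_isAffine _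
  obtain ⟨-, hzero, hconst⟩ := rootGroup_struct hG i hT E hd u' hcl' hn' hv₀ hv₀1 hv' hw'
  obtain ⟨y', hy'⟩ := (hz.2.2 _ u').2 ((inF_ZFam_iff (c := Red.DSmap S π ≫ c) u').1 fun B _ f y =>
    (mem_ZSub_iff c π gens_univ).2 fun a _ m hm => by
      rw [rp_comp_left, RingHom.comp_apply, hzero a m (fun n e => hm (by rw [e, map_nsmul, hπd, smul_zero])), map_zero])
  haveI : IsMonHom y' := MTSplit.isMonHom_of_comp_mono y' z u' hy'
  haveI : IsClosedImmersion y'.left := by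
    haveI : IsClosedImmersion (y'.left ≫ z.left) := by rw [← Over.comp_left, hy']; exact hcl'
    exact IsClosedImmersion.of_comp y'.left z.left
  haveI : Mono y' := Over.mono_of_mono_left y'
  have hw'Z : ∀ w : Lie U' k (fk k), IsWt cZ (LieS.map k _ y' w) d := fun w =>
    IsWt.of_map (c := cZ) (φ := z) hcZ (by
      rw [show LieS.map k _ z (LieS.map k _ y' w) = LieS.map k _ u' w from Subtype.ext (by
        show (_ ≫ y') ≫ z = _ ≫ u'
        rw [Category.assoc, hy'])]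
      exact hw' w)
  have hnZ : ∀ (X : Over S) (s : X ⟶ Red.DS S M) (x : X ⟶ U'),
      ∃ x' : X ⟶ U', (s ≫ cZ) * (x ≫ y') * (s ≫ cZ)⁻¹ = x' ≫ y' := fun X s x => by
    obtain ⟨x', hx'⟩ := hn' X (s ≫ E.inv.hom.hom) x
    refine ⟨x', ?_⟩
    rw [← cancel_mono z, MonObj.mul_comp, MonObj.mul_comp, GrpObj.inv_comp, Category.assoc, Category.assoc,
      Category.assoc, hy', hcZ, ← hx', Category.assoc]
  haveI : IsIntegral U'.left := RGDev.isIntegral_of_smooth_connected U'.hom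
  haveI : Nonempty (⊤ : U'.left.Opens) := ⟨⟨Classical.arbitrary U'.left, trivial⟩⟩
  haveI : IsDomain Γ(U'.left, ⊤) := inferInstance
  haveI : IsLocallyNoetherian U'.left := LocallyOfFiniteType.isLocallyNoetherian U'.hom
  haveI : IsNoetherianRing Γ(U'.left, ⊤) := IsLocallyNoetherian.component_noetherian ⟨⊤, isAffineOpen_top U'.left⟩
  obtain ⟨w₀, hw₀⟩ := hv'
  obtain ⟨a₀, -, -, hzZ, hspanZ⟩ := exists_coord (c := cZ) y' (y'.left.app_surjective ⊤ (isAffineOpen_top _)) hnZ hd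
    hw'Z (w₀ := w₀) (fun e => hv₀1 (by
      rw [← hw₀, show LieS.map k _ u' w₀ = LieS.map k _ z (LieS.map k _ y' w₀) from Subtype.ext (by
        show _ ≫ u' = (_ ≫ y') ≫ z
        rw [Category.assoc, hy'])]
      exact (congrArg (LieS.map k _ z) e).trans (map_one _)))
    fun w => by
      have hmap : ∀ w : Lie U' k (fk k), LieS.map k _ u' w = LieS.map k _ z (LieS.map k _ y' w) := fun w => Subtype.ext (by
        show _ ≫ u' = (_ ≫ y') ≫ z
        rw [Category.assoc, hy'])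
      by_cases hw1 : LieS.map k _ u' w = 1
      · exact ⟨0, by rw [LieWt.zero_rescale]; exact map_injective z ((hmap w).symm.trans (hw1.trans (map_one _).symm))⟩
      rcases (field_rank_one hG i hT E hv₀ hd hv₀1).2 d _ (hw' w) hw1 hd ⟨1, 1, one_ne_zero, rfl⟩ with ⟨-, r, hr⟩ | h
      · refine ⟨r, map_injective z ?_⟩
        rw [map_smul, ← hmap, ← hmap, hr, hw₀]
      · have h2 : (2 : ℤ) • d = 0 := by rw [two_zsmul]; nth_rw 1 [h]; rw [neg_add_cancel]
        exact absurd ((smul_eq_zero.1 h2).resolve_left two_ne_zero) hd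
  obtain ⟨e, he⟩ := hu.exists_le y' fun B _ f y => by
    have hne : ∀ m, nu m < 0 ∨ (nu m = 0 ∧ m ≠ 0) → ∀ n : ℕ, m ≠ n • d := by
      rintro m hm n rfl
      rcases hm with hm | ⟨hm, hm0⟩
      · rw [map_nsmul, nsmul_eq_mul] at hm; nlinarith
      · rw [map_nsmul, nsmul_eq_mul, mul_eq_zero] at hm
        rcases hm with hm | hm
        · exact hm0 (by rw [Nat.cast_eq_zero.1 hm, zero_smul])
        · omega
    refine (mem_USub_iff cZ nu gens_univ).2 ⟨(mem_PSub_iff cZ nu gens_univ).2 fun a _ m hm => ?_, fun a _ m hm => ?_⟩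
    · rw [rp_comp_left, RingHom.comp_apply, hzZ a m (hne m (Or.inl hm)), map_zero]
    · by_cases h0 : m = 0
      · subst h0
        obtain ⟨r, hr⟩ := hspanZ a 0
        rw [zero_smul, pow_zero, _root_.mul_one] at hr
        rw [← MonObj.one_comp y' (X := pt B f), rp_comp_left, RingHom.comp_apply, rp_comp_left, RingHom.comp_apply, hr,
          sG_eq, rp_hom, rp_hom]
      · rw [rp_comp_left, RingHom.comp_apply, hzZ a m (hne m (Or.inr ⟨hm, h0⟩)), map_zero, rp_one_wc cZ a h0]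
  have heu : e ≫ u = u' := by show e ≫ uZ ≫ z = u'; rw [reassoc_of% he, hy']
  haveI : IsMonHom e := MTSplit.isMonHom_of_comp_mono e u u' heu
  haveI : IsClosedImmersion e.left := by
    haveI : IsClosedImmersion (e.left ≫ u.left) := by rw [← Over.comp_left, heu]; exact hcl'
    exact IsClosedImmersion.of_comp e.left u.left
  have hgeo : ∀ s, ConnectedSpace (Red.geomFibre s U).left := fun s => by
    haveI : IsAffineHom (Red.bc (Red.geomPt s) Z).hom :=
      MorphismProperty.pullback_snd (P := @IsAffineHom) Z.hom _ inferInstance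
    haveI : IsAffine (Red.bc (Red.geomPt s) Z).left := isAffine_of_isAffineHom (Red.bc (Red.geomPt s) Z).hom
    haveI : Smooth (Red.bc (Red.geomPt s) Z).hom := MorphismProperty.pullback_snd (P := @Smooth) Z.hom _ hzs
    obtain ⟨-, h2, -⟩ := field_fibre (bcHom' (Red.geomPt s) lam) (hp.bc (Red.geomPt s)) (hu.bc (Red.geomPt s))
    exact h2
  haveI : IsAffineHom U.hom := isAffineHom_of_isAffine _
  haveI : IsIso e := DynPar.isIso_of_lie e inferInstance hUs inferInstance hgeo fun B _ _ => eq_top_iff.2 fun v _ => by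
    have hf : Spec.map (CommRingCat.ofHom (algebraMap k B)) ≫ fk k =
        Spec.map (CommRingCat.ofHom (algebraMap k B)) := by
      rw [fk, Algebra.algebraMap_self, CommRingCat.ofHom_id, Spec.map_id, Category.comp_id]
    obtain ⟨b, hb⟩ := wt_vector_eq_smul (c := c) hv₀1 (fun w hw => by
      by_cases hw1 : w = 1
      · exact ⟨0, by rw [hw1, LieWt.zero_rescale]⟩
      rcases (field_rank_one hG i hT E hv₀ hd hv₀1).2 d w hw hw1 hd ⟨1, 1, one_ne_zero, rfl⟩ with ⟨-, hr⟩ | h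
      · exact hr
      · have h2 : (2 : ℤ) • d = 0 := by rw [two_zsmul]; nth_rw 1 [h]; rw [neg_add_cancel]
        exact absurd ((smul_eq_zero.1 h2).resolve_left two_ne_zero) hd) hf (hUwt v)
    refine ⟨b • pl (algebraMap k B) hf w₀, trivial, map_injective u ?_⟩
    rw [hb, show LieS.map B _ u (LieS.map B _ e (b • pl (algebraMap k B) hf w₀)) =
      LieS.map B _ u' (b • pl (algebraMap k B) hf w₀) from Subtype.ext (by
        show (_ ≫ e) ≫ u = _ ≫ u'
        rw [Category.assoc, heu]), map_smul, map_pl, hw₀]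
  exact ⟨asIso e, heu⟩

end Groth.Agent.RootSys
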