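import Groth.Agent.RootSys.WeylPt
import Groth.Agent.RootSys.RootGroup
import Groth.Agent.RootSys.FieldRed
import Groth.Agent.RootIntrinsic.Transfer
import Groth.Agent.RedR1.GaSpace

/-!
# Roots of a split maximal torus over a field and their coroots
-/

set_option autoImplicit false
set_option backward.isDefEq.respectTransparency false
set_option linter.style.haveILetI false
set_option maxHeartbeats 1000000
set_option synthInstance.maxHeartbeats 400000

universe u

open CategoryTheory Limits MonoidalCategory CartesianMonoidalCategory MonObj AlgebraicGeometry LieS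
open scoped CategoryTheory.Obj

noncomputable section

namespace Groth.Agent.RootSys

open Groth.Agent.HomDiag Groth.Agent.DynPar

variable {k : Type u} [Field k] {G : Over (Spec (CommRingCat.of k))} [GrpObj G] {M : Type} [AddCommGroup M]

/-- The value of a character at a point is unchanged by an involution composed twice. -/
theorem DSmap_invol {θ : M →+ M} (h : θ.comp θ = AddMonoidHom.id M) :
    Red.DSmap (Spec (CommRingCat.of k)) θ ≫ Red.DSmap (Spec (CommRingCat.of k)) θ = 𝟙 _ := by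
  rw [RootIntrinsic.DSmap_comp_apply, h, DSmap_id]

section Transport

variable {j : Red.DS (Spec (CommRingCat.of k)) M ⟶ G} {d : M} (φ : G ⟶ G) [IsMonHom φ] {θ : M →+ M}

/-- Transport of a root homomorphism along an automorphism acting on the torus by an involution. -/
theorem isRootHom_transport [IsIso φ] (hθ : θ.comp θ = AddMonoidHom.id M)
    (hφ : Red.DSmap (Spec (CommRingCat.of k)) θ ≫ j = j ≫ φ) {u : Red.Ga (Spec (CommRingCat.of k)) ⟶ G}
    (hu : Red.IsRootHom j (Red.chi _ d) u) : Red.IsRootHom j (Red.chi _ (θ d)) (u ≫ φ) := by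
  haveI := hu.1; haveI := hu.2.1
  haveI : IsIso φ.left := inferInstanceAs (IsIso ((Over.forget _).map φ))
  refine ⟨inferInstance, by rw [Over.comp_left]; infer_instance, fun X t x => ?_⟩
  obtain ⟨y, hy, hy'⟩ := hu.2.2 X (t ≫ Red.DSmap _ θ) x
  refine ⟨y, ?_, ?_⟩
  · have e : (t ≫ Red.DSmap _ θ) ≫ j ≫ φ = t ≫ j := by
      rw [← hφ, Category.assoc, ← Category.assoc (Red.DSmap _ θ), DSmap_invol hθ, Category.id_comp]
    rw [← Category.assoc y, hy, MonObj.mul_comp, MonObj.mul_comp, GrpObj.inv_comp, Category.assoc _ j φ, e,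
      Category.assoc]
  · rw [hy', RootIntrinsic.gmFn_chi, RootIntrinsic.gmFn_chi, ch_DSmap]
    rfl

/-- Transport of the commutation relation. -/
theorem sl2Rel_transport (hθ : θ.comp θ = AddMonoidHom.id M)
    (hφ : Red.DSmap (Spec (CommRingCat.of k)) θ ≫ j = j ≫ φ) {u v : Red.Ga (Spec (CommRingCat.of k)) ⟶ G} {c : k}
    {e : M →+ ℤ} (H : Sl2Rel j u v c e) : Sl2Rel j (u ≫ φ) (v ≫ φ) c (e.comp θ) := by
  intro A _ ψ x y w t hw ht
  have h := congrArg (· ≫ φ) (H ψ x y w (t ≫ Red.DSmap _ θ) hw fun m => by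
    rw [chv_DSmap, ht]
    show ((w ^ e (θ (θ (Multiplicative.toAdd m))) : Aˣ) : A) = _
    rw [show θ (θ (Multiplicative.toAdd m)) = Multiplicative.toAdd m from congr($hθ (Multiplicative.toAdd m))])
  simp only [cellMul, MonObj.mul_comp, Category.assoc] at h ⊢
  rw [h, ← hφ, ← Category.assoc (Red.DSmap _ θ) (Red.DSmap _ θ), DSmap_invol hθ, Category.id_comp]

end Transport

/-- A point of the torus over a field extension with a given value of a nonzero character. -/
theorem exists_pt_chv' [Module.Free ℤ M] {d : M} (hd : d ≠ 0) {K : Type u} [Field K] [IsAlgClosed K]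
    (f : Spec (CommRingCat.of K) ⟶ Spec (CommRingCat.of k)) {a : K} (ha : a ≠ 0) :
    ∃ s : pt K f ⟶ Red.DS (Spec (CommRingCat.of k)) M, chv s (Multiplicative.ofAdd d) = a := by
  obtain ⟨g, hg⟩ := exists_dual_ne_zero hd
  obtain ⟨r, hr⟩ := IsAlgClosed.exists_pow_nat_eq a (Int.natAbs_pos.2 hg)
  have hr0 : r ≠ 0 := fun h => ha (by rw [← hr, h, zero_pow (Int.natAbs_pos.2 hg).ne'])
  obtain ⟨q, hq, hqa⟩ : ∃ q : K, q ≠ 0 ∧ q ^ g d = a := by
    rcases Int.natAbs_eq (g d) with h | h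
    · exact ⟨r, hr0, by rw [h, zpow_natCast, hr]⟩
    · exact ⟨r⁻¹, inv_ne_zero hr0, by rw [h, zpow_neg, inv_zpow, inv_inv, zpow_natCast, hr]⟩
  obtain ⟨s, hs⟩ := exists_chv (S := Spec (CommRingCat.of k)) (f := f)
    { toFun := fun m : Multiplicative M => q ^ g (Multiplicative.toAdd m)
      map_one' := by simp
      map_mul' := fun x y => by rw [toAdd_mul, map_add, zpow_add₀ hq] }
  exact ⟨s, (hs _).trans hqa⟩

/-- An equivariant endomorphism of the additive group is linear on geometric points. -/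
theorem fac_linear [Module.Free ℤ M] {d : M} (hd : d ≠ 0) {j : Red.DS (Spec (CommRingCat.of k)) M ⟶ G}
    {u u' : Red.Ga (Spec (CommRingCat.of k)) ⟶ G} (hu : Red.IsRootHom j (Red.chi _ d) u)
    (hu' : Red.IsRootHom j (Red.chi _ d) u') {g : Red.Ga (Spec (CommRingCat.of k)) ⟶ Red.Ga (Spec (CommRingCat.of k))}
    (hg : g ≫ u' = u) {K : Type u} [Field K] [IsAlgClosed K]
    (f : Spec (CommRingCat.of K) ⟶ Spec (CommRingCat.of k)) :
    ∃ r : K, r ≠ 0 ∧ ∀ x, gpt f x ≫ u = gpt f (x * r) ≫ u' := by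
  haveI := hu.1; haveI := hu.2.1; haveI := hu'.2.1
  haveI : Mono u' := Over.mono_of_mono_left u'
  haveI : Mono u := Over.mono_of_mono_left u
  let F : K → K := fun x => gval (gpt f x ≫ g)
  have hF : ∀ x, gpt f x ≫ u = gpt f (F x) ≫ u' := fun x => by rw [gpt_gval, Category.assoc, hg]
  have heq : ∀ α x : K, α ≠ 0 → F (α * x) = α * F x := fun α x hα => by
    obtain ⟨s, hs⟩ := exists_pt_chv' hd f hα
    have h1 : gpt f (α * x) ≫ u = gpt f (α * F x) ≫ u' := by
      rw [← hs, ← root_conj hu, ← root_conj hu', hF]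
    rw [hF] at h1
    have h2 := congrArg gval ((cancel_mono u').1 h1)
    rwa [gval_gpt, gval_gpt] at h2
  have h0 : F 0 = 0 := by
    classical
    obtain ⟨α, hα⟩ := Infinite.exists_notMem_finset ({0, 1} : Finset K)
    simp only [Finset.mem_insert, Finset.mem_singleton, not_or] at hα
    have h := heq α 0 hα.1
    rw [mul_zero] at h
    exact (mul_eq_zero.1 (by linear_combination h : (1 - α) * F 0 = 0)).resolve_left (sub_ne_zero.2 (Ne.symm hα.2))
  refine ⟨F 1, fun h => ?_, fun x => ?_⟩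
  · have h1 : gpt f (1 : K) ≫ u = gpt f (0 : K) ≫ u := by rw [hF, hF, h, h0]
    have h2 := congrArg gval ((cancel_mono u).1 h1)
    rw [gval_gpt, gval_gpt] at h2
    exact one_ne_zero h2
  · rw [hF]
    congr 2
    rcases eq_or_ne x 0 with rfl | hx
    · rw [zero_mul]; exact h0
    · have := heq x 1 hx
      rwa [_root_.mul_one] at this

/-- **The cocharacter of the commutation relation does not depend on the parametrisations.** -/
theorem sl2_unique [IsAffine G.left] [Module.Free ℤ M] {j : Red.DS (Spec (CommRingCat.of k)) M ⟶ G} [IsMonHom j]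
    [Mono j] {d : M} (hd : d ≠ 0) {u v u' v' : Red.Ga (Spec (CommRingCat.of k)) ⟶ G}
    (hu : Red.IsRootHom j (Red.chi _ d) u) (hv : Red.IsRootHom j (Red.chi _ (-d)) v)
    (hu' : Red.IsRootHom j (Red.chi _ d) u') (hv' : Red.IsRootHom j (Red.chi _ (-d)) v')
    (hf : ∃ g, g ≫ u' = u) (hg : ∃ g, g ≫ v' = v) {c c' : k} (hc : c ≠ 0) {e e' : M →+ ℤ}
    (H : Sl2Rel j u v c e) (H' : Sl2Rel j u' v' c' e') : e = e' := by
  classical
  obtain ⟨g₁, hg₁⟩ := hf
  obtain ⟨g₂, hg₂⟩ := hg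
  let K := AlgebraicClosure k
  let φ := algebraMap k K
  let f := Spec.map (CommRingCat.ofHom φ)
  obtain ⟨r, hr0, hr⟩ := fac_linear hd hu hu' hg₁ f
  obtain ⟨s, hs0, hs⟩ := fac_linear (neg_ne_zero.2 hd) hv hv' hg₂ f
  have hφc : φ c ≠ 0 := (map_ne_zero φ).2 hc
  have key : ∀ z : K, 1 + φ c * z ≠ 0 → 1 + φ c' * (r * (z * s)) ≠ 0 →
      z * s * (1 + φ c * z)⁻¹ = z * s * (1 + φ c' * (r * (z * s)))⁻¹ ∧
        ∀ m : M, (1 + φ c * z) ^ e m = (1 + φ c' * (r * (z * s))) ^ e' m := by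
    intro z hw hw'
    let w : Kˣ := Units.mk0 _ hw
    let w' : Kˣ := Units.mk0 _ hw'
    have hχ : ∀ (w : Kˣ) (e : M →+ ℤ), ∃ t : pt K f ⟶ Red.DS (Spec (CommRingCat.of k)) M,
        ∀ m, chv t m = ((w ^ e (Multiplicative.toAdd m) : Kˣ) : K) := fun w e =>
      exists_chv (f := f) (S := Spec (CommRingCat.of k))
        { toFun := fun m => ((w ^ e (Multiplicative.toAdd m) : Kˣ) : K)
          map_one' := by simp
          map_mul' := fun a b => by rw [toAdd_mul, map_add, zpow_add, Units.val_mul] }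
    obtain ⟨t, ht⟩ := hχ w e
    obtain ⟨t', ht'⟩ := hχ w' e'
    have h := H φ 1 z w t (by simp [w]) ht
    have h' := H' φ r (z * s) w' t' (by simp [w']) ht'
    rw [hr 1, hs z, _root_.one_mul, h'] at h
    simp only [cellMul] at h
    rw [hs, hr] at h
    obtain ⟨ha, hb, -⟩ := cellMul_inj hd hu' hv' h
    refine ⟨?_, fun m => ?_⟩
    · simp only [w, w', Units.val_inv_eq_inv_val, Units.val_mk0] at ha
      linear_combination -ha
    · have := congr(chv $hb (Multiplicative.ofAdd m))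
      rw [ht, ht', Units.val_zpow_eq_zpow_val, Units.val_zpow_eq_zpow_val] at this
      exact this.symm
  have hcc : φ c' * (r * s) = φ c := by
    obtain ⟨z, hz⟩ := Infinite.exists_notMem_finset ({0, -(φ c)⁻¹, -(φ c' * (r * s))⁻¹} : Finset K)
    simp only [Finset.mem_insert, Finset.mem_singleton, not_or] at hz
    have h1 : 1 + φ c * z ≠ 0 := fun h => hz.2.1 (mul_left_cancel₀ hφc (by rw [mul_neg, mul_inv_cancel₀ hφc]; linear_combination h))
    have h2 : 1 + φ c' * (r * (z * s)) ≠ 0 := fun h => by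
      rcases eq_or_ne (φ c' * (r * s)) 0 with h0 | h0
      · exact one_ne_zero (by linear_combination h - z * h0)
      · exact hz.2.2 (mul_left_cancel₀ h0 (by rw [mul_neg, mul_inv_cancel₀ h0]; linear_combination h))
    have h3 := mul_left_cancel₀ (mul_ne_zero hz.1 hs0) (key z h1 h2).1
    rw [inv_inj] at h3
    exact mul_left_cancel₀ hz.1 (by linear_combination -h3)
  refine AddMonoidHom.ext fun m => zpow_inj_all (k := K) fun q hq => ?_
  have hq1 : 1 + φ c * ((q - 1) / φ c) = q := by rw [mul_div_cancel₀ _ hφc]; ring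
  have hq2 : 1 + φ c' * (r * ((q - 1) / φ c * s)) = q := by
    rw [show φ c' * (r * ((q - 1) / φ c * s)) = φ c' * (r * s) * ((q - 1) / φ c) by ring, hcc]; exact hq1
  have := (key ((q - 1) / φ c) (by rwa [hq1]) (by rwa [hq2])).2 m
  rwa [hq1, hq2] at this

variable {T : Over (Spec (CommRingCat.of k))} [GrpObj T]

/-- Root homomorphisms for a split torus and for its diagonalisable model. -/
theorem rootHom_split_iff (i : T ⟶ G) (E : Grp.mk T ≅ Grp.mk (Red.DS (Spec (CommRingCat.of k)) M)) (a : M)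
    (u : Red.Ga (Spec (CommRingCat.of k)) ⟶ G) :
    Red.IsRootHom (E.inv.hom.hom ≫ i) (Red.chi _ a) u ↔ Red.IsRootHom i (E.hom.hom.hom ≫ Red.chi _ a) u := by
  have h1 : E.hom.hom.hom ≫ E.inv.hom.hom = 𝟙 T := congrArg (fun z => z.hom.hom) E.hom_inv_id
  have h2 : E.inv.hom.hom ≫ E.hom.hom.hom = 𝟙 _ := congrArg (fun z => z.hom.hom) E.inv_hom_id
  refine ⟨fun hu => ⟨hu.1, hu.2.1, fun X t x => ?_⟩, fun hu => ⟨hu.1, hu.2.1, fun X t x => ?_⟩⟩
  · obtain ⟨y, hy, hy'⟩ := hu.2.2 X (t ≫ E.hom.hom.hom) x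
    refine ⟨y, ?_, ?_⟩
    · rw [hy, Category.assoc, reassoc_of% h1]
    · rw [hy', Category.assoc]
  · obtain ⟨y, hy, hy'⟩ := hu.2.2 X (t ≫ E.inv.hom.hom) x
    refine ⟨y, ?_, ?_⟩
    · rw [hy, Category.assoc]
    · rw [hy', Category.assoc, reassoc_of% h2]

/-- Tangent vectors of the additive group are multiples of the standard one. -/
theorem lieGa_eq_smul (w : Lie (Red.Ga (Spec (CommRingCat.of k))) k (fk k)) :
    ∃ r : k, w = r • (⟨RootIntrinsic.eGa, (mem_Lie_iff _ k _ _).2 RootIntrinsic.zeroSec_eGa⟩ :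
      Lie (Red.Ga (Spec (CommRingCat.of k))) k (fk k)) := by
  let w' : pt (DualNumber k) (fd (fk k)) ⟶ Red.Ga (Spec (CommRingCat.of k)) := w.1
  have h0 := congrArg Red.gaFn ((mem_Lie_iff _ k (fk k) _).1 w.2)
  rw [BGaNotS.gaFn_comp, BGaNotS.gaFn_one] at h0
  let z := gval w'
  have hz : Red.gaFn w.1 = (Scheme.ΓSpecIso (CommRingCat.of (DualNumber k))).inv z :=
    (ConcreteCategory.congr_hom (Scheme.ΓSpecIso (CommRingCat.of (DualNumber k))).hom_inv_id _).symm
  have hz0 : TrivSqZeroExt.fst z = 0 := by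
    rw [hz] at h0
    have h1 := (LieWeight.appTop_comp_inv (TrivSqZeroExt.fstHom k k k).toRingHom z).symm.trans h0
    have h2 := congrArg (Scheme.ΓSpecIso (CommRingCat.of k)).hom h1
    rw [map_zero] at h2
    exact (ConcreteCategory.congr_hom (Scheme.ΓSpecIso (CommRingCat.of k)).inv_hom_id _).symm.trans h2
  refine ⟨TrivSqZeroExt.snd z, Subtype.ext (BGaNotS.gaPt_ext ?_)⟩
  show Red.gaFn w.1 = Red.gaFn (scale k (fk k) (TrivSqZeroExt.snd z) ≫ RootIntrinsic.eGa)
  rw [hz, BGaNotS.gaFn_comp, RootIntrinsic.gaFn_eGa, RootIntrinsic.appTop_scale]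
  congr 1
  ext <;> simp [scaleHom, hz0, TrivSqZeroExt.algebraMap_eq_inl']

/-- The roots of a split torus: nonzero weights of its tangent action. -/
def IsSplitRoot [IsAffine G.left] (j : Red.DS (Spec (CommRingCat.of k)) M ⟶ G) [IsMonHom j] (a : M) : Prop :=
  a ≠ 0 ∧ ∃ v : Lie G k (fk k), IsWt j v a ∧ v ≠ 1

variable [IsAffine G.left] {i : T ⟶ G} {E : Grp.mk T ≅ Grp.mk (Red.DS (Spec (CommRingCat.of k)) M)}

theorem isSplitRoot_of_rootHom [IsMonHom (E.inv.hom.hom ≫ i)] {a : M} (ha : a ≠ 0)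
    {u : Red.Ga (Spec (CommRingCat.of k)) ⟶ G} (hu : Red.IsRootHom (E.inv.hom.hom ≫ i) (Red.chi _ a) u) :
    IsSplitRoot (E.inv.hom.hom ≫ i) a := by
  haveI := hu.1; haveI := hu.2.1
  haveI : Mono u := Over.mono_of_mono_left u
  exact ⟨ha, _, isWt_vU E ((rootHom_split_iff i E a u).1 hu), RootIntrinsic.vU_ne_one u⟩

theorem isSplitRoot_neg [Smooth G.hom] [ConnectedSpace G.left] (hG : Red.IsReductive G) (hT : Red.IsMaximalTorus i)
    [IsMonHom (E.inv.hom.hom ≫ i)] {a : M} (ha : IsSplitRoot (E.inv.hom.hom ≫ i) a) :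
    IsSplitRoot (E.inv.hom.hom ≫ i) (-a) := by
  obtain ⟨ha0, v, hv, hv1⟩ := ha
  obtain ⟨w, hw, hw1⟩ := (field_rank_one hG i hT E hv ha0 hv1).1
  exact ⟨neg_ne_zero.2 ha0, w, hw, hw1⟩

theorem exists_rootHom (hG : Red.IsReductive G) (hT : Red.IsMaximalTorus i)
    [IsMonHom (E.inv.hom.hom ≫ i)] {a : M} (ha : IsSplitRoot (E.inv.hom.hom ≫ i) a) :
    ∃ u, Red.IsRootHom (E.inv.hom.hom ≫ i) (Red.chi _ a) u := by
  obtain ⟨ha0, v, hv, hv1⟩ := ha
  obtain ⟨U, _, u, hum, hcl, hs, hc, hn, hw, hwt, -⟩ := exists_rootGroup hG i hT E ha0 hv hv1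
  haveI := hum; haveI := hcl; haveI := hs; haveI := hc
  haveI : IsAffine U.left := isAffine_of_isAffineHom u.left
  obtain ⟨⟨e, -, he⟩, -⟩ := rootGroup_struct hG i hT E ha0 u hcl hn hv hv1 hw fun w => hwt w
  exact ⟨_, (rootHom_split_iff i E a _).2 he⟩

/-- **Two root homomorphisms of the same root have the same image.** -/
theorem rootHom_fac [Smooth G.hom] [ConnectedSpace G.left] [Module.Free ℤ M] (hG : Red.IsReductive G) (hT : Red.IsMaximalTorus i)
    [IsMonHom (E.inv.hom.hom ≫ i)] {a : M} (ha : a ≠ 0) {u u' : Red.Ga (Spec (CommRingCat.of k)) ⟶ G}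
    (hu : Red.IsRootHom (E.inv.hom.hom ≫ i) (Red.chi _ a) u)
    (hu' : Red.IsRootHom (E.inv.hom.hom ≫ i) (Red.chi _ a) u') : ∃ g, g ≫ u' = u := by
  obtain ⟨-, v, hv, hv1⟩ := isSplitRoot_of_rootHom ha hu
  obtain ⟨U, _, uU, _, -, -, -, -, -, -, huniq⟩ := exists_rootGroup hG i hT E ha hv hv1
  suffices h : ∀ {w : Red.Ga (Spec (CommRingCat.of k)) ⟶ G}, Red.IsRootHom (E.inv.hom.hom ≫ i) (Red.chi _ a) w →
      ∃ e : Red.Ga (Spec (CommRingCat.of k)) ≅ U, e.hom ≫ uU = w by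
    obtain ⟨e, he⟩ := h hu
    obtain ⟨e', he'⟩ := h hu'
    exact ⟨e.hom ≫ e'.inv, by rw [Category.assoc, ← he', Iso.inv_hom_id_assoc, he]⟩
  intro w hw
  have hw' := (rootHom_split_iff i E a w).1 hw
  haveI := hw.1; haveI := hw.2.1
  haveI : Mono w := Over.mono_of_mono_left w
  haveI := RedR1.smooth_ga k
  haveI : IsAffine Red.GaZ.left := isAffine_Spec _
  haveI : IsAffineHom (Red.Ga (Spec (CommRingCat.of k))).hom :=
    MorphismProperty.pullback_snd (P := @IsAffineHom) Red.GaZ.hom _ (isAffineHom_of_isAffine _)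
  haveI : IsAffine (Red.Ga (Spec (CommRingCat.of k))).left :=
    isAffine_of_isAffineHom (Red.Ga (Spec (CommRingCat.of k))).hom
  have hsmul : ∀ (r : k), LieS.map k _ w (r • (⟨RootIntrinsic.eGa, (mem_Lie_iff _ k _ _).2 RootIntrinsic.zeroSec_eGa⟩ :
      Lie (Red.Ga (Spec (CommRingCat.of k))) k (fk k))) = r • RootIntrinsic.vU w := fun r => by
    rw [map_smul]; rfl
  refine huniq _ w hw.2.1 inferInstance (RedR1.connectedSpace_ga k) (fun X t x => ?_) ?_ fun z => ?_
  · obtain ⟨y, hy, -⟩ := hw'.2.2 X t x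
    exact ⟨y, hy.symm⟩
  · have hne : RootIntrinsic.vU w ≠ 1 := RootIntrinsic.vU_ne_one w
    rcases (field_rank_one hG i hT E (isWt_vU E hw') ha hne).2 a v hv hv1 ha ⟨1, 1, one_ne_zero, rfl⟩ with
      ⟨-, r, hr⟩ | h
    · exact ⟨_, (hsmul r).trans hr.symm⟩
    · have h2 : (2 : ℤ) • a = 0 := by rw [two_zsmul]; nth_rw 1 [h]; rw [neg_add_cancel]
      exact absurd ((smul_eq_zero.1 h2).resolve_left two_ne_zero) ha
  · obtain ⟨r, rfl⟩ := lieGa_eq_smul z
    rw [hsmul]
    exact (isWt_vU E hw').smul r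

/-- The coroot data of a root. -/
def IsCorootOf (j : Red.DS (Spec (CommRingCat.of k)) M ⟶ G) (a : M) (e : M →+ ℤ) : Prop :=
  ∃ u v c, Red.IsRootHom j (Red.chi _ a) u ∧ Red.IsRootHom j (Red.chi _ (-a)) v ∧ c ≠ 0 ∧ e a = 2 ∧ Sl2Rel j u v c e

variable [Smooth G.hom] [ConnectedSpace G.left] [Module.Free ℤ M]

theorem exists_isCorootOf [Module.Finite ℤ M] (hG : Red.IsReductive G) (hT : Red.IsMaximalTorus i)
    [IsMonHom (E.inv.hom.hom ≫ i)] {a : M} (ha : IsSplitRoot (E.inv.hom.hom ≫ i) a) :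
    ∃ e, IsCorootOf (E.inv.hom.hom ≫ i) a e := by
  obtain ⟨u, hu⟩ := exists_rootHom hG hT ha
  obtain ⟨v, hv⟩ := exists_rootHom hG hT (isSplitRoot_neg hG hT ha)
  obtain ⟨c, e, hc, he, H⟩ := exists_sl2Rel hG i hT E ha.1 hu hv
  exact ⟨e, u, v, c, hu, hv, hc, he, H⟩

theorem isCorootOf_unique (hG : Red.IsReductive G) (hT : Red.IsMaximalTorus i)
    [IsMonHom (E.inv.hom.hom ≫ i)] {a : M} {e e' : M →+ ℤ} (h : IsCorootOf (E.inv.hom.hom ≫ i) a e)
    (h' : IsCorootOf (E.inv.hom.hom ≫ i) a e') : e = e' := by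
  obtain ⟨u, v, c, hu, hv, hc, he, H⟩ := h
  obtain ⟨u', v', c', hu', hv', -, -, H'⟩ := h'
  have ha : a ≠ 0 := fun h => by rw [h, map_zero] at he; omega
  haveI : Mono i := hT.2.1
  haveI : IsIso E.inv.hom.hom := inferInstanceAs (IsIso ((Grp.forget _).map E.inv))
  haveI : Mono (E.inv.hom.hom ≫ i) := mono_comp _ _
  exact sl2_unique ha hu hv hu' hv' (rootHom_fac hG hT ha hu hu') (rootHom_fac hG hT (neg_ne_zero.2 ha) hv hv') hc H H'

omit [Smooth G.hom] [ConnectedSpace G.left] [Module.Free ℤ M] in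
/-- A root has an element of the normaliser inducing its reflection. -/
theorem IsCorootOf.exists_refl {j : Red.DS (Spec (CommRingCat.of k)) M ⟶ G} [IsMonHom j] {a : M} {e : M →+ ℤ}
    (h : IsCorootOf j a e) :
    ∃ n : 𝟙_ (Over (Spec (CommRingCat.of k))) ⟶ G, ∀ (X : Over (Spec (CommRingCat.of k)))
      (t : X ⟶ Red.DS (Spec (CommRingCat.of k)) M),
      (toUnit X ≫ n) * (t ≫ j) * (toUnit X ≫ n)⁻¹ = (t ≫ Red.DSmap _ (refl' a e)) ≫ j := by
  obtain ⟨u, v, c, hu, hv, hc, he, H⟩ := h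
  exact ⟨_, fun X t => weyl_conj hc he H hu hv t⟩

omit [Smooth G.hom] [ConnectedSpace G.left] [Module.Free ℤ M] in
/-- Reflections transport coroots. -/
theorem IsCorootOf.transport {j : Red.DS (Spec (CommRingCat.of k)) M ⟶ G} [IsMonHom j] {a b : M} {ea eb : M →+ ℤ}
    (ha : IsCorootOf j a ea) (hb : IsCorootOf j b eb) : IsCorootOf j (refl' a ea b) (eb.comp (refl' a ea)) := by
  obtain ⟨ua, va, ca, hua, hva, hca, hea, Ha⟩ := ha
  obtain ⟨u, v, c, hu, hv, hc, he, H⟩ := hb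
  let φ := RootIntrinsic.inner (weylPt ua va ca)
  have hθ := refl'_invol (d := a) hea
  have hφ : Red.DSmap _ (refl' a ea) ≫ j = j ≫ φ := by
    rw [RootIntrinsic.comp_inner]
    have h := weyl_conj hca hea Ha hua hva (𝟙 (Red.DS (Spec (CommRingCat.of k)) M))
    rw [Category.id_comp, Category.id_comp] at h
    exact h.symm
  refine ⟨u ≫ φ, v ≫ φ, c, isRootHom_transport φ hθ hφ hu, ?_, hc, ?_, sl2Rel_transport φ hθ hφ H⟩
  · rw [← map_neg]; exact isRootHom_transport φ hθ hφ hv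
  · show eb (refl' a ea (refl' a ea b)) = 2
    rw [show refl' a ea (refl' a ea b) = b from congr($hθ b), he]

end Groth.Agent.RootSys
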