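import Groth.Agent.RootSys.Flag

/-!
# The complement of the cell in a group with central kernel torus
-/

set_option autoImplicit false
set_option backward.isDefEq.respectTransparency false
set_option linter.style.haveILetI false
set_option maxHeartbeats 1600000
set_option synthInstance.maxHeartbeats 400000

universe u

open CategoryTheory Limits MonoidalCategory CartesianMonoidalCategory MonObj AlgebraicGeometry LieS
open scoped CategoryTheory.Obj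
open Groth.Agent.SubGen (rpt exists_rpt map_rpt rpt_injective rpt_mem_closedPoints apply_eq_rpt)

noncomputable section

namespace Groth.Agent.RootSys

open Groth.Agent.HomDiag Groth.Agent.DynPar Groth.Agent.RootIntrinsic

theorem conj_mem_USub {S : Scheme.{u}} {G : Over S} [GrpObj G] [IsAffineHom G.hom] {Γ : Type} [AddCommGroup Γ]
    [LinearOrder Γ] [IsOrderedAddMonoid Γ] {c : Red.DS S Γ ⟶ G} [IsMonHom c] {B : Type u} [CommRing B]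
    {f : Spec (CommRingCat.of B) ⟶ S} {t v : pt B f ⟶ G} (ht : t ∈ ZSub f c) (hv : v ∈ USub f c) :
    t * v * t⁻¹ ∈ USub f c := by
  have htP := ZSub_le_PSub f c ht
  rw [mem_USub_iff_lim] at hv ⊢
  refine ⟨(PSub f c).mul_mem ((PSub f c).mul_mem htP hv.1) ((PSub f c).inv_mem htP), ?_⟩
  rw [lim_mul ((PSub f c).mul_mem htP hv.1) ((PSub f c).inv_mem htP), lim_mul htP hv.1, lim_inv htP,
    hv.2, lim_of_mem_ZSub ht, _root_.mul_one, mul_inv_cancel]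

theorem comp_mem_ZSub {S : Scheme.{u}} {G : Over S} [GrpObj G] {Γ M : Type} [AddCommGroup Γ] [AddCommGroup M]
    (j : Red.DS S M ⟶ G) [IsMonHom j] (θ : M →+ Γ) {B : Type u} [CommRing B]
    {f : Spec (CommRingCat.of B) ⟶ S} (y : pt B f ⟶ Red.DS S M) :
    y ≫ j ∈ ZSub f (Red.DSmap S θ ≫ j) := by
  rw [mem_ZSub, orb_apply, mul_inv_eq_iff_eq_mul, ← Category.assoc (xu f Γ), ← Category.assoc (qc Γ f),
    ← MonObj.mul_comp, ← MonObj.mul_comp]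
  congr 1
  exact ch_ext fun m => by rw [ch_mul, ch_mul, mul_comm]

variable {k : Type u} [Field k] [IsAlgClosed k]

local notation "S₀" => Spec (CommRingCat.of k)

/-- A normalising point of the torus in the cell has trivial contracted part. -/
theorem eq_one_of_mem_cell {C : Over S₀} [GrpObj C] [IsAffine C.left] {M : Type} [AddCommGroup M]
    (j : Red.DS S₀ M ⟶ C) [IsMonHom j] (mu : M →+ ℤ) {U B : Over S₀} [GrpObj U] [GrpObj B] {u : U ⟶ C} {b : B ⟶ C}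
    [IsMonHom b] (hu : IsU (Red.DSmap S₀ (-mu) ≫ j) u)
    (hmono : Mono ((fst U B ≫ u) * (snd U B ≫ b))) (tB : Red.DS S₀ M ⟶ B) (htB : tB ≫ b = j)
    (n : Chev.RP C) (τ : Red.DS S₀ M ≅ Red.DS S₀ M) (hτ : τ.hom ≫ j = AGF.conjBy n j)
    (v : Chev.RP U) (q : Chev.RP B) (hnq : n = v ≫ u * q ≫ b) : v ≫ u = 1 := by
  haveI := hu.1
  haveI : IsAffineHom C.hom := isAffineHom_of_isAffine C.hom
  let c' := Red.DSmap S₀ (-mu) ≫ j
  set m := (fst U B ≫ u) * (snd U B ≫ b) with hmdef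
  have hym : ∀ (T : Over S₀) (y : T ⟶ U ⊗ B), y ≫ m = (y ≫ fst U B) ≫ u * (y ≫ snd U B) ≫ b := fun T y => by
    rw [hmdef, MonObj.comp_mul, Category.assoc, Category.assoc]
  let A := AddMonoidAlgebra k ℤ
  let fA := fL (𝟙 S₀) ℤ
  let Q : pt A fA ⟶ pt k (𝟙 S₀) := qc ℤ (𝟙 S₀)
  let T : pt A fA ⟶ Red.DS S₀ M := xu (𝟙 S₀) ℤ ≫ Red.DSmap S₀ (-mu)
  let V : pt A fA ⟶ C := Q ≫ (v : pt k (𝟙 S₀) ⟶ U) ≫ u
  have hN : (toUnit (pt A fA) ≫ n) = V * (Q ≫ q) ≫ b := by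
    rw [show toUnit (pt A fA) ≫ n = Q ≫ n from by congr 1, hnq, MonObj.comp_mul, Category.assoc]
  have hconj : (toUnit (pt A fA) ≫ n) * ((T ≫ τ.inv) ≫ j) * (toUnit (pt A fA) ≫ n)⁻¹ = T ≫ j := by
    rw [← Chev.Borel.comp_conjBy, ← hτ, Category.assoc, Iso.inv_hom_id_assoc]
  have ht : T ≫ j ∈ ZSub fA c' := comp_mem_ZSub j (-mu) T
  obtain ⟨v', hv'⟩ := hu.exists_fac_iff.2 (conj_mem_USub ht (hu.exists_fac_iff.1 ⟨Q ≫ v, Category.assoc _ _ _⟩))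
  let q' := (T ≫ tB) * (Q ≫ q) * ((T ≫ τ.inv) ≫ tB)⁻¹
  have e : lift v' q' ≫ m = lift (Q ≫ v) (Q ≫ q) ≫ m := by
    rw [hym, hym, lift_fst, lift_snd, lift_fst, lift_snd, hv']
    show _ = (Q ≫ v) ≫ u * _
    rw [show ((Q ≫ v) ≫ u : pt A fA ⟶ C) = V from Category.assoc _ _ _]
    have hq' : q' ≫ b = (T ≫ j) * ((Q ≫ q) ≫ b) * ((T ≫ τ.inv) ≫ j)⁻¹ := by
      simp only [q', MonObj.mul_comp, GrpObj.inv_comp, Category.assoc, htB]
    rw [hq', ← hN]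
    conv_rhs => rw [← inv_mul_cancel_right (toUnit (pt A fA) ≫ n) ((T ≫ τ.inv) ≫ j)⁻¹]
    rw [hN] at hconj ⊢
    have h2 : (T ≫ j)⁻¹ * (V * (Q ≫ q) ≫ b) = (V * (Q ≫ q) ≫ b) * ((T ≫ τ.inv) ≫ j)⁻¹ := by
      rw [← hconj]; group
    rw [_root_.inv_inv]
    calc (T ≫ j) * V * (T ≫ j)⁻¹ * ((T ≫ j) * ((Q ≫ q) ≫ b) * ((T ≫ τ.inv) ≫ j)⁻¹)
        = (T ≫ j) * ((V * (Q ≫ q) ≫ b) * ((T ≫ τ.inv) ≫ j)⁻¹) := by group
      _ = V * (Q ≫ q) ≫ b := by rw [← h2, mul_inv_cancel_left]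
      _ = _ := by group
  rw [cancel_mono m] at e
  have e1 := congrArg (fun w => (w ≫ fst U B) ≫ u) e
  simp only [lift_fst] at e1
  rw [hv'] at e1
  have hz : ((v : pt k (𝟙 S₀) ⟶ U) ≫ u) ∈ ZSub (𝟙 S₀) c' := by
    rw [mem_ZSub, orb_apply]
    refine Eq.trans ?_ (e1.trans (Category.assoc _ _ _))
    show _ = (T ≫ j) * V * (T ≫ j)⁻¹
    simp only [T, c', Category.assoc]
    rfl
  have h1 : ((v : pt k (𝟙 S₀) ⟶ U) ≫ u) = 1 :=
    (lim_of_mem_ZSub hz).symm.trans (mem_USub_iff_lim.1 (hu.exists_fac_iff.1 ⟨_, rfl⟩)).2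
  exact h1

/-- The fixed points of the torus on the homogeneous space. -/
theorem fixed_points {C : Over S₀} [GrpObj C] [IsAffine C.left] [Smooth C.hom] [ConnectedSpace C.left]
    {M : Type} [AddCommGroup M] [Module.Free ℤ M] [Module.Finite ℤ M] (j : Red.DS S₀ M ⟶ C) [IsMonHom j]
    (hj : AGF.IsMaxTorus j) (hself : Red.IsCentralizerOf j j) {M' : Type} [AddCommGroup M']
    (π : M →+ M') (m₁ : M) (hm₁ : m₁ ≠ 0) (hπ₁ : π m₁ = 0) (hker : ∀ x, π x = 0 → ∃ l : ℤ, x = l • m₁)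
    (hcent : ∀ (n : Chev.RP C) (X : Over S₀) (t : X ⟶ Red.DS S₀ M'),
      (toUnit X ≫ n) * (t ≫ Red.DSmap _ π ≫ j) = (t ≫ Red.DSmap _ π ≫ j) * (toUnit X ≫ n))
    {B B' : Over S₀} [GrpObj B] [GrpObj B'] {b : B ⟶ C} [IsMonHom b] {b' : B' ⟶ C}
    (hB : Red.IsBorelOver k b) (hB' : Red.IsBorelOver k b') (hne : ¬ ∃ e : B' ⟶ B, e ≫ b = b')
    (tB : Red.DS S₀ M ⟶ B) (htB : tB ≫ b = j) (tB' : Red.DS S₀ M ⟶ B') (htB' : tB' ≫ b' = j)
    (n : Chev.RP C) (σ : B ≅ B') (hσ : σ.hom ≫ b' = AGF.conjBy n b)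
    {X : Over S₀} [IsProper X.hom] (a : AlgGrp.Action C X) (o : Chev.RP X) [Surjective (a.orbitMap o).left]
    (hmem : ∀ (T : Over S₀) (g : T ⟶ C), (∃ h : T ⟶ B, h ≫ b = g) ↔ g ≫ a.orbitMap o = toUnit T ≫ o)
    (w : Chev.RP X) (hw : (Chev.BorelFixed.resAction j a).IsFixedPt w) : w = o ∨ w = lift n o ≫ a.act := by
  have horb : ∀ g : Chev.RP C, g ≫ a.orbitMap o = lift g o ≫ a.act := fun g =>
    Chev.BorelFixed.rp_orbitMap a o g
  have hq : ∀ q : Chev.RP B, lift (q ≫ b) o ≫ a.act = o := fun q => by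
    rw [← horb]
    exact ((hmem _ _).1 ⟨q, rfl⟩).trans (by rw [toUnit_unique (toUnit (𝟙_ (Over S₀))) (𝟙 _), Category.id_comp])
  haveI : LocallyOfFiniteType X.hom := inferInstance
  obtain ⟨g, rfl⟩ := Chev.Borel.exists_rp_preimage (a.orbitMap o) w
  have hw' := hw (Red.DS S₀ M) (𝟙 _)
  rw [Chev.Borel.resAction_smul, Category.id_comp, ← Category.assoc, GrpAct.comp_orbitMap, ← GrpAct.mul_smul] at hw'
  obtain ⟨tg, htg⟩ := (hmem _ (AGF.conjBy g⁻¹ j)).2 (by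
    rw [GrpAct.comp_orbitMap, AGF.conjBy, GrpObj.comp_inv, _root_.inv_inv, _root_.mul_assoc, GrpAct.mul_smul, hw',
      ← GrpAct.mul_smul, inv_mul_cancel, GrpAct.one_smul'])
  have e₂ : tg ≫ AGF.conjBy g b = j := by
    rw [Chev.Borel.comp_conjBy', htg, Chev.Borel.conjBy_conjBy, mul_inv_cancel, Chev.Borel.conjBy_one]
  have hgo : ∀ h : Chev.RP C, (∀ q : Chev.RP B, ∃ q' : Chev.RP B, q' ≫ b = h * (q ≫ b) * h⁻¹) →
      lift h o ≫ a.act = o := fun h hh => by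
    obtain ⟨q, rfl⟩ := Chev.Borel.mem_borel_of_normalizes b hB h hh
    exact hq q
  have hcj : ∀ (h : Chev.RP C) {H : Over S₀} (i : H ⟶ C) (y : Chev.RP H), y ≫ AGF.conjBy h i = h * (y ≫ i) * h⁻¹ :=
    fun h H i y => by
      rw [Chev.Borel.comp_conjBy, toUnit_unique (toUnit (𝟙_ (Over S₀))) (𝟙 _), Category.id_comp]
  rw [horb]
  rcases two_borels j hj hself π m₁ hm₁ hπ₁ hker hcent hB hB' (Chev.Borel.isBorelOver_conjBy g b hB) htB htB' e₂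
    with h | ⟨e, he⟩ | ⟨e, he⟩
  · exact absurd h hne
  · exact Or.inl (hgo g fun q => ⟨q ≫ e, by rw [Category.assoc, he, hcj]⟩)
  · refine Or.inr ?_
    have h1 : lift (n⁻¹ * g) o ≫ a.act = o := hgo _ fun q => ⟨q ≫ e ≫ σ.inv, by
      have e1 : q ≫ e ≫ b' = q ≫ AGF.conjBy g b := congrArg (q ≫ ·) he
      rw [hcj, show b' = σ.inv ≫ AGF.conjBy n b by rw [← hσ, Iso.inv_hom_id_assoc]] at e1
      rw [show q ≫ e ≫ σ.inv ≫ AGF.conjBy n b = (q ≫ e ≫ σ.inv) ≫ AGF.conjBy n b by simp only [Category.assoc],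
        hcj] at e1
      calc (q ≫ e ≫ σ.inv) ≫ b
          = n⁻¹ * (n * ((q ≫ e ≫ σ.inv) ≫ b) * n⁻¹) * n := by group
        _ = _ := by rw [e1]; group⟩
    conv_rhs => rw [← h1, ← GrpAct.mul_smul, mul_inv_cancel_left]

/-- **The complement of the cell, with the function cutting it out.** -/
theorem cell_compl' {C : Over S₀} [GrpObj C] [IsAffine C.left] [Smooth C.hom] [ConnectedSpace C.left]
    {M : Type} [AddCommGroup M] [Module.Free ℤ M] [Module.Finite ℤ M] (j : Red.DS S₀ M ⟶ C) [IsMonHom j]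
    (hj : AGF.IsMaxTorus j) (hself : Red.IsCentralizerOf j j) {M' : Type} [AddCommGroup M']
    (π : M →+ M') (m₁ : M) (hm₁ : m₁ ≠ 0) (hπ₁ : π m₁ = 0) (hker : ∀ x, π x = 0 → ∃ l : ℤ, x = l • m₁)
    (hcent : ∀ (n : Chev.RP C) (X : Over S₀) (t : X ⟶ Red.DS S₀ M'),
      (toUnit X ≫ n) * (t ≫ Red.DSmap _ π ≫ j) = (t ≫ Red.DSmap _ π ≫ j) * (toUnit X ≫ n))
    (mu : M →+ ℤ) {B B' : Over S₀} [GrpObj B] [GrpObj B'] {b : B ⟶ C} {b' : B' ⟶ C}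
    (hb : IsP (Red.DSmap S₀ mu ≫ j) b) (hb' : IsP (Red.DSmap S₀ (-mu) ≫ j) b')
    (hB : Red.IsBorelOver k b) (hB' : Red.IsBorelOver k b')
    (hne : ¬ ∃ e : B' ⟶ B, e ≫ b = b') (n : Chev.RP C) (τ : Red.DS S₀ M ≅ Red.DS S₀ M) (σ : B ≅ B')
    (hτ : τ.hom ≫ j = AGF.conjBy n j) (hσ : σ.hom ≫ b' = AGF.conjBy n b) :
    ∃ x : Γ(C.left, ⊤), (∀ (A : Type u) [CommRing A] (f : Spec (CommRingCat.of A) ⟶ S₀) (g : pt A f ⟶ C),
      IsUnit (rp g x) ↔ ∃ gu gp : pt A f ⟶ C, gu ∈ USub f (Red.DSmap S₀ (-mu) ≫ j) ∧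
        gp ∈ PSub f (Red.DSmap S₀ mu ≫ j) ∧ g = gu * gp) ∧ IsUnit (rp (B := k) (f := 𝟙 S₀) (1 : Chev.RP C) x) ∧
      ∀ z : Chev.RP C, ¬ IsUnit (rp (B := k) (f := 𝟙 S₀) z x) ↔ ∃ q : Chev.RP B, z = n * (q ≫ b) := by
  haveI := hj.2.1; haveI := hb.1; haveI := hb.2.1; haveI := hb'.1; haveI := hB.2.2.1
  haveI : Mono b := Over.mono_of_mono_left b
  haveI : IsAffineHom C.hom := isAffineHom_of_isAffine C.hom
  haveI hT : Red.IsTorus (Red.DS S₀ M) := hj.2.2.1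
  haveI := Chev.isAffine_of_isTorus hT
  haveI := Chev.smooth_of_isTorus hT
  haveI := Chev.connectedSpace_of_isTorus hT
  haveI : Group.IsSolvable (Chev.RP (Red.DS S₀ M)) :=
    Group.isSolvable_of_comm fun a c => ch_ext fun m => by rw [ch_mul, ch_mul, mul_comm]
  let c := Red.DSmap S₀ mu ≫ j
  let c' := Red.DSmap S₀ (-mu) ≫ j
  have hc : c' = negC c := by
    show _ = Red.DSmap S₀ (-AddMonoidHom.id ℤ) ≫ Red.DSmap S₀ mu ≫ j
    rw [← Category.assoc, DSmap_comp_apply]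
    rfl
  obtain ⟨U, _, u, hu⟩ := exists_isU c'
  haveI := hu.1; haveI := hu.2.1
  haveI : Mono u := Over.mono_of_mono_left u
  haveI : IsAffine U.left := isAffine_of_isAffineHom u.left
  obtain ⟨x, hopen, hmono, key⟩ := exists_cell_open c c' hc hu hb
  set m := (fst U B ≫ u) * (snd U B ≫ b) with hmdef
  haveI := hmono
  have hym : ∀ (T : Over S₀) (y : T ⟶ U ⊗ B), y ≫ m = (y ≫ fst U B) ≫ u * (y ≫ snd U B) ≫ b := fun T y => by
    rw [hmdef, MonObj.comp_mul, Category.assoc, Category.assoc]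
  have key₀ : ∀ z : Chev.RP C, IsUnit (rp (B := k) (f := 𝟙 S₀) z x) ↔ ∃ (v : Chev.RP U) (q : Chev.RP B),
      z = v ≫ u * q ≫ b := fun z => (key k (𝟙 S₀) z).trans
    ⟨fun ⟨y, hy⟩ => ⟨_, _, hy.symm.trans (hym _ y)⟩,
      fun ⟨v, q, hz⟩ => ⟨lift v q, ((hym _ _).trans (by rw [lift_fst, lift_snd])).trans hz.symm⟩⟩
  obtain ⟨tB, htB⟩ : ∃ tB, tB ≫ b = j := hb.exists_le j fun A _ f y => ZSub_le_PSub f _ (comp_mem_ZSub j mu y)
  -- the normalising point is outside the cell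
  have hn : ∀ (v : Chev.RP U) (q : Chev.RP B), n ≠ v ≫ u * q ≫ b := by
    intro v q hnq
    have h1 : v ≫ u = 1 := eq_one_of_mem_cell j mu hu hmono tB htB n τ hτ v q hnq
    rw [h1, _root_.one_mul] at hnq
    refine hne ⟨σ.inv ≫ AGF.conjBy q (𝟙 B), ?_⟩
    rw [Category.assoc, Chev.Borel.conjBy_comp, Category.id_comp, ← hnq, ← hσ, Iso.inv_hom_id_assoc]
  refine ⟨x, fun A _ f g => ⟨fun hg => ?_, ?_⟩, (key₀ 1).2 ⟨1, 1, by rw [MonObj.one_comp, MonObj.one_comp, _root_.one_mul]⟩, fun z => ⟨fun hz => ?_, ?_⟩⟩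
  · obtain ⟨y, rfl⟩ := (key A f g).1 hg
    exact ⟨_, _, hu.exists_fac_iff.1 ⟨_, rfl⟩, hb.exists_fac_iff.1 ⟨_, rfl⟩, hym _ y⟩
  · rintro ⟨gu, gp, hgu, hgp, rfl⟩
    obtain ⟨y1, rfl⟩ := hu.exists_fac_iff.2 hgu
    obtain ⟨y2, rfl⟩ := hb.exists_fac_iff.2 hgp
    exact (key A f _).2 ⟨lift y1 y2, by rw [hym, lift_fst, lift_snd]⟩
  swap
  · rintro ⟨q, rfl⟩ hunit
    obtain ⟨v, q', h⟩ := (key₀ _).1 hunit
    refine hn v (q' * q⁻¹) ?_
    rw [MonObj.mul_comp, GrpObj.inv_comp, ← _root_.mul_assoc, ← h, mul_inv_cancel_right]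
  -- the homogeneous space
  obtain ⟨X, a, o, hX, hflat, hsurj, hmem⟩ := exists_flag b hB
  haveI := hX; haveI := hflat; haveI := hsurj
  haveI hφ := isOpenImmersion_orbit b u a o hmem hopen
  let φ : U ⟶ X := u ≫ a.orbitMap o
  haveI : IsOpenImmersion φ.left := hφ
  let L : Chev.RP C → (X ⟶ X) := fun g => lift (toUnit X ≫ g) (𝟙 X) ≫ a.act
  have hL : ∀ {T : Over S₀} (g : Chev.RP C) (w : T ⟶ X), w ≫ L g = lift (toUnit T ≫ g) w ≫ a.act := fun g w => by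
    rw [GrpAct.comp_smul, Category.comp_id, ← Category.assoc, toUnit_unique (w ≫ toUnit X) (toUnit _)]
  have hLL : ∀ g h : Chev.RP C, L g ≫ L h = L (h * g) := fun g h => by
    rw [hL, ← GrpAct.mul_smul, ← MonObj.comp_mul]
  have hL1 : L 1 = 𝟙 X := by
    show lift (toUnit X ≫ (1 : Chev.RP C)) (𝟙 X) ≫ a.act = 𝟙 X
    rw [MonObj.comp_one, GrpAct.one_smul']
  haveI : IsIso (L n) := ⟨L n⁻¹, by rw [hLL, inv_mul_cancel, hL1], by rw [hLL, mul_inv_cancel, hL1]⟩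
  haveI : IsIso (L n).left := inferInstanceAs (IsIso ((Over.forget _).map (L n)))
  let ψ : U ⟶ X := φ ≫ L n
  haveI : IsOpenImmersion ψ.left := by rw [Over.comp_left]; infer_instance
  have hrp : ∀ (g : Chev.RP C) (w : Chev.RP X), w ≫ L g = lift g w ≫ a.act := fun g w => by
    rw [hL, toUnit_unique (toUnit (𝟙_ (Over S₀))) (𝟙 _), Category.id_comp]
  have horb : ∀ g : Chev.RP C, g ≫ a.orbitMap o = lift g o ≫ a.act := fun g =>
    Chev.BorelFixed.rp_orbitMap a o g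
  have hq : ∀ q : Chev.RP B, lift (q ≫ b) o ≫ a.act = o := fun q => by
    rw [← horb]
    exact ((hmem _ _).1 ⟨q, rfl⟩).trans (by rw [toUnit_unique (toUnit (𝟙_ (Over S₀))) (𝟙 _), Category.id_comp])
  have hmem₀ : ∀ g : Chev.RP C, lift g o ≫ a.act = o → ∃ q : Chev.RP B, q ≫ b = g := fun g hg =>
    (hmem _ g).2 ((horb g).trans (hg.trans (by rw [toUnit_unique (toUnit (𝟙_ (Over S₀))) (𝟙 _), Category.id_comp])))
  -- fixed points
  let aT := Chev.BorelFixed.resAction j a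
  obtain ⟨tB', htB'⟩ : ∃ t, t ≫ b' = j := hb'.exists_le j fun A _ f y => ZSub_le_PSub f _ (comp_mem_ZSub j (-mu) y)
  have hfixed : ∀ w : Chev.RP X, aT.IsFixedPt w → w = o ∨ w = lift n o ≫ a.act :=
    fixed_points j hj hself π m₁ hm₁ hπ₁ hker hcent hB hB' hne tB htB tB' htB' n σ hσ a o hmem
  -- the two open sets
  have hφpt : ∀ y : Chev.RP U, y ≫ φ = lift (y ≫ u) o ≫ a.act := fun y => by
    rw [← horb, Category.assoc]
  have hψpt : ∀ y : Chev.RP U, y ≫ ψ = lift (n * (y ≫ u)) o ≫ a.act := fun y => by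
    rw [← Category.assoc, hrp, hφpt, GrpAct.mul_smul]
  have hstφ : ∀ (p : Chev.RP (Red.DS S₀ M)) (w : Chev.RP X),
      rpt w ∈ Set.range φ.left → rpt (lift p w ≫ aT.act) ∈ Set.range φ.left := by
    intro p w hw
    obtain ⟨y, rfl⟩ := exists_rp_open φ w hw
    obtain ⟨y', hy'⟩ := hu.exists_fac_iff.2 (conj_mem_USub (comp_mem_ZSub j (-mu) (B := k) (f := 𝟙 S₀) p)
      (hu.exists_fac_iff.1 ⟨(y : pt k (𝟙 S₀) ⟶ U), rfl⟩))
    refine ⟨rpt (y' : Chev.RP U), ?_⟩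
    rw [map_rpt, Chev.Borel.resAction_smul, hφpt, hφpt, hy', ← GrpAct.mul_smul]
    congr 1
    have e := hq (p ≫ tB)⁻¹
    rw [GrpObj.inv_comp, Category.assoc, htB] at e
    conv_rhs => rw [← e, ← GrpAct.mul_smul]
  have hτ₀ : ∀ p : Chev.RP (Red.DS S₀ M), (p ≫ j) * n = n * ((p ≫ τ.inv) ≫ j) := fun p => by
    have e : (p ≫ τ.inv) ≫ AGF.conjBy n j = p ≫ j := by
      rw [← hτ, Category.assoc, Iso.inv_hom_id_assoc]
    rw [Chev.Borel.comp_conjBy, toUnit_unique (toUnit (𝟙_ (Over S₀))) (𝟙 _), Category.id_comp] at e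
    rw [← e, inv_mul_cancel_right]
  have hstψ : ∀ (p : Chev.RP (Red.DS S₀ M)) (w : Chev.RP X),
      rpt w ∈ Set.range ψ.left → rpt (lift p w ≫ aT.act) ∈ Set.range ψ.left := by
    intro p w hw
    obtain ⟨y, rfl⟩ := exists_rp_open ψ w hw
    obtain ⟨z₀, hz₀⟩ := hstφ (p ≫ τ.inv) (y ≫ φ) ⟨rpt y, map_rpt φ y⟩
    refine ⟨z₀, ?_⟩
    show (L n).left (φ.left z₀) = _
    rw [hz₀, map_rpt, hrp, Chev.Borel.resAction_smul, Chev.Borel.resAction_smul, hψpt, hφpt,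
      ← GrpAct.mul_smul, ← GrpAct.mul_smul, ← GrpAct.mul_smul, ← _root_.mul_assoc, hτ₀]
  have hcompl : ∀ (s : Set X.left) (p : Chev.RP (Red.DS S₀ M)) (w : Chev.RP X),
      (∀ (p' : Chev.RP (Red.DS S₀ M)) (w' : Chev.RP X), rpt w' ∈ s → rpt (lift p' w' ≫ aT.act) ∈ s) →
      rpt w ∉ s → rpt (lift p w ≫ aT.act) ∉ s := fun s p w hs hw h => hw (by
    have := hs p⁻¹ _ h
    rwa [Chev.Borel.resAction_smul, Chev.Borel.resAction_smul, ← GrpAct.mul_smul, GrpObj.inv_comp, inv_mul_cancel,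
      GrpAct.one_smul'] at this)
  let Y : Set X.left := (Set.range φ.left)ᶜ
  have hYc : IsClosed Y := φ.left.isOpenEmbedding.isOpen_range.isClosed_compl
  have hYst : ∀ (p : Chev.RP (Red.DS S₀ M)) (w : Chev.RP X), rpt w ∈ Y → rpt (lift p w ≫ aT.act) ∈ Y :=
    fun p w hw => hcompl _ p w hstφ hw
  have hYsub : Y ⊆ Set.range ψ.left := by
    intro y hy
    by_contra hy'
    obtain ⟨w, ⟨hwφ, hwψ⟩, hwf⟩ := exists_fixed_mem aT (Y := Y ∩ (Set.range ψ.left)ᶜ)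
      (hYc.inter ψ.left.isOpenEmbedding.isOpen_range.isClosed_compl) ⟨y, hy, hy'⟩
      (fun p w hw => ⟨hYst p w hw.1, hcompl _ p w hstψ hw.2⟩)
    rcases hfixed w hwf with rfl | rfl
    · refine hwφ ⟨rpt (1 : Chev.RP U), ?_⟩
      rw [map_rpt, hφpt, MonObj.one_comp, GrpAct.one_smul']
    · refine hwψ ⟨rpt (1 : Chev.RP U), ?_⟩
      rw [map_rpt, hψpt, MonObj.one_comp, _root_.mul_one]
  have hzY : rpt (z ≫ a.orbitMap o) ∈ Y := fun h => hz (by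
    obtain ⟨y, hy⟩ := exists_rp_open φ _ h
    rw [hφpt, horb] at hy
    obtain ⟨q, hq'⟩ := hmem₀ ((y ≫ u)⁻¹ * z) (by
      rw [GrpAct.mul_smul, ← hy, ← GrpAct.mul_smul, inv_mul_cancel, GrpAct.one_smul'])
    exact (key₀ z).2 ⟨y, q, by rw [hq', mul_inv_cancel_left]⟩)
  have hzf := isFixedPt_of_affine_open aT hYc ψ hYsub hYst _ hzY
  rcases hfixed _ hzf with h | h
  · refine absurd ?_ hzY
    rw [h]
    exact ⟨rpt (1 : Chev.RP U), by rw [map_rpt, hφpt, MonObj.one_comp, GrpAct.one_smul']⟩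
  · rw [horb] at h
    obtain ⟨q, hq'⟩ := hmem₀ (n⁻¹ * z) (by
      rw [GrpAct.mul_smul, h, ← GrpAct.mul_smul, inv_mul_cancel, GrpAct.one_smul'])
    exact ⟨q, by rw [hq', mul_inv_cancel_left]⟩

/-- **The complement of the cell.** -/
theorem cell_compl {C : Over S₀} [GrpObj C] [IsAffine C.left] [Smooth C.hom] [ConnectedSpace C.left]
    {M : Type} [AddCommGroup M] [Module.Free ℤ M] [Module.Finite ℤ M] (j : Red.DS S₀ M ⟶ C) [IsMonHom j]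
    (hj : AGF.IsMaxTorus j) (hself : Red.IsCentralizerOf j j) {M' : Type} [AddCommGroup M']
    (π : M →+ M') (m₁ : M) (hm₁ : m₁ ≠ 0) (hπ₁ : π m₁ = 0) (hker : ∀ x, π x = 0 → ∃ l : ℤ, x = l • m₁)
    (hcent : ∀ (n : Chev.RP C) (X : Over S₀) (t : X ⟶ Red.DS S₀ M'),
      (toUnit X ≫ n) * (t ≫ Red.DSmap _ π ≫ j) = (t ≫ Red.DSmap _ π ≫ j) * (toUnit X ≫ n))
    (mu : M →+ ℤ) {B B' : Over S₀} [GrpObj B] [GrpObj B'] {b : B ⟶ C} {b' : B' ⟶ C}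
    (hb : IsP (Red.DSmap S₀ mu ≫ j) b) (hb' : IsP (Red.DSmap S₀ (-mu) ≫ j) b')
    (hB : Red.IsBorelOver k b) (hB' : Red.IsBorelOver k b')
    (hne : ¬ ∃ e : B' ⟶ B, e ≫ b = b') (n : Chev.RP C) (τ : Red.DS S₀ M ≅ Red.DS S₀ M) (σ : B ≅ B')
    (hτ : τ.hom ≫ j = AGF.conjBy n j) (hσ : σ.hom ≫ b' = AGF.conjBy n b) :
    ∃ x : Γ(C.left, ⊤), IsUnit (rp (B := k) (f := 𝟙 S₀) (1 : Chev.RP C) x) ∧
      ∀ z : Chev.RP C, ¬ IsUnit (rp (B := k) (f := 𝟙 S₀) z x) ↔ ∃ q : Chev.RP B, z = n * (q ≫ b) := by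
  obtain ⟨x, -, h⟩ := cell_compl' j hj hself π m₁ hm₁ hπ₁ hker hcent mu hb hb' hB hB' hne n τ σ hτ hσ
  exact ⟨x, h⟩

end Groth.Agent.RootSys
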