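import Groth.Agent.DynPar.Borel
import Groth.Agent.DynPar.LieWt
import Groth.Agent.SubGen.AlgClosed

/-!
# The cell of a one-parameter subgroup at the level of points
-/

set_option autoImplicit false
set_option backward.isDefEq.respectTransparency false
set_option linter.style.haveILetI false
set_option maxHeartbeats 1000000
set_option synthInstance.maxHeartbeats 400000

universe u

open CategoryTheory Limits MonoidalCategory CartesianMonoidalCategory MonObj AlgebraicGeometry LieS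
open scoped CategoryTheory.Obj

noncomputable section

namespace Groth.Agent.RootSys

open Groth.Agent.HomDiag Groth.Agent.DynPar

variable {k : Type u} [Field k]

local notation "S₀" => Spec (CommRingCat.of k)

variable {C : Over (Spec (CommRingCat.of k))} [GrpObj C] [IsAffine C.left] [LocallyOfFiniteType C.hom]

/-- A function whose invertibility characterises the points of the cell, and uniqueness of the decomposition. -/
theorem exists_cell_fn (c c' : Red.DS S₀ ℤ ⟶ C) [IsMonHom c] [IsMonHom c'] (hc : c' = negC c) :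
    ∃ x : Γ(C.left, ⊤),
      (∀ (B : Type u) [CommRing B] (f : Spec (CommRingCat.of B) ⟶ S₀) (g : pt B f ⟶ C),
        IsUnit (rp g x) ↔ ∃ gu gp, gu ∈ USub f c' ∧ gp ∈ PSub f c ∧ gu * gp = g) ∧
      ∀ (B : Type u) [CommRing B] (f : Spec (CommRingCat.of B) ⟶ S₀) (gu gp gu' gp' : pt B f ⟶ C),
        gu ∈ USub f c' → gp ∈ PSub f c → gu' ∈ USub f c' → gp' ∈ PSub f c → gu * gp = gu' * gp' →
          gu = gu' ∧ gp = gp' := by
  subst hc
  haveI : IsAffineHom C.hom := isAffineHom_of_isAffine C.hom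
  obtain ⟨A, _, e, he⟩ := Groth.Agent.FinHopf.exists_hopf (R := CommRingCat.of k) C
  haveI := he
  haveI : IsIso e.hom.left := inferInstanceAs (IsIso ((Over.forget _).map e.hom))
  haveI := finiteType_of_iso e
  obtain ⟨d, -, hd, huniq, -⟩ := Dynamic.exists_cell (lamHom e c) (lamHom_neg e c)
  obtain ⟨x, rfl⟩ := fnE_surjective e d
  refine ⟨x, fun B _ f g => ?_, fun B _ f gu gp gu' gp' h1 h2 h3 h4 h => ?_⟩
  · obtain ⟨φ, rfl⟩ := Spec.map_surjective f
    letI : Algebra k B := φ.hom.toAlgebra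
    obtain ⟨y, rfl⟩ := (ptE e (rfl : fR k B = Spec.map φ)).surjective g
    rw [rp_ptE e rfl y x]
    refine (hd B y).trans ⟨?_, ?_⟩
    · rintro ⟨a, b, ha, hb, rfl⟩
      exact ⟨_, _, (mem_U_iff e (negC c) a).1 ha, (mem_P_iff e c b).1 hb, (map_mul _ _ _).symm⟩
    · rintro ⟨gu, gp, ha, hb, h⟩
      obtain ⟨a, rfl⟩ := (ptE e (rfl : fR k B = Spec.map φ)).surjective gu
      obtain ⟨b, rfl⟩ := (ptE e (rfl : fR k B = Spec.map φ)).surjective gp
      exact ⟨a, b, (mem_U_iff e (negC c) a).2 ha, (mem_P_iff e c b).2 hb,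
        (ptE e (rfl : fR k B = Spec.map φ)).injective (((ptE e (rfl : fR k B = Spec.map φ)).map_mul a b).trans h)⟩
  · obtain ⟨φ, rfl⟩ := Spec.map_surjective f
    letI : Algebra k B := φ.hom.toAlgebra
    obtain ⟨a, rfl⟩ := (ptE e (rfl : fR k B = Spec.map φ)).surjective gu
    obtain ⟨b, rfl⟩ := (ptE e (rfl : fR k B = Spec.map φ)).surjective gp
    obtain ⟨a', rfl⟩ := (ptE e (rfl : fR k B = Spec.map φ)).surjective gu'
    obtain ⟨b', rfl⟩ := (ptE e (rfl : fR k B = Spec.map φ)).surjective gp'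
    replace h := ((ptE e (rfl : fR k B = Spec.map φ)).map_mul a b).trans
      (h.trans ((ptE e (rfl : fR k B = Spec.map φ)).map_mul a' b').symm)
    obtain ⟨rfl, rfl⟩ := huniq B a b a' b' ((mem_U_iff e (negC c) a).2 h1) ((mem_P_iff e c b).2 h2)
      ((mem_U_iff e (negC c) a').2 h3) ((mem_P_iff e c b').2 h4)
      ((ptE e (rfl : fR k B = Spec.map φ)).injective h)
    exact ⟨rfl, rfl⟩

/-- Multiplication is an open immersion onto the non-vanishing locus of the function. -/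
theorem exists_cell_open {P U : Over S₀} [GrpObj P] [GrpObj U] (c c' : Red.DS S₀ ℤ ⟶ C) [IsMonHom c] [IsMonHom c']
    (hc : c' = negC c) {u : U ⟶ C} {p : P ⟶ C} (hu : IsU c' u) (hp : IsP c p) :
    ∃ x : Γ(C.left, ⊤), IsOpenImmersion ((fst U P ≫ u) * (snd U P ≫ p)).left ∧ Mono ((fst U P ≫ u) * (snd U P ≫ p)) ∧
      ∀ (B : Type u) [CommRing B] (f : Spec (CommRingCat.of B) ⟶ S₀) (g : pt B f ⟶ C),
        IsUnit (rp g x) ↔ ∃ y : pt B f ⟶ U ⊗ P, y ≫ ((fst U P ≫ u) * (snd U P ≫ p)) = g := by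
  haveI := hu.1; haveI := hu.2.1; haveI := hp.1; haveI := hp.2.1
  haveI : Mono u := Over.mono_of_mono_left u
  haveI : Mono p := Over.mono_of_mono_left p
  haveI : IsAffineHom C.hom := isAffineHom_of_isAffine C.hom
  obtain ⟨x, hx, huniq⟩ := exists_cell_fn c c' hc
  set m := (fst U P ≫ u) * (snd U P ≫ p) with hm
  have hym : ∀ (T : Over S₀) (y : T ⟶ U ⊗ P), y ≫ m = (y ≫ fst U P) ≫ u * (y ≫ snd U P) ≫ p := fun T y => by
    rw [hm, MonObj.comp_mul, Category.assoc, Category.assoc]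
  haveI hmono : Mono m := by
    refine ⟨fun {T} a b h => hom_ext_pts a b fun B _ f y => ?_⟩
    have h' : (y ≫ a) ≫ m = (y ≫ b) ≫ m := by rw [Category.assoc, h, Category.assoc]
    rw [hym, hym] at h'
    obtain ⟨e1, e2⟩ := huniq B f _ _ _ _ (hu.exists_fac_iff.1 ⟨_, rfl⟩) (hp.exists_fac_iff.1 ⟨_, rfl⟩)
      (hu.exists_fac_iff.1 ⟨_, rfl⟩) (hp.exists_fac_iff.1 ⟨_, rfl⟩) h'
    exact CartesianMonoidalCategory.hom_ext _ _ ((cancel_mono u).1 e1) ((cancel_mono p).1 e2)
  have key : ∀ (B : Type u) [CommRing B] (f : Spec (CommRingCat.of B) ⟶ S₀) (g : pt B f ⟶ C),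
      IsUnit (rp g x) ↔ ∃ y : pt B f ⟶ U ⊗ P, y ≫ m = g := by
    intro B _ f g
    rw [hx]
    refine ⟨fun ⟨gu, gp, h1, h2, h⟩ => ?_, fun ⟨y, hy⟩ => ⟨_, _, hu.exists_fac_iff.1 ⟨_, rfl⟩,
      hp.exists_fac_iff.1 ⟨_, rfl⟩, (hym _ y).symm.trans hy⟩⟩
    obtain ⟨a, rfl⟩ := hu.exists_fac_iff.2 h1
    obtain ⟨b, rfl⟩ := hp.exists_fac_iff.2 h2
    exact ⟨lift a b, by rw [hym, lift_fst, lift_snd, h]⟩
  refine ⟨x, ?_, hmono, key⟩
  -- the basic open
  let L := Localization.Away x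
  let i : Spec (CommRingCat.of L) ⟶ C.left :=
    Spec.map (CommRingCat.ofHom (algebraMap Γ(C.left, ⊤) L)) ≫ C.left.isoSpec.inv
  haveI : IsOpenImmersion (Spec.map (CommRingCat.ofHom (algebraMap Γ(C.left, ⊤) L))) :=
    IsOpenImmersion.of_isLocalization x
  haveI : IsOpenImmersion i := inferInstanceAs (IsOpenImmersion (_ ≫ _))
  let g : pt L (i ≫ C.hom) ⟶ C := Over.homMk i rfl
  haveI : IsOpenImmersion g.left := ‹IsOpenImmersion i›
  haveI : Mono g := Over.mono_of_mono_left g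
  have hg : rp g = algebraMap Γ(C.left, ⊤) L := by
    rw [← rep_left_eq_rp]
    exact Der.rep_eq rfl
  obtain ⟨s, hs⟩ := (key L _ g).1 (by rw [hg]; exact IsLocalization.Away.algebraMap_isUnit x)
  -- the points of the product
  haveI : IsAffine U.left := isAffine_of_isAffineHom u.left
  haveI : IsAffine P.left := isAffine_of_isAffineHom p.left
  haveI : IsAffine (U ⊗ P).left := inferInstanceAs (IsAffine (pullback U.hom P.hom))
  let Q : CommRingCat.{u} := Γ((U ⊗ P).left, ⊤)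
  let j : pt Q ((U ⊗ P).left.isoSpec.inv ≫ (U ⊗ P).hom) ⟶ U ⊗ P := Over.homMk (U ⊗ P).left.isoSpec.inv rfl
  haveI : IsIso j.left := inferInstanceAs (IsIso (U ⊗ P).left.isoSpec.inv)
  haveI : IsIso ((Over.forget _).map j) := ‹IsIso j.left›
  haveI : IsIso j := isIso_of_reflects_iso j (Over.forget _)
  have hunit : IsUnit (rp (j ≫ m) x) := (key Q _ _).2 ⟨j, rfl⟩
  let ψ : L →+* Q := IsLocalization.Away.lift x hunit
  have hψ : Spec.map (CommRingCat.ofHom ψ) ≫ i = (j ≫ m).left := by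
    rw [← Der.specMap_rep (X := C.left) (j ≫ m).left, rep_left_eq_rp, ← Category.assoc, ← Spec.map_comp]
    show Spec.map (CommRingCat.ofHom (ψ.comp (algebraMap Γ(C.left, ⊤) L))) ≫ _ = _
    rw [show ψ.comp (algebraMap Γ(C.left, ⊤) L) = rp (j ≫ m) from IsLocalization.Away.lift_comp x hunit]
  let t : pt Q ((U ⊗ P).left.isoSpec.inv ≫ (U ⊗ P).hom) ⟶ pt L (i ≫ C.hom) :=
    Over.homMk (Spec.map (CommRingCat.ofHom ψ)) (by
      show Spec.map (CommRingCat.ofHom ψ) ≫ i ≫ C.hom = _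
      rw [← Category.assoc, hψ, Over.w (j ≫ m)])
  have ht : t ≫ g = j ≫ m := Over.OverMorphism.ext hψ
  have h1 : t ≫ s = j := by rw [← cancel_mono m, Category.assoc, hs, ht]
  have h2 : s ≫ inv j ≫ t = 𝟙 _ := (cancel_mono g).1 (by
    simp only [Category.assoc, ht, IsIso.inv_hom_id_assoc, hs, Category.id_comp])
  haveI : IsIso (inv j ≫ t) := ⟨s, by rw [Category.assoc, h1, IsIso.inv_hom_id], h2⟩
  haveI : IsIso (inv j ≫ t).left := inferInstanceAs (IsIso ((Over.forget _).map (inv j ≫ t)))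
  have e : m = (inv j ≫ t) ≫ g := by rw [Category.assoc, ht, IsIso.inv_hom_id_assoc]
  rw [e, Over.comp_left]
  infer_instance

end Groth.Agent.RootSys
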