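import Mathlib.Algebra.Group.Subgroup.Basic
import Mathlib.GroupTheory.GroupAction.Defs
import Mathlib.Algebra.BigOperators.Group.List.Basic
import Mathlib.Algebra.Group.Subgroup.Pointwise
import Mathlib.Algebra.Group.Subgroup.Finite
import Mathlib.Data.Nat.Find

/-!
# The deletion condition for groups generated by reflections, abstractly
-/

open Function

namespace Groth.Agent.RootSys

variable {G ι : Type*} [Group G] [MulAction G ι]

/-- Abstract data of simple reflections and positive elements. -/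
structure ReflData (s : ι → G) (pos : ι → Prop) (Δ : Set ι) : Prop where
  mul_self : ∀ i ∈ Δ, s i * s i = 1
  conj : ∀ g ∈ Subgroup.closure (s '' Δ), ∀ i, g * s i * g⁻¹ = s (g • i)
  pos_simple : ∀ i ∈ Δ, pos i
  neg_smul : ∀ g ∈ Subgroup.closure (s '' Δ), ∀ j ∈ Δ, pos (g • s j • j) → ¬ pos (g • j)
  moves : ∀ i ∈ Δ, ∀ j ∈ Δ, ∀ g ∈ Subgroup.closure (s '' Δ), pos (g • j) → ¬ pos (s i • g • j) → g • j = i

namespace ReflData

variable {s : ι → G} {pos : ι → Prop} {Δ : Set ι} (h : ReflData s pos Δ)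

lemma prod_mem {l : List ι} (hl : ∀ a ∈ l, a ∈ Δ) : (l.map s).prod ∈ Subgroup.closure (s '' Δ) := by
  refine Subgroup.list_prod_mem _ fun x hx => ?_
  obtain ⟨a, ha, rfl⟩ := List.mem_map.mp hx
  exact Subgroup.subset_closure ⟨a, hl a ha, rfl⟩

include h

lemma exists_word {g : G} (hg : g ∈ Subgroup.closure (s '' Δ)) :
    ∃ l : List ι, (∀ a ∈ l, a ∈ Δ) ∧ (l.map s).prod = g := by
  refine Subgroup.closure_induction_left (p := fun g _ => ∃ l : List ι, (∀ a ∈ l, a ∈ Δ) ∧ (l.map s).prod = g)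
    ⟨[], by simp, rfl⟩ ?_ ?_ hg
  · rintro x ⟨i, hi, rfl⟩ y _ ⟨l, hl, rfl⟩
    exact ⟨i :: l, by simp [hi]; exact hl, by simp⟩
  · rintro x ⟨i, hi, rfl⟩ y _ ⟨l, hl, rfl⟩
    refine ⟨i :: l, by simp [hi]; exact hl, ?_⟩
    rw [List.map_cons, List.prod_cons, inv_eq_of_mul_eq_one_left (h.mul_self i hi)]

/-- If a word sends a simple element to a negative one, a letter can be moved to the end. -/
lemma exists_delete {j : ι} (hj : j ∈ Δ) : ∀ {l : List ι}, (∀ a ∈ l, a ∈ Δ) → ¬ pos ((l.map s).prod • j) →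
    ∃ l' : List ι, (∀ a ∈ l', a ∈ Δ) ∧ l'.length + 1 = l.length ∧ (l'.map s).prod = (l.map s).prod * s j
  | [], _, hn => absurd (by simpa using h.pos_simple j hj) hn
  | i :: t, hl, hn => by
    have hi : i ∈ Δ := hl i (List.mem_cons_self)
    have ht : ∀ a ∈ t, a ∈ Δ := fun a ha => hl a (List.mem_cons_of_mem _ ha)
    rw [List.map_cons, List.prod_cons, mul_smul] at hn
    by_cases hp : pos ((t.map s).prod • j)
    · have e := h.moves i hi j hj _ (prod_mem ht) hp hn
      refine ⟨t, ht, rfl, ?_⟩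
      have c := h.conj _ (prod_mem ht) j
      rw [e] at c
      rw [List.map_cons, List.prod_cons, ← c, inv_mul_cancel_right, mul_assoc, h.mul_self j hj, mul_one]
    · obtain ⟨l', h1, h2, h3⟩ := exists_delete hj ht hp
      exact ⟨i :: l', by simp [hi]; exact h1, by simp [h2], by simp [h3, mul_assoc]⟩

lemma neg_last_of_minimal {l : List ι} (hl : ∀ a ∈ l, a ∈ Δ) (hne : l ≠ [])
    (hmin : ∀ l' : List ι, (∀ a ∈ l', a ∈ Δ) → (l'.map s).prod = (l.map s).prod → l.length ≤ l'.length) :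
    ¬ pos ((l.map s).prod • l.getLast hne) := by
  intro hp
  obtain ⟨t, hl2⟩ : ∃ t, t ++ [l.getLast hne] = l := ⟨_, List.dropLast_append_getLast hne⟩
  generalize hj : l.getLast hne = j at hp hl2
  subst hl2
  have hjΔ : j ∈ Δ := hl j (by simp)
  have ht : ∀ a ∈ t, a ∈ Δ := fun a ha => hl a (by simp [ha])
  simp only [List.map_append, List.map_cons, List.map_nil, List.prod_append, List.prod_cons, List.prod_nil,
    mul_one, mul_smul] at hp hmin
  have hn : ¬ pos ((t.map s).prod • j) := h.neg_smul _ (prod_mem ht) j hjΔ hp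
  obtain ⟨l', h1, h2, h3⟩ := h.exists_delete hjΔ ht hn
  have := hmin l' h1 h3
  simp at this
  omega

/-- An element keeping all simple elements positive is trivial. -/
lemma eq_one_of_pos {g : G} (hg : g ∈ Subgroup.closure (s '' Δ)) (hpos : ∀ j ∈ Δ, pos (g • j)) : g = 1 := by
  classical
  have hex : ∃ n : ℕ, ∃ l : List ι, (∀ a ∈ l, a ∈ Δ) ∧ (l.map s).prod = g ∧ l.length = n :=
    let ⟨l, hl, he⟩ := h.exists_word hg; ⟨_, l, hl, he, rfl⟩
  obtain ⟨l, hl, he, hlen⟩ := Nat.find_spec hex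
  rcases eq_or_ne l [] with rfl | hne
  · simpa using he.symm
  refine absurd (he ▸ hpos _ (hl _ (List.getLast_mem hne))) (h.neg_last_of_minimal hl hne fun l' h1 h2 => ?_)
  exact hlen ▸ Nat.find_min' hex ⟨l', h1, h2.trans he, rfl⟩

end ReflData

end Groth.Agent.RootSys
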