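import Groth.Agent.RootSys.Existence
import Groth.Agent.RootSys.Deletion

/-!
# The Weyl group of an integral root datum, positive systems and systems of simple roots
-/

noncomputable section
open Function Set

namespace Groth.Agent.RootSys

variable {ι M N : Type*} [AddCommGroup M] [AddCommGroup N] {P : RootPairing ι ℤ M N}

/-- The reflection in a root, as an automorphism. -/
abbrev refl (P : RootPairing ι ℤ M N) (i : ι) : P.Aut := RootPairing.Equiv.reflection P i

lemma natSpan_smul (g : P.Aut) {S : Set ι} {x : M} (h : x ∈ RootD.natSpan P S) :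
    g • x ∈ RootD.natSpan P ((fun i => g • i) '' S) := by
  obtain ⟨s, hs, rfl⟩ := natSpan_iff.mp h
  refine natSpan_iff.mpr ⟨s.map (fun i => g • i), fun a ha => ?_, ?_⟩
  · obtain ⟨b, hb, rfl⟩ := Multiset.mem_map.mp ha
    exact ⟨b, hs b hb, rfl⟩
  · show ((s.map fun i => g • i).map P.root).sum = g • (s.map P.root).sum
    rw [Multiset.smul_sum, Multiset.map_map, Multiset.map_map]
    simp only [Function.comp_def, root_smul]

lemma isSimpleSys_image (g : P.Aut) {Δ : Set ι} (hΔ : RootD.IsSimpleSys P Δ) :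
    RootD.IsSimpleSys P ((fun i => g • i) '' Δ) := by
  refine ⟨?_, fun i => ?_⟩
  · have hl := hΔ.linInd
    refine linearIndepOn_iff.mpr fun l hl' h0 => ?_
    let l' : ι →₀ ℤ := l.mapDomain (fun i => g⁻¹ • i)
    have hs : l' ∈ Finsupp.supported ℤ ℤ Δ := fun a ha => by
      classical
      obtain ⟨b, hb, rfl⟩ := Finset.mem_image.mp (Finsupp.mapDomain_support ha)
      obtain ⟨c, hc, rfl⟩ := hl' hb
      simpa using hc
    have h1 : Finsupp.linearCombination ℤ P.root l' = g⁻¹ • Finsupp.linearCombination ℤ P.root l := by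
      simp only [l', Finsupp.linearCombination_mapDomain]
      simp only [Finsupp.linearCombination_apply, Finsupp.sum, Finset.smul_sum, Function.comp_apply, root_smul,
        smul_comm g⁻¹]
    have h2 := linearIndepOn_iff.mp hl l' hs (by rw [h1, h0, smul_zero])
    exact Finsupp.mapDomain_injective (MulAction.injective g⁻¹) (h2.trans (Finsupp.mapDomain_zero).symm)
  · rcases hΔ.mem_or_neg_mem (g⁻¹ • i) with h | h
    · exact Or.inl (by simpa [root_smul] using natSpan_smul g h)
    · exact Or.inr (by simpa [root_smul] using natSpan_smul g h)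

lemma isPosSys_image [Finite ι] (g : P.Aut) {S : Set ι} (hS : RootD.IsPosSys P S) :
    RootD.IsPosSys P ((fun i => g • i) '' S) := by
  obtain ⟨hd, hc, hcl⟩ := (isPosSys_iff S).mp hS
  rw [show (fun i => g • i) '' S = {k | g⁻¹ • k ∈ S} from
    Set.ext fun k => ⟨fun ⟨a, ha, e⟩ => by simpa [← e] using ha, fun hk => ⟨_, hk, smul_inv_smul g k⟩⟩]
  exact (isPosSys_iff _).mpr ⟨fun i hi h => hd _ hi (by simpa [smul_opp] using h),
    fun i => by simpa [smul_opp] using hc (g⁻¹ • i), isClosedSub_preimage hcl g⁻¹⟩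

lemma isIndiv_smul (g : P.Aut) {i : ι} (h : RootD.IsIndiv P i) : RootD.IsIndiv P (g • i) := fun j hj =>
  h (g⁻¹ • j) (by rw [root_smul, smul_comm, hj, root_smul, inv_smul_smul])

variable {Δ : Set ι} (hΔ : RootD.IsSimpleSys P Δ)
include hΔ

lemma eq_of_pos_neg [Finite ι] {i k : ι} (hi : i ∈ Δ) (hk : k ∈ RootD.posOf P Δ)
    (hneg : refl P i • k ∉ RootD.posOf P Δ) : k = i ∨ P.root k = (2 : ℤ) • P.root i :=
  eq_or_eq_two_smul_of_coef hΔ hi hk fun a ha => by
    by_contra h
    exact hneg (mem_posOf_reflection hΔ hi hk ha h)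

lemma eq_of_pos_neg_of_indiv [Finite ι] {i k : ι} (hi : i ∈ Δ) (hk : k ∈ RootD.posOf P Δ)
    (hind : RootD.IsIndiv P k) (hneg : refl P i • k ∉ RootD.posOf P Δ) : k = i :=
  (eq_of_pos_neg hΔ hi hk hneg).resolve_right fun h => hind i h.symm

lemma reflData [Finite ι] : ReflData (refl P) (fun k => k ∈ RootD.posOf P Δ) Δ where
  mul_self i _ := reflection_mul_self i
  conj g _ i := conj_reflection g i
  pos_simple i hi := simple_mem_posOf hΔ hi
  neg_smul g _ j _ hp h := by
    rw [reflection_smul_self, smul_opp] at hp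
    exact (opp_mem_posOf_iff hΔ _).mp hp h
  moves i hi j hj g _ hp hn := eq_of_pos_neg_of_indiv hΔ hi hp (isIndiv_smul g (isIndiv_of_mem hΔ hj)) hn

omit hΔ in
lemma closure_le_weylGroup (S : Set ι) : Subgroup.closure (refl P '' S) ≤ P.weylGroup :=
  Subgroup.closure_mono (Set.image_subset_range _ _)

/-- Every indivisible root is conjugate to a simple one by simple reflections. -/
theorem exists_conj_simple [Finite ι] {k : ι} (hk : RootD.IsIndiv P k) :
    ∃ g ∈ Subgroup.closure (refl P '' Δ), ∃ i ∈ Δ, g • i = k := by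
  have hpos : ∀ k, RootD.IsIndiv P k → k ∈ RootD.posOf P Δ →
      ∃ g ∈ Subgroup.closure (refl P '' Δ), ∃ i ∈ Δ, g • i = k := by
    intro k
    induction hn : (ht hΔ k).toNat using Nat.strong_induction_on generalizing k with
    | h n ih =>
      intro hk hkp
      by_cases hkΔ : k ∈ Δ
      · exact ⟨1, one_mem _, k, hkΔ, one_smul _ k⟩
      obtain ⟨i, hi, -, hp⟩ := exists_simple_pairing_pos hΔ hkp
      by_cases hneg : refl P i • k ∈ RootD.posOf P Δ
      · obtain ⟨g, hg, j, hj, e⟩ := ih _ (by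
          rw [← hn, ht_reflection hΔ hi]
          have := (mem_posOf_iff_ht hΔ k).mp hkp
          omega) (refl P i • k) rfl (isIndiv_smul _ hk) hneg
        refine ⟨refl P i * g, mul_mem (Subgroup.subset_closure ⟨i, hi, rfl⟩) hg, j, hj, ?_⟩
        rw [mul_smul, e, ← mul_smul, reflection_mul_self, one_smul]
      · exact absurd (eq_of_pos_neg_of_indiv hΔ hi hkp hk hneg ▸ hi) hkΔ
  by_cases hkp : k ∈ RootD.posOf P Δ
  · exact hpos k hk hkp
  · obtain ⟨g, hg, i, hi, e⟩ := hpos (opp P k)
      (isIndiv_smul (refl P k) hk) ((opp_mem_posOf_iff hΔ k).mpr hkp)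
    refine ⟨g * refl P i, mul_mem hg (Subgroup.subset_closure ⟨i, hi, rfl⟩), i, hi, ?_⟩
    rw [mul_smul, reflection_smul_self, smul_opp, e, opp_opp]

theorem closure_eq_weylGroup [Finite ι] : Subgroup.closure (refl P '' Δ) = P.weylGroup := by
  refine le_antisymm (closure_le_weylGroup Δ) ?_
  rw [RootPairing.weylGroup, Subgroup.closure_le]
  rintro _ ⟨k, rfl⟩
  have hind : ∀ k, RootD.IsIndiv P k → refl P k ∈ Subgroup.closure (refl P '' Δ) := fun k hk => by
    obtain ⟨g, hg, i, hi, rfl⟩ := exists_conj_simple hΔ hk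
    show RootPairing.Equiv.reflection P (g • i) ∈ Subgroup.closure (refl P '' Δ)
    rw [← conj_reflection]
    exact mul_mem (mul_mem hg (Subgroup.subset_closure ⟨i, hi, rfl⟩)) (inv_mem hg)
  by_cases hk : RootD.IsIndiv P k
  · exact hind k hk
  · simp only [RootD.IsIndiv, not_forall, not_not] at hk
    obtain ⟨j, hj⟩ := hk
    have hj' : RootD.IsIndiv P j := fun l hl => by
      have h1 : P.pairing k l = 8 := by
        rw [← P.root_coroot'_eq_pairing, ← hj, ← hl, smul_smul, map_zsmul, P.root_coroot'_eq_pairing,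
          P.pairing_same]
        norm_num
      have h2 : P.pairing l k * 4 = 2 := by
        rw [← P.pairing_same k, ← P.root_coroot'_eq_pairing k k, ← hj, ← hl, smul_smul, map_zsmul,
          P.root_coroot'_eq_pairing]
        simp [mul_comm]
      omega
    exact (reflection_double hj.symm).symm ▸ hind j hj'

lemma eq_one_of_mapsTo [Finite ι] {g : P.Aut} (hg : g ∈ P.weylGroup)
    (h : ∀ j ∈ Δ, g • j ∈ RootD.posOf P Δ) : g = 1 :=
  (reflData hΔ).eq_one_of_pos (closure_eq_weylGroup hΔ ▸ hg) h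

omit hΔ in
/-- A positive system can be moved into any closed set meeting all pairs of opposite roots. -/
theorem exists_image_subset [Finite ι] {T : Set ι} (hT2 : ∀ i, i ∈ T ∨ opp P i ∈ T)
    (hT : RootD.IsClosedSub P T) : ∀ {S : Set ι}, RootD.IsPosSys P S →
      ∃ g ∈ P.weylGroup, (fun i => g • i) '' S ⊆ T := by
  intro S
  induction hn : (S \ T).ncard using Nat.strong_induction_on generalizing S with
  | h n ih =>
    intro hS
    have hΔ := isSimpleSys_simpleOf hS
    by_cases hsub : simpleOf P S ⊆ T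
    · refine ⟨1, one_mem _, ?_⟩
      rw [← posOf_simpleOf hS]
      exact fun x ⟨a, ha, e⟩ => e ▸ (one_smul P.Aut a).symm ▸ posOf_subset hΔ hT hsub ha
    obtain ⟨i, hi, hiT⟩ := Set.not_subset.mp hsub
    have hoi : opp P i ∈ T := (hT2 i).resolve_left hiT
    have key : (fun a => refl P i • a) '' S \ T ⊆ (S \ T) \ {i} := by
      rintro x ⟨⟨a, ha, rfl⟩, hxT⟩
      have hxS : refl P i • a ∈ S := by
        by_contra hx
        have ha' : a ∈ RootD.posOf P (simpleOf P S) := by rw [posOf_simpleOf hS]; exact ha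
        rcases eq_of_pos_neg hΔ hi ha' (by rw [posOf_simpleOf hS]; exact hx) with rfl | h2
        · exact hxT hoi
        · refine hxT (hT hoi hoi ?_)
          rw [root_reflection_smul, h2, root_opp,
            show P.pairing a i = 4 by rw [← P.root_coroot'_eq_pairing, h2, map_zsmul,
              P.root_coroot'_eq_pairing, P.pairing_same]; rfl]
          module
      refine ⟨⟨hxS, hxT⟩, fun h => ?_⟩
      have e : refl P i • a = i := h
      have e2 := congr_arg (refl P i • ·) e
      simp only [← mul_smul, reflection_mul_self, one_smul, reflection_smul_self] at e2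
      exact hS.disjoint hi.1 (show opp P i ∈ S by rw [← e2]; exact ha)
    obtain ⟨g, hg, hgsub⟩ := ih _ (hn ▸ lt_of_le_of_lt (Set.ncard_le_ncard key (Set.toFinite _))
      (Set.ncard_sdiff_singleton_lt_of_mem ⟨hi.1, hiT⟩ (Set.toFinite _))) rfl (isPosSys_image (refl P i) hS)
    refine ⟨g * refl P i, mul_mem hg (P.reflection_mem_weylGroup i), ?_⟩
    rintro _ ⟨a, ha, rfl⟩
    exact hgsub ⟨_, ⟨a, ha, rfl⟩, (mul_smul _ _ _).symm⟩

omit hΔ in
theorem exists_image_eq [Finite ι] {S T : Set ι} (hS : RootD.IsPosSys P S) (hT : RootD.IsPosSys P T) :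
    ∃ g ∈ P.weylGroup, (fun i => g • i) '' S = T := by
  obtain ⟨g, hg, hsub⟩ := exists_image_subset hT.cover (IsPosSys.closed hT) hS
  refine ⟨g, hg, Set.Subset.antisymm hsub fun k hk => ?_⟩
  rcases hS.cover (g⁻¹ • k) with h | h
  · exact ⟨_, h, smul_inv_smul g k⟩
  · exfalso
    refine hT.disjoint hk (hsub ⟨_, h, ?_⟩)
    show g • opp P (g⁻¹ • k) = _
    rw [smul_opp, smul_inv_smul]

theorem exists_image_simple [Finite ι] {Δ' : Set ι} (hΔ' : RootD.IsSimpleSys P Δ') :
    ∃ g ∈ P.weylGroup, (fun i => g • i) '' Δ = Δ' := by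
  obtain ⟨g, hg, e⟩ := exists_image_eq (isPosSys_posOf hΔ) (isPosSys_posOf hΔ')
  refine ⟨g, hg, (existsUnique_simpleSys (isPosSys_posOf hΔ')).unique ⟨isSimpleSys_image g hΔ, ?_⟩
    ⟨hΔ', fun i hi => simple_mem_posOf hΔ' hi⟩⟩
  rw [← e]
  exact Set.image_mono fun i hi => simple_mem_posOf hΔ hi

theorem existsUnique_weyl_stabilizer [Finite ι] (u : P.Aut) :
    ∃! w : P.weylGroup, (fun i : ι => ((w : P.Aut)⁻¹ * u) • i) '' Δ = Δ := by
  obtain ⟨g, hg, e⟩ := exists_image_simple hΔ (isSimpleSys_image u hΔ)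
  refine ⟨⟨g, hg⟩, ?_, fun w hw => ?_⟩
  · show (fun i => (g⁻¹ * u) • i) '' Δ = Δ
    conv_rhs => rw [← show (fun i => g⁻¹ • i) '' ((fun i => u • i) '' Δ) = Δ by
      rw [← e, Set.image_image]; simp]
    rw [Set.image_image]
    simp only [mul_smul]
  · refine Subtype.ext ?_
    have h : (w : P.Aut)⁻¹ * g = 1 := by
      refine eq_one_of_mapsTo hΔ (mul_mem (inv_mem w.2) hg) fun j hj => ?_
      obtain ⟨a, ha, ea⟩ : g • j ∈ (fun i => u • i) '' Δ := e ▸ ⟨j, hj, rfl⟩
      refine simple_mem_posOf hΔ (hw ▸ ⟨a, ha, ?_⟩)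
      show ((w : P.Aut)⁻¹ * u) • a = ((w : P.Aut)⁻¹ * g) • j
      rw [mul_smul, mul_smul]
      exact congrArg _ ea
    exact inv_mul_eq_one.mp h

end Groth.Agent.RootSys
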