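import Groth.Agent.RootSys.Deletion
import Mathlib.Algebra.Group.Nat.Even
import Mathlib.Tactic.Group

/-!
# Words in the simple reflections: a map satisfying the braid relations factors through the group
-/

open Function

namespace Groth.Agent.RootSys

/-- The letter at a place of an alternating word. -/
def altLetter {ι : Type*} (i j : ι) (k : ℕ) : ι := if Even k then i else j

/-- The alternating word of a given length. -/
def altWord {ι : Type*} (i j : ι) : ℕ → List ι
  | 0 => []
  | k + 1 => i :: altWord j i k

theorem altWord_succ {ι : Type*} : ∀ (k : ℕ) (i j : ι), altWord i j (k + 1) = altWord i j k ++ [altLetter i j k]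
  | 0, i, j => by simp [altWord, altLetter]
  | k + 1, i, j => by
    conv_lhs => rw [altWord, altWord_succ k j i]
    conv_rhs => rw [altWord]
    simp only [List.cons_append, altLetter, Nat.even_add_one]
    by_cases h : Even k <;> simp [h]

theorem length_altWord {ι : Type*} : ∀ (k : ℕ) (i j : ι), (altWord i j k).length = k
  | 0, _, _ => rfl
  | k + 1, i, j => by simp [altWord, length_altWord k]

theorem mem_altWord {ι : Type*} : ∀ (k : ℕ) (i j : ι), ∀ x ∈ altWord i j k, x = i ∨ x = j
  | 0, _, _, _, h => by simp [altWord] at h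
  | k + 1, i, j, x, h => by
    rcases List.mem_cons.1 (by simpa [altWord] using h) with rfl | h
    · exact Or.inl rfl
    · exact (mem_altWord k j i x h).symm

/-- The relations of two involutions. -/
theorem alt_eq_of_pow {ι K : Type*} [Group K] (f : ι → K) {i j : ι} {m : ℕ} (hm : m = 2 ∨ m = 3 ∨ m = 4 ∨ m = 6)
    (hi : f i * f i = 1) (hj : f j * f j = 1) (h : (f i * f j) ^ m = 1) :
    ((altWord i j m).map f).prod = ((altWord j i m).map f).prod := by
  have ei : (f i)⁻¹ = f i := inv_eq_of_mul_eq_one_right hi
  have ej : (f j)⁻¹ = f j := inv_eq_of_mul_eq_one_right hj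
  rcases hm with rfl | rfl | rfl | rfl <;>
    simp only [altWord, List.map_cons, List.map_nil, List.prod_cons, List.prod_nil, mul_one]
  · calc f i * f j = (f i * f j) ^ 2 * ((f j)⁻¹ * (f i)⁻¹) := by simp only [pow_succ, pow_zero]; group
      _ = _ := by rw [h, one_mul, ei, ej]
  · calc f i * (f j * f i) = (f i * f j) ^ 3 * ((f j)⁻¹ * ((f i)⁻¹ * (f j)⁻¹)) := by
          simp only [pow_succ, pow_zero]; group
      _ = _ := by rw [h, one_mul, ei, ej]
  · calc f i * (f j * (f i * f j))
        = (f i * f j) ^ 4 * ((f j)⁻¹ * ((f i)⁻¹ * ((f j)⁻¹ * (f i)⁻¹))) := by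
          simp only [pow_succ, pow_zero]; group
      _ = _ := by rw [h, one_mul, ei, ej]
  · calc f i * (f j * (f i * (f j * (f i * f j))))
        = (f i * f j) ^ 6 * ((f j)⁻¹ * ((f i)⁻¹ * ((f j)⁻¹ * ((f i)⁻¹ * ((f j)⁻¹ * (f i)⁻¹))))) := by
          simp only [pow_succ, pow_zero]; group
      _ = _ := by rw [h, one_mul, ei, ej]

namespace ReflData

variable {G ι : Type*} [Group G] [MulAction G ι] {s : ι → G} {pos : ι → Prop} {Δ : Set ι} (h : ReflData s pos Δ)

/-- A word with no shorter word for the same element. -/
def Reduced (s : ι → G) (Δ : Set ι) (l : List ι) : Prop :=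
  (∀ a ∈ l, a ∈ Δ) ∧ ∀ l' : List ι, (∀ a ∈ l', a ∈ Δ) → (l'.map s).prod = (l.map s).prod → l.length ≤ l'.length

theorem exists_reduced (s : ι → G) (Δ : Set ι) {l : List ι} (hl : ∀ a ∈ l, a ∈ Δ) :
    ∃ l', Reduced s Δ l' ∧ (l'.map s).prod = (l.map s).prod ∧ l'.length ≤ l.length := by
  induction hn : l.length using Nat.strong_induction_on generalizing l with
  | h n ih =>
    by_cases hr : ∀ l' : List ι, (∀ a ∈ l', a ∈ Δ) → (l'.map s).prod = (l.map s).prod → l.length ≤ l'.length
    · exact ⟨l, ⟨hl, hr⟩, rfl, hn.le⟩
    · push Not at hr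
      obtain ⟨l', h1, h2, h3⟩ := hr
      obtain ⟨l'', h4, h5, h6⟩ := ih l'.length (by omega) h1 rfl
      exact ⟨l'', h4, h5.trans h2, by omega⟩

theorem Reduced.tail {i : ι} {l : List ι} (hr : Reduced s Δ (i :: l)) : Reduced s Δ l :=
  ⟨fun a ha => hr.1 a (List.mem_cons_of_mem _ ha), fun l' h1 h2 => by
    have := hr.2 (i :: l') (fun a ha => by
      rcases List.mem_cons.1 ha with rfl | ha
      exacts [hr.1 _ List.mem_cons_self, h1 a ha]) (by simp [h2])
    simpa using this⟩

theorem Reduced.dropLast {i : ι} {l : List ι} (hr : Reduced s Δ (l ++ [i])) : Reduced s Δ l :=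
  ⟨fun a ha => hr.1 a (List.mem_append_left _ ha), fun l' h1 h2 => by
    have := hr.2 (l' ++ [i]) (fun a ha => by
      rcases List.mem_append.1 ha with ha | ha
      exacts [h1 a ha, List.mem_singleton.1 ha ▸ hr.1 i (by simp)]) (by simp [h2])
    simpa using this⟩

include h

theorem prod_reverse {l : List ι} (hl : ∀ a ∈ l, a ∈ Δ) : (l.reverse.map s).prod = ((l.map s).prod)⁻¹ := by
  induction l with
  | nil => simp
  | cons a t ih =>
    have e : (s a)⁻¹ = s a := inv_eq_of_mul_eq_one_right (h.mul_self a (hl a List.mem_cons_self))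
    rw [List.reverse_cons, List.map_append, List.prod_append, ih fun x hx => hl x (List.mem_cons_of_mem _ hx)]
    simp [e]

theorem Reduced.reverse {l : List ι} (hr : Reduced s Δ l) : Reduced s Δ l.reverse :=
  ⟨fun a ha => hr.1 a (List.mem_reverse.1 ha), fun l' h1 h2 => by
    rw [h.prod_reverse hr.1] at h2
    have := hr.2 l'.reverse (fun a ha => h1 a (List.mem_reverse.1 ha)) (by rw [h.prod_reverse h1, h2, inv_inv])
    simpa using this⟩

/-- The first letter of a reduced word is a descent. -/
theorem neg_of_reduced_cons {i : ι} {l : List ι} (hr : Reduced s Δ (i :: l)) :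
    ¬ pos (((i :: l).map s).prod⁻¹ • i) := by
  have hr' := Reduced.reverse h hr
  have h1 := h.neg_last_of_minimal hr'.1 (by simp) hr'.2
  rw [h.prod_reverse hr.1] at h1
  simpa using h1

/-- A descent can be made the first letter. -/
theorem exists_cons {i : ι} (hi : i ∈ Δ) {t : List ι} (ht : ∀ a ∈ t, a ∈ Δ) (hn : ¬ pos ((t.map s).prod⁻¹ • i)) :
    ∃ t' : List ι, (∀ a ∈ t', a ∈ Δ) ∧ t'.length + 1 = t.length ∧ s i * (t'.map s).prod = (t.map s).prod := by
  rw [← h.prod_reverse ht] at hn
  obtain ⟨r, h1, h2, h3⟩ := h.exists_delete hi (l := t.reverse) (fun a ha => ht a (List.mem_reverse.1 ha)) hn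
  refine ⟨r.reverse, fun a ha => h1 a (List.mem_reverse.1 ha), by simpa using h2, ?_⟩
  have e : s i * s i = 1 := h.mul_self i hi
  rw [h.prod_reverse h1, h3, h.prod_reverse ht, mul_inv_rev, inv_inv, ← mul_assoc, mul_inv_cancel, one_mul]

/-- Two descents give an alternating prefix. -/
theorem exists_alt_prefix {i j : ι} (hi : i ∈ Δ) (hj : j ∈ Δ) {m : ℕ}
    (hplane : ∀ g ∈ Subgroup.closure (s '' Δ), ¬ pos (g • i) → ¬ pos (g • j) → ∀ k < m,
      ¬ pos (g • ((altWord i j k).map s).prod • altLetter i j k))
    {l : List ι} (hr : Reduced s Δ l) (hni : ¬ pos ((l.map s).prod⁻¹ • i)) (hnj : ¬ pos ((l.map s).prod⁻¹ • j)) :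
    ∀ k ≤ m, ∃ t : List ι, Reduced s Δ (altWord i j k ++ t) ∧
      ((altWord i j k ++ t).map s).prod = (l.map s).prod ∧ (altWord i j k ++ t).length = l.length
  | 0, _ => ⟨l, by simpa [altWord] using hr, by simp [altWord], by simp [altWord]⟩
  | k + 1, hk => by
    obtain ⟨t, ht, hp, hlen⟩ := exists_alt_prefix hi hj hplane hr hni hnj k (by omega)
    have hc : altLetter i j k ∈ Δ := by unfold altLetter; split <;> assumption
    have hn := hplane _ (inv_mem (prod_mem hr.1)) hni hnj k (by omega)
    rw [← mul_smul] at hn
    have e : ((l.map s).prod)⁻¹ * ((altWord i j k).map s).prod = ((t.map s).prod)⁻¹ := by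
      rw [← hp, List.map_append, List.prod_append, mul_inv_rev, inv_mul_cancel_right]
    rw [e] at hn
    obtain ⟨t', h1, h2, h3⟩ := h.exists_cons hc (fun a ha => ht.1 a (List.mem_append_right _ ha)) hn
    have hp' : ((altWord i j (k + 1) ++ t').map s).prod = (l.map s).prod := by
      rw [altWord_succ, ← hp]
      simp [mul_assoc, h3]
    have hlen' : (altWord i j (k + 1) ++ t').length = l.length := by
      rw [← hlen]
      simp [length_altWord]
      omega
    refine ⟨t', ⟨fun a ha => ?_, fun l' h4 h5 => ?_⟩, hp', hlen'⟩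
    · rcases List.mem_append.1 ha with ha | ha
      · rcases mem_altWord _ i j a ha with rfl | rfl <;> assumption
      · exact h1 a ha
    · rw [hlen']; exact hr.2 l' h4 (h5.trans hp')

/-- **A map satisfying the relations of pairs of simple reflections depends only on the product.** -/
theorem prod_map_eq {K : Type*} [Group K] (f : ι → K) (hsq : ∀ i ∈ Δ, f i * f i = 1)
    (hbr : ∀ i ∈ Δ, ∀ j ∈ Δ, i ≠ j → ∃ m, 1 ≤ m ∧
      ((altWord i j m).map s).prod = ((altWord j i m).map s).prod ∧
      ((altWord i j m).map f).prod = ((altWord j i m).map f).prod ∧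
      ∀ g ∈ Subgroup.closure (s '' Δ), ¬ pos (g • i) → ¬ pos (g • j) → ∀ k < m,
        ¬ pos (g • ((altWord i j k).map s).prod • altLetter i j k))
    {l l' : List ι} (hl : ∀ a ∈ l, a ∈ Δ) (hl' : ∀ a ∈ l', a ∈ Δ) (he : (l.map s).prod = (l'.map s).prod) :
    (l.map f).prod = (l'.map f).prod := by
  have key : ∀ (n : ℕ) (p q : List ι), p.length = n → Reduced s Δ p → Reduced s Δ q →
      (p.map s).prod = (q.map s).prod → (p.map f).prod = (q.map f).prod := by
    intro n
    induction n with
    | zero =>
      intro p q hp _ hq he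
      obtain rfl := List.length_eq_zero_iff.1 hp
      obtain rfl : q = [] := List.length_eq_zero_iff.1 (Nat.le_zero.1 (hq.2 [] (by simp) he))
      rfl
    | succ n ih =>
      intro p q hp hrp hrq he
      have hq : q.length = n + 1 := le_antisymm (hp ▸ hrq.2 p hrp.1 he) (hp ▸ hrp.2 q hrq.1 he.symm)
      obtain ⟨i, u, rfl⟩ : ∃ i u, p = i :: u := List.exists_cons_of_ne_nil (by rintro rfl; simp at hp)
      obtain ⟨j, v, rfl⟩ : ∃ j v, q = j :: v := List.exists_cons_of_ne_nil (by rintro rfl; simp at hq)
      simp only [List.length_cons, Nat.add_right_cancel_iff] at hp hq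
      have hcancel : ∀ (x : ι) (a b : List ι), a.length = n → Reduced s Δ (x :: a) → Reduced s Δ (x :: b) →
          ((x :: a).map s).prod = ((x :: b).map s).prod → ((x :: a).map f).prod = ((x :: b).map f).prod := by
        intro x a b ha hra hrb hab
        simp only [List.map_cons, List.prod_cons] at hab ⊢
        rw [ih a b ha hra.tail hrb.tail (mul_left_cancel hab)]
      by_cases hij : i = j
      · subst hij
        exact hcancel i u v hp hrp hrq he
      have hi : i ∈ Δ := hrp.1 i List.mem_cons_self
      have hj : j ∈ Δ := hrq.1 j List.mem_cons_self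
      have hni := h.neg_of_reduced_cons hrp
      have hnj := h.neg_of_reduced_cons hrq
      rw [← he] at hnj
      obtain ⟨m, hm, hs, hf, hplane⟩ := hbr i hi j hj hij
      obtain ⟨t, ht, htp, htl⟩ := h.exists_alt_prefix hi hj hplane hrp hni hnj m le_rfl
      obtain ⟨m, rfl⟩ : ∃ m', m = m' + 1 := ⟨m - 1, by omega⟩
      have hqp : ((altWord j i (m + 1) ++ t).map s).prod = ((j :: v).map s).prod := by
        rw [← he, ← htp, List.map_append, List.prod_append, List.map_append, List.prod_append, hs]
      have htl' : (altWord j i (m + 1) ++ t).length = n + 1 := by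
        simp only [List.length_append, length_altWord, List.length_cons] at htl ⊢
        omega
      have hrq' : Reduced s Δ (altWord j i (m + 1) ++ t) := ⟨fun a ha => by
          rcases List.mem_append.1 ha with ha | ha
          · rcases mem_altWord _ j i a ha with rfl | rfl <;> assumption
          · exact ht.1 a (List.mem_append_right _ ha),
        fun l' h1 h2 => by
          rw [htl']
          have := hrq.2 l' h1 (h2.trans hqp)
          simpa [hq] using this⟩
      calc ((i :: u).map f).prod = ((altWord i j (m + 1) ++ t).map f).prod := by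
            simp only [altWord, List.cons_append] at ht htp htl ⊢
            exact hcancel i u _ hp hrp ht htp.symm
        _ = ((altWord j i (m + 1) ++ t).map f).prod := by
            rw [List.map_append, List.prod_append, List.map_append, List.prod_append, hf]
        _ = ((j :: v).map f).prod := by
            simp only [altWord, List.cons_append] at hrq' hqp htl' ⊢
            exact hcancel j _ v (by simpa using htl') hrq' hrq hqp
  have main : ∀ (l : List ι), (∀ a ∈ l, a ∈ Δ) → ∀ r, Reduced s Δ r → (r.map s).prod = (l.map s).prod →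
      (l.map f).prod = (r.map f).prod := by
    intro l
    induction l using List.reverseRecOn with
    | nil =>
      intro _ r hr he
      obtain rfl : r = [] := List.length_eq_zero_iff.1 (Nat.le_zero.1 (hr.2 [] (by simp) he.symm))
      rfl
    | append_singleton l i ih =>
      intro hl r hr he
      have hi : i ∈ Δ := hl i (by simp)
      have hl0 : ∀ a ∈ l, a ∈ Δ := fun a ha => hl a (List.mem_append_left _ ha)
      obtain ⟨p, hp, hpe, -⟩ := exists_reduced s Δ hl0
      rw [List.map_append, List.prod_append, ih hl0 p hp hpe]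
      have hse : (r.map s).prod = (p.map s).prod * s i := by rw [he, hpe]; simp
      by_cases hneg : pos ((p.map s).prod • i)
      · -- the longer word is reduced
        have hred : Reduced s Δ (p ++ [i]) := by
          refine ⟨fun a ha => (List.mem_append.1 ha).elim (hp.1 a) fun ha => List.mem_singleton.1 ha ▸ hi, ?_⟩
          intro q h1 h2
          by_contra hlt
          obtain ⟨q₀, h3, h4, -⟩ := exists_reduced s Δ h1
          have h5 : (q₀.map s).prod = (p.map s).prod * s i := by rw [h4, h2]; simp
          have hn : ¬ pos ((q₀.map s).prod • i) := by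
            rw [h5]
            exact fun hpos => h.neg_smul _ (prod_mem hp.1) i hi
              (by rw [← mul_smul]; exact hpos) hneg
          obtain ⟨q', h6, h7, h8⟩ := h.exists_delete hi h3.1 hn
          rw [h5, mul_assoc, h.mul_self i hi, mul_one] at h8
          have := hp.2 q' h6 h8
          have := h3.2 q h1 h4.symm
          simp only [List.length_append, List.length_singleton] at hlt
          omega
        rw [key _ r (p ++ [i]) rfl hr hred (by simpa using hse)]
        simp
      · obtain ⟨p', h1, h2, h3⟩ := h.exists_delete hi hp.1 hneg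
        have e3 : (r.map s).prod = (p'.map s).prod := by rw [hse, h3]
        have hp' : Reduced s Δ (p' ++ [i]) := ⟨fun a ha =>
            (List.mem_append.1 ha).elim (h1 a) fun ha => List.mem_singleton.1 ha ▸ hi, fun q h4 h5 => by
          have := hp.2 q h4 (h5.trans (by simp [h3, mul_assoc, h.mul_self i hi]))
          simp only [List.length_append, List.length_singleton]
          omega⟩
        rw [key _ p (p' ++ [i]) rfl hp hp' (by simp [h3, mul_assoc, h.mul_self i hi]),
          key _ r p' rfl hr hp'.dropLast e3]
        simp [mul_assoc, hsq i hi]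
  obtain ⟨r, hr, hre, -⟩ := exists_reduced s Δ hl
  rw [main l hl r hr hre, main l' hl' r hr (hre.trans he)]

end ReflData

end Groth.Agent.RootSys
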