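import Groth.Agent.RootSys.Simple

/-!
# The simple roots of a positive system
-/

noncomputable section
open Function Set

namespace Groth.Agent.RootSys

variable {ι M N : Type*} [AddCommGroup M] [AddCommGroup N] {P : RootPairing ι ℤ M N}

section Form
variable [Fintype ι]

lemma rootForm_pos (i : ι) : 0 < P.RootForm (P.root i) (P.root i) :=
  P.rootForm_pos_of_ne_zero (Submodule.subset_span ⟨i, rfl⟩) (P.ne_zero i)

lemma rootForm_mul_pairing (i j : ι) :
    P.RootForm (P.root i) (P.root i) * P.pairing j i = 2 * P.RootForm (P.root i) (P.root j) := by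
  have e := congr_arg (P.toLinearMap (P.root j)) (P.rootForm_self_smul_coroot i)
  rw [map_zsmul, map_nsmul, P.toLinearMap_apply_apply_Polarization, nsmul_eq_mul, smul_eq_mul] at e
  exact e

lemma coroot_eq_two_smul {i k : ι} (h : P.root k = (2 : ℤ) • P.root i) :
    P.coroot i = (2 : ℤ) • P.coroot k := by
  haveI : Module.IsReflexive ℤ N := .of_isPerfPair P.flip.toLinearMap
  haveI : IsAddTorsionFree N := .of_isTorsionFree ℤ N
  have hB : P.RootForm (P.root k) (P.root k) = 4 * P.RootForm (P.root i) (P.root i) := by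
    simp only [h, map_zsmul, map_smul, LinearMap.smul_apply, smul_eq_mul]
    ring
  have hP : P.Polarization (P.root k) = (2 : ℤ) • P.Polarization (P.root i) := by rw [h, map_zsmul]
  have e := P.rootForm_self_smul_coroot k
  rw [hB, hP, smul_comm (2 : ℕ) (2 : ℤ), ← P.rootForm_self_smul_coroot i, smul_smul] at e
  refine (smul_right_injective N (r := 2 * P.RootForm (P.root i) (P.root i))
    (mul_ne_zero two_ne_zero (rootForm_pos i).ne') ?_)
  show _ • P.coroot i = _ • (2 : ℤ) • P.coroot k
  rw [← e, smul_smul]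
  congr 1
  ring

end Form

lemma pairing_double [Finite ι] {i k : ι} (h : P.root k = (2 : ℤ) • P.root i) (x : M) :
    P.coroot' i x = 2 * P.coroot' k x := by
  haveI := Fintype.ofFinite ι
  show P.toLinearMap x (P.coroot i) = 2 * P.toLinearMap x (P.coroot k)
  rw [coroot_eq_two_smul h, map_zsmul, smul_eq_mul]

lemma reflection_double [Finite ι] {i k : ι} (h : P.root k = (2 : ℤ) • P.root i) :
    RootPairing.Equiv.reflection P k = RootPairing.Equiv.reflection P i :=
  aut_ext fun x => by
    rw [RootPairing.Equiv.reflection_smul, RootPairing.Equiv.reflection_smul, P.reflection_apply,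
      P.reflection_apply, h, pairing_double h x, smul_smul, mul_comm (P.coroot' k x)]

/-- A nonnegative combination of a closed set without opposite roots vanishes only trivially. -/
lemma nonneg_eq_zero [Finite ι] {S : Set ι} (hS : RootD.IsClosedSub P S) (hd : ∀ i ∈ S, opp P i ∉ S)
    {c : ι →₀ ℤ} (hc : ↑c.support ⊆ S) (hnn : ∀ a, 0 ≤ c a) (h0 : lc P c = 0) : c = 0 := by
  classical
  ext a
  rw [Finsupp.zero_apply]
  by_contra hne
  have haS : a ∈ S := hc (Finsupp.mem_support_iff.mpr hne)
  refine hd a haS ((isClosedSub_iff S).mp hS _ ?_)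
  have e : P.root (opp P a) = lc P (c - Finsupp.single a 1) := by
    rw [lc, map_sub, ← lc, h0, Finsupp.linearCombination_single, one_zsmul, zero_sub, root_opp]
  rw [e]
  refine lc_mem_natSpan (fun b hb => ?_) fun b => ?_
  · rcases Finset.mem_union.mp (Finsupp.support_sub hb) with h | h
    · exact hc h
    · exact Finset.mem_singleton.mp (Finsupp.support_single_subset h) ▸ haS
  · have := hnn b
    rcases eq_or_ne b a with rfl | hba
    · rw [Finsupp.sub_apply, Finsupp.single_eq_same]; omega
    · rw [Finsupp.sub_apply, Finsupp.single_eq_of_ne hba]; omega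

/-- An obtuse subset of a positive system is linearly independent. -/
lemma linIndepOn_of_obtuse [Finite ι] {S : Set ι} (hS : RootD.IsPosSys P S) {Δ : Set ι} (hΔS : Δ ⊆ S)
    (hob : ∀ i ∈ Δ, ∀ j ∈ Δ, i ≠ j → P.pairing i j ≤ 0) : LinearIndepOn ℤ P.root Δ := by
  classical
  haveI := Fintype.ofFinite ι
  have hd : ∀ i ∈ S, opp P i ∉ S := fun i hi => hS.disjoint hi
  refine linearIndepOn_iff.mpr fun l hl h0 => ?_
  have hlΔ : ∀ a, l a ≠ 0 → a ∈ Δ := fun a ha => hl (Finsupp.mem_support_iff.mpr ha)
  let p : ι →₀ ℤ := Finsupp.mapRange (fun z => max z 0) (by simp) l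
  let q : ι →₀ ℤ := Finsupp.mapRange (fun z => max (-z) 0) (by simp) l
  have hpq : p - q = l := Finsupp.ext fun a => by
    simp only [p, q, Finsupp.sub_apply, Finsupp.mapRange_apply]
    omega
  have hlc : lc P p = lc P q := sub_eq_zero.mp (by rw [← map_sub, hpq]; exact h0)
  have hB : P.RootForm (lc P p) (lc P p) ≤ 0 := by
    conv_lhs => arg 2; rw [hlc]
    simp only [lc, Finsupp.linearCombination_apply, Finsupp.sum, map_sum, map_zsmul, map_smul, LinearMap.sum_apply,
      LinearMap.smul_apply, smul_eq_mul]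
    refine Finset.sum_nonpos fun a ha => ?_
    refine mul_nonpos_of_nonneg_of_nonpos (le_max_right _ _) (Finset.sum_nonpos fun b hb => ?_)
    refine mul_nonpos_of_nonneg_of_nonpos (le_max_right _ _) ?_
    have hne : a ≠ b := by
      rintro rfl
      simp [p, q] at ha hb
      omega
    have haΔ : a ∈ Δ := hlΔ a fun h => by simp [p, q, h] at ha
    have hbΔ : b ∈ Δ := hlΔ b fun h => by simp [p, q, h] at hb
    first
    | have e1 := rootForm_mul_pairing (P := P) a b
      have e2 := hob b hbΔ a haΔ hne.symm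
      have e3 := rootForm_pos (P := P) a
      nlinarith
    | have e1 := rootForm_mul_pairing (P := P) b a
      have e2 := hob a haΔ b hbΔ hne
      have e3 := rootForm_pos (P := P) b
      nlinarith
  have hx : lc P p = 0 := P.eq_zero_of_mem_rootSpan_of_rootForm_self_eq_zero
    (by rw [RootPairing.rootSpan, ← Finsupp.range_linearCombination]; exact LinearMap.mem_range_self _ p)
    (le_antisymm hB (P.zero_le_rootForm _))
  have hsp : ∀ r : ι →₀ ℤ, (∀ a, r a ≠ 0 → l a ≠ 0) → ↑r.support ⊆ S := fun r hr a ha =>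
    hΔS (hlΔ a (hr a (Finsupp.mem_support_iff.mp ha)))
  have hp := nonneg_eq_zero (IsPosSys.closed hS) hd (hsp p fun a => by simp [p]; omega)
    (fun a => by simp [p]) hx
  have hq := nonneg_eq_zero (IsPosSys.closed hS) hd (hsp q fun a => by simp [q]; omega)
    (fun a => by simp [q]) (hlc ▸ hx)
  rw [← hpq, hp, hq, sub_zero]

/-- The indecomposable elements. -/
def simpleOf (P : RootPairing ι ℤ M N) (S : Set ι) : Set ι :=
  {k ∈ S | ¬ ∃ i j, i ∈ S ∧ j ∈ S ∧ P.root k = P.root i + P.root j}

theorem isSimpleSys_simpleOf [Finite ι] {S : Set ι} (hS : RootD.IsPosSys P S) :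
    RootD.IsSimpleSys P (simpleOf P S) := by
  classical
  obtain ⟨hd, hcov, hcl⟩ := (isPosSys_iff S).mp hS
  let D : ι → Set ι := fun k => {j ∈ S | P.root k - P.root j ∈ RootD.natSpan P S}
  have hgen : ∀ k ∈ S, P.root k ∈ RootD.natSpan P (simpleOf P S) := by
    intro k
    induction hn : (D k).ncard using Nat.strong_induction_on generalizing k with
    | h n ih =>
      intro hk
      by_cases hdec : ∃ i j, i ∈ S ∧ j ∈ S ∧ P.root k = P.root i + P.root j
      swap
      · exact root_mem_natSpan ⟨hk, hdec⟩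
      obtain ⟨i, j, hi, hj, he⟩ := hdec
      have step : ∀ a b, a ∈ S → b ∈ S → P.root k = P.root a + P.root b →
          P.root a ∈ RootD.natSpan P (simpleOf P S) := by
        intro a b ha hb hab
        refine ih _ (hn ▸ Set.ncard_lt_ncard ⟨fun x hx => ⟨hx.1, ?_⟩, fun hsub => ?_⟩ (Set.toFinite _)) a rfl ha
        · rw [hab, add_sub_right_comm]
          exact add_mem hx.2 (root_mem_natSpan hb)
        · have hkk : k ∈ D k := ⟨hk, by rw [sub_self]; exact zero_mem _⟩
          have h2 := (hsub hkk).2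
          rw [hab, ← sub_sub, sub_self, zero_sub] at h2
          exact hd b hb ((isClosedSub_iff S).mp hcl _ (by rwa [root_opp]))
      rw [he]
      exact add_mem (step i j hi hj he) (step j i hj hi (by rw [he, add_comm]))
  refine ⟨linIndepOn_of_obtuse hS (fun k hk => hk.1) fun i hi j hj hne => ?_, fun k => ?_⟩
  · by_contra! h
    obtain ⟨l, hl⟩ := sub_root_mem h hne
    rcases hcov l with hlS | hlS
    · exact hi.2 ⟨l, j, hlS, hj.1, by rw [hl, sub_add_cancel]⟩
    · exact hj.2 ⟨opp P l, i, hlS, hi.1, by rw [root_opp, hl]; abel⟩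
  · rcases hcov k with h | h
    · exact Or.inl (hgen k h)
    · exact Or.inr (root_opp (P := P) k ▸ hgen _ h)

lemma eq_simpleOf [Finite ι] {Δ : Set ι} (hΔ : RootD.IsSimpleSys P Δ) :
    Δ = simpleOf P (RootD.posOf P Δ) := by
  refine Set.ext fun k => ⟨fun hk => ⟨simple_mem_posOf hΔ hk, (mem_simple_iff hΔ (simple_mem_posOf hΔ hk)).mp hk⟩,
    fun ⟨hk, h⟩ => (mem_simple_iff hΔ hk).mpr h⟩

theorem existsUnique_simpleSys [Finite ι] {S : Set ι} (hS : RootD.IsPosSys P S) :
    ∃! Δ : Set ι, RootD.IsSimpleSys P Δ ∧ Δ ⊆ S :=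
  ⟨simpleOf P S, ⟨isSimpleSys_simpleOf hS, fun _ h => h.1⟩, fun Δ ⟨hΔ, hsub⟩ => by
    rw [eq_simpleOf hΔ, ← (subset_iff_eq_posOf hΔ hS).mp hsub]⟩

lemma posOf_simpleOf [Finite ι] {S : Set ι} (hS : RootD.IsPosSys P S) :
    RootD.posOf P (simpleOf P S) = S :=
  ((subset_iff_eq_posOf (isSimpleSys_simpleOf hS) hS).mp fun _ h => h.1).symm

end Groth.Agent.RootSys
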