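import Groth.Agent.RootSys.RootU
import Groth.Agent.RootSys.FieldRed
import Groth.Agent.RootSys.TwoBorel

/-!
# The open cell of a pair of opposite root groups over an algebraically closed field
-/

set_option autoImplicit false
set_option backward.isDefEq.respectTransparency false
set_option linter.style.haveILetI false
set_option maxHeartbeats 1000000
set_option synthInstance.maxHeartbeats 400000

universe u

open CategoryTheory Limits MonoidalCategory CartesianMonoidalCategory MonObj AlgebraicGeometry LieS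
open scoped CategoryTheory.Obj

noncomputable section

namespace Groth.Agent.RootSys

open Groth.Agent.HomDiag Groth.Agent.DynPar
open Groth.Agent.DynPar.Der (dv uB pl sG)

variable {k : Type u} [Field k] {G : Over (Spec (CommRingCat.of k))} [GrpObj G] {M : Type} [AddCommGroup M]

/-- A product in the cell of a pair of opposite root groups. -/
def cellMul (j : Red.DS (Spec (CommRingCat.of k)) M ⟶ G) (u v : Red.Ga (Spec (CommRingCat.of k)) ⟶ G)
    {A : Type u} [CommRing A] {f : Spec (CommRingCat.of A) ⟶ Spec (CommRingCat.of k)} (a : A)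
    (t : pt A f ⟶ Red.DS (Spec (CommRingCat.of k)) M) (b : A) : pt A f ⟶ G :=
  gpt f a ≫ v * (t ≫ j) * gpt f b ≫ u

/-- The open cell of a pair of opposite root groups. -/
structure RankCell (j : Red.DS (Spec (CommRingCat.of k)) M ⟶ G) (u v : Red.Ga (Spec (CommRingCat.of k)) ⟶ G)
    (p : MvPolynomial (Fin 2) k) : Prop where
  uniq : ∀ {A : Type u} [CommRing A] {f : Spec (CommRingCat.of A) ⟶ Spec (CommRingCat.of k)} {a a' : A}
    {t t' : pt A f ⟶ Red.DS (Spec (CommRingCat.of k)) M} {b b' : A},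
      cellMul j u v a t b = cellMul j u v a' t' b' → a = a' ∧ t = t' ∧ b = b'
  cell : ∀ {A : Type u} [CommRing A] (φ : k →+* A) (x y : A),
    IsUnit (MvPolynomial.eval₂ φ ![x, y] p) ↔
      ∃ a t b, gpt (Spec.map (CommRingCat.ofHom φ)) x ≫ u * gpt (Spec.map (CommRingCat.ofHom φ)) y ≫ v =
        cellMul j u v a t b
  bad : ∀ x : k, x ≠ 0 → ∃! y, MvPolynomial.eval ![x, y] p = 0

theorem pl_id_ne_one [IsAffine G.left] {f f' : Spec (CommRingCat.of k) ⟶ Spec (CommRingCat.of k)}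
    (hf : Spec.map (CommRingCat.ofHom (RingHom.id k)) ≫ f = f') {v : Lie G k f} (hv : v ≠ 1) :
    pl (RingHom.id k) hf v ≠ 1 := fun h => hv (Der.dv_injective (funext fun x => by
  rw [Der.dv_one, ← RingHom.id_apply (dv v x), ← Der.dv_pl _ hf v x, h, Der.dv_one]))

variable [IsAlgClosed k]

/-- The centraliser of the kernel of a weight, with its weights. -/
theorem exists_rankSetting [IsAffine G.left] (hG : Red.IsReductiveOver k G) [Module.Free ℤ M] [Module.Finite ℤ M]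
    (j : Red.DS (Spec (CommRingCat.of k)) M ⟶ G) [IsMonHom j] (hj : AGF.IsMaxTorus j) {d : M} (hd : d ≠ 0)
    {u v : Red.Ga (Spec (CommRingCat.of k)) ⟶ G} (hu : Red.IsRootHom j (Red.chi _ d) u)
    (hv : Red.IsRootHom j (Red.chi _ (-d)) v) :
    ∃ (M' : Type) (_ : AddCommGroup M') (π : M →+ M') (m₁ : M) (C : Over (Spec (CommRingCat.of k))) (_ : GrpObj C)
      (_ : IsAffine C.left) (c : C ⟶ G) (tC : Red.DS (Spec (CommRingCat.of k)) M ⟶ C) (_ : IsMonHom tC) (_ : IsMonHom c)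
      (uC vC : Red.Ga (Spec (CommRingCat.of k)) ⟶ C) (_ : IsMonHom uC) (_ : IsMonHom vC) (mu : M →+ ℤ),
      Mono c ∧ KerData j π c tC ∧ m₁ ≠ 0 ∧ π m₁ = 0 ∧ (∀ x, π x = 0 → ∃ l : ℤ, x = l • m₁) ∧
      uC ≫ c = u ∧ vC ≫ c = v ∧ Red.IsRootHom tC (Red.chi _ d) uC ∧ Red.IsRootHom tC (Red.chi _ (-d)) vC ∧
      0 < mu d ∧ Regular tC mu ∧
      (∀ (e : M) (w : Lie C k (fk k)), IsWt tC w e → w ≠ 1 → e ≠ 0 →
        (e = d ∧ ∃ r : k, w = r • RootIntrinsic.vU uC) ∨ (e = -d ∧ ∃ r : k, w = r • RootIntrinsic.vU vC)) := by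
  classical
  let S := Spec (CommRingCat.of k)
  obtain ⟨M', _, _, _, π, m₁, hπs, hm₁, hπ₁, hπd, hker⟩ := exists_line d hd
  obtain ⟨C, _, c, tC, D⟩ := exists_kerData hG j hj π hπs
  haveI := D.htC_hom; haveI := D.hc.1; haveI := D.hc_imm
  haveI : Mono c := Over.mono_of_mono_left c
  haveI : IsAffine C.left := isAffine_of_isAffineHom c.left
  haveI := D.hred.2.1; haveI := D.hred.2.2.1
  have hroot : ∀ {a : M} {w : Red.Ga S ⟶ G}, π a = 0 → Red.IsRootHom j (Red.chi _ a) w →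
      ∃ wC : Red.Ga S ⟶ C, wC ≫ c = w ∧ Red.IsRootHom tC (Red.chi _ a) wC := by
    intro a w ha hw
    haveI := hw.1; haveI := hw.2.1
    obtain ⟨wC, hwC⟩ := (D.hc.2.2 _ w).2 fun X x h => by
      obtain ⟨y, hy, hy'⟩ := hw.2.2 X (h ≫ Red.DSmap S π) x
      have hyx : y = x := BGaNotS.gaPt_ext (by
        rw [hy', RootIntrinsic.gmFn_chi, ch_DSmap,
          show π (Multiplicative.toAdd (Multiplicative.ofAdd a)) = 0 from ha, ofAdd_zero, map_one, _root_.one_mul])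
      rw [hyx, Category.assoc] at hy
      exact mul_inv_eq_iff_eq_mul.1 hy.symm |>.symm
    haveI : IsMonHom wC := MTSplit.isMonHom_of_comp_mono wC c w hwC
    refine ⟨wC, hwC, inferInstance, ?_, fun X t x => ?_⟩
    · haveI : IsClosedImmersion (wC.left ≫ c.left) := by rw [← Over.comp_left, hwC]; exact hw.2.1
      exact IsClosedImmersion.of_comp wC.left c.left
    · obtain ⟨y, hy, hy'⟩ := hw.2.2 X t x
      refine ⟨y, ?_, hy'⟩
      rw [← cancel_mono c, MonObj.mul_comp, MonObj.mul_comp, GrpObj.inv_comp, Category.assoc, Category.assoc,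
        Category.assoc, hwC, D.htC, hy]
  obtain ⟨uC, huC, huC'⟩ := hroot hπd hu
  obtain ⟨vC, hvC, hvC'⟩ := hroot (by rw [map_neg, hπd, neg_zero]) hv
  haveI := huC'.1; haveI := hvC'.1; haveI := huC'.2.1; haveI := hvC'.2.1
  haveI : Mono uC := Over.mono_of_mono_left uC
  haveI : Mono vC := Over.mono_of_mono_left vC
  have hW : ∀ {a : M} {w : Red.Ga S ⟶ C} [IsMonHom w], Red.IsRootHom tC (Red.chi _ a) w →
      IsWt tC (RootIntrinsic.vU w) a := fun {a w} _ hw => by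
    let E : Grp.mk (Red.DS S M) ≅ Grp.mk (Red.DS S M) := Iso.refl _
    have hE : E.inv.hom.hom ≫ tC = tC := Category.id_comp tC
    haveI : IsMonHom (E.inv.hom.hom ≫ tC) := by rw [hE]; infer_instance
    exact (isWt_vU E (show Red.IsRootHom tC (E.hom.hom.hom ≫ Red.chi _ a) w by
      rw [show E.hom.hom.hom = 𝟙 (Red.DS S M) from rfl, Category.id_comp]; exact hw)).congr_hom hE
  have hid : Spec.map (CommRingCat.ofHom (RingHom.id k)) ≫ fk k = 𝟙 S := by
    rw [fk, Algebra.algebraMap_self, CommRingCat.ofHom_id, Spec.map_id, Category.comp_id]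
  let P : Lie C k (fk k) → Lie C k (𝟙 S) := pl (RingHom.id k) hid
  have hP : Function.Injective P := fun a b h => Der.dv_injective (funext fun x => by
    rw [← RingHom.id_apply (dv a x), ← RingHom.id_apply (dv b x), ← Der.dv_pl _ hid, ← Der.dv_pl _ hid]
    exact congr(dv $h x))
  have hself := D.hself
  have hrk := fun {v : Lie C k (𝟙 S)} {e : M} (hv : IsWt tC v e) (he : e ≠ 0) (hv1 : v ≠ 1) =>
    global_rank_one D.hred tC D.hmax hv he hv1
  haveI : AddGroup.FG M := Module.Finite.iff_addGroup_fg.1 inferInstance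
  haveI := D.hmax.2.1
  obtain ⟨mu₀, hmu₀⟩ := exists_regular (G := C) tC
  have hu0 : P (RootIntrinsic.vU uC) ≠ 1 := pl_id_ne_one hid (RootIntrinsic.vU_ne_one uC)
  have hv0 : P (RootIntrinsic.vU vC) ≠ 1 := pl_id_ne_one hid (RootIntrinsic.vU_ne_one vC)
  obtain ⟨mu, hmud, hreg⟩ : ∃ mu : M →+ ℤ, 0 < mu d ∧ Regular tC mu := by
    rcases lt_or_gt_of_ne (ne_zero_of_regular tC mu₀ hmu₀ ((hW huC').pl _ hid) hu0 hd) with h | h
    · exact ⟨-mu₀, by rw [AddMonoidHom.neg_apply]; omega, fun B _ f g hg => hmu₀ B f g ((mem_ZSub_neg tC mu₀).1 hg)⟩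
    · exact ⟨mu₀, h, hmu₀⟩
  refine ⟨M', inferInstance, π, m₁, C, inferInstance, inferInstance, c, tC, inferInstance, inferInstance, uC, vC,
    inferInstance, inferInstance, mu, inferInstance, D, hm₁, hπ₁, hker, huC, hvC, huC', hvC', hmud, hreg,
    fun e w hw hw1 he => ?_⟩
  have hwP : IsWt tC (P w) e := IsWt.pl (c := tC) hw _ hid
  have hw1' : P w ≠ 1 := pl_id_ne_one hid hw1
  have hab : ∃ a b : ℤ, b ≠ 0 ∧ b • e = a • d := by
    obtain ⟨a, ha⟩ := hker e (D.wt_mem_ker hw hw1)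
    obtain ⟨b, hb⟩ := hker d hπd
    exact ⟨a, b, fun h => hd (by rw [hb, h, zero_smul]), by rw [ha, hb, smul_smul, smul_smul, mul_comm]⟩
  have hPs : ∀ (r : k) (x : Lie C k (fk k)), P (r • x) = r • P x := fun r x => Der.pl_smul _ hid r x
  have hneg : ∀ {e' : M}, e' = -d → e' ≠ d := fun h h' => hd (by
    have h2 : (2 : ℤ) • d = 0 := by rw [two_zsmul]; nth_rw 1 [h'.symm.trans h]; rw [neg_add_cancel]
    exact (smul_eq_zero.1 h2).resolve_left two_ne_zero)
  rcases (hrk ((hW huC').pl _ hid) hd hu0).2 e (P w) hwP hw1' he hab with ⟨rfl, r, hr⟩ | h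
  · exact Or.inl ⟨rfl, r, hP (hr.trans (hPs r _).symm)⟩
  · refine Or.inr ⟨h, ?_⟩
    subst h
    rcases (hrk ((hW hvC').pl _ hid) (neg_ne_zero.2 hd) hv0).2 (-d) (P w) hwP hw1' he ⟨1, 1, one_ne_zero, rfl⟩ with
      ⟨-, r, hr⟩ | h'
    · exact ⟨r, hP (hr.trans (hPs r _).symm)⟩
    · exact absurd (h'.trans (neg_neg d)) (hneg rfl)

/-- **The open cell.** -/
theorem exists_rankCell [IsAffine G.left] (hG : Red.IsReductiveOver k G) [Module.Free ℤ M] [Module.Finite ℤ M]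
    (j : Red.DS (Spec (CommRingCat.of k)) M ⟶ G) [IsMonHom j] (hj : AGF.IsMaxTorus j) {d : M} (hd : d ≠ 0)
    {u v : Red.Ga (Spec (CommRingCat.of k)) ⟶ G} (hu : Red.IsRootHom j (Red.chi _ d) u)
    (hv : Red.IsRootHom j (Red.chi _ (-d)) v) : ∃ p, RankCell j u v p := by
  classical
  obtain ⟨M', _, π, m₁, C, _, _, c, tC, _, _, uC, vC, _, _, mu, hmono, D, hm₁, hπ₁, hker, huc, hvc, huC, hvC, hmud,
    hreg, hwts⟩ := exists_rankSetting hG j hj hd hu hv
  haveI := hmono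
  haveI := D.hred.2.1; haveI := D.hred.2.2.1
  haveI := D.hmax.2.1; haveI := huC.2.1; haveI := hvC.2.1
  haveI : Mono uC := Over.mono_of_mono_left uC
  haveI : Mono vC := Over.mono_of_mono_left vC
  haveI : IsAffineHom C.hom := isAffineHom_of_isAffine C.hom
  haveI : AddGroup.FG M := Module.Finite.iff_addGroup_fg.1 inferInstance
  let S := Spec (CommRingCat.of k)
  let lam := Red.DSmap S mu ≫ tC
  let lam' := Red.DSmap S (-mu) ≫ tC
  have hreg' : Regular tC (-mu) := fun B _ f g hg => hreg B f g ((mem_ZSub_neg tC mu).1 hg)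
  obtain ⟨B, _, b, hb⟩ := exists_isP lam
  obtain ⟨B', _, b', hb'⟩ := exists_isP lam'
  haveI := hb.1; haveI := hb.2.1; haveI := hb'.1; haveI := hb'.2.1
  haveI : Mono b := Over.mono_of_mono_left b
  have hB := isBorelOver_of_regular D.hred tC D.hmax D.hself mu hreg b hb
  have hB' := isBorelOver_of_regular D.hred tC D.hmax D.hself (-mu) hreg' b' hb'
  have hPv : ∀ {A : Type u} [CommRing A] {f : Spec (CommRingCat.of A) ⟶ S} (y : pt A f ⟶ Red.Ga S),
      y ≫ vC ∈ USub f lam' := fun y => rootHom_mem_USub hvC (-mu) (by rw [AddMonoidHom.neg_apply, map_neg]; omega) y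
  have hPu : ∀ {A : Type u} [CommRing A] {f : Spec (CommRingCat.of A) ⟶ S} (y : pt A f ⟶ Red.Ga S),
      y ≫ uC ∈ USub f lam := fun y => rootHom_mem_USub huC mu hmud y
  have hopp : ∀ {A : Type u} [CommRing A] {f : Spec (CommRingCat.of A) ⟶ S} {g : pt A f ⟶ C},
      g ∈ USub f lam → g ∈ PSub f lam' → g = 1 := fun h1 h2 => eq_one_of_opp mu h1 h2
  have hopp' : ∀ {A : Type u} [CommRing A] {f : Spec (CommRingCat.of A) ⟶ S} {g : pt A f ⟶ C},
      g ∈ USub f lam' → g ∈ PSub f lam → g = 1 := fun h1 h2 => eq_one_of_opp (-mu) h1 (by rw [neg_neg]; exact h2)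
  have hne : ¬ ∃ e : B' ⟶ B, e ≫ b = b' := by
    rintro ⟨e, he⟩
    let y : pt k (𝟙 S) ⟶ Red.Ga S := gpt (𝟙 S) 1
    obtain ⟨z, hz⟩ := hb'.exists_fac_iff.2 (USub_le_PSub _ _ (hPv y))
    have h1 : y ≫ vC = 1 := hopp' (hPv y) (hb.exists_fac_iff.1 ⟨z ≫ e, by rw [Category.assoc, he, hz]⟩)
    rw [← MonObj.one_comp vC, cancel_mono, ← gpt_zero] at h1
    have h2 := congrArg gval h1
    rw [gval_gpt, gval_gpt] at h2
    exact one_ne_zero h2
  obtain ⟨tB, htB⟩ : ∃ t, t ≫ b = tC := hb.exists_le tC fun A _ f y => ZSub_le_PSub f _ (comp_mem_ZSub tC mu y)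
  obtain ⟨tB', htB'⟩ : ∃ t, t ≫ b' = tC := hb'.exists_le tC fun A _ f y => ZSub_le_PSub f _ (comp_mem_ZSub tC (-mu) y)
  obtain ⟨n, τ, σ, hτ, hσ⟩ := Groth.Agent.S3912.result k C _ _ _ tC b b' D.hmax hB hB' tB htB tB' htB'
  have hcent : ∀ (n : Chev.RP C) (X : Over S) (t : X ⟶ Red.DS S M'),
      (toUnit X ≫ n) * (t ≫ Red.DSmap _ π ≫ tC) = (t ≫ Red.DSmap _ π ≫ tC) * (toUnit X ≫ n) := fun n X t => by
    rw [← cancel_mono c]
    simp only [MonObj.mul_comp, Category.assoc, D.htC]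
    exact (D.hc.2.2 _ (n ≫ c)).1 ⟨n, rfl⟩ X (toUnit X) t
  obtain ⟨h, hcell, -, hbadset⟩ := cell_compl' tC D.hmax D.hself π m₁ hm₁ hπ₁ hker hcent mu hb hb' hB hB' hne n τ σ hτ hσ
  -- decomposition of the factors
  have hpos : ∀ (e : M) (w : Lie C k (fk k)), IsWt tC w e → w ≠ 1 → 0 < mu e → e = d := fun e w hw hw1 he => by
    rcases hwts e w hw hw1 (fun h => by rw [h, map_zero] at he; omega) with ⟨h, -⟩ | ⟨h, -⟩
    · exact h
    · rw [h, map_neg] at he; omega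
  have hpos' : ∀ (e : M) (w : Lie C k (fk k)), IsWt tC w e → w ≠ 1 → 0 < (-mu) e → e = -d := fun e w hw hw1 he => by
    rw [AddMonoidHom.neg_apply] at he
    rcases hwts e w hw hw1 (fun h => by rw [h, map_zero] at he; omega) with ⟨h, -⟩ | ⟨h, -⟩
    · rw [h] at he; omega
    · exact h
  have hdd : d ≠ -d := fun h => hd (by
    have h2 : (2 : ℤ) • d = 0 := by rw [two_zsmul]; nth_rw 1 [h]; rw [neg_add_cancel]
    exact (smul_eq_zero.1 h2).resolve_left two_ne_zero)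
  have hline : ∀ w : Lie C k (fk k), IsWt tC w d → ∃ r : k, w = r • RootIntrinsic.vU uC := fun w hw => by
    by_cases hw1 : w = 1
    · exact ⟨0, by rw [hw1, LieWt.zero_rescale]⟩
    rcases hwts d w hw hw1 hd with ⟨-, h⟩ | ⟨h, -⟩
    · exact h
    · exact absurd h hdd
  have hline' : ∀ w : Lie C k (fk k), IsWt tC w (-d) → ∃ r : k, w = r • RootIntrinsic.vU vC := fun w hw => by
    by_cases hw1 : w = 1
    · exact ⟨0, by rw [hw1, LieWt.zero_rescale]⟩
    rcases hwts (-d) w hw hw1 (neg_ne_zero.2 hd) with ⟨h, -⟩ | ⟨-, h⟩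
    · exact absurd h.symm hdd
    · exact h
  have hsplitU : ∀ {A : Type u} [CommRing A] {f : Spec (CommRingCat.of A) ⟶ S} {g : pt A f ⟶ C},
      g ∈ USub f lam → ∃ a : A, gpt f a ≫ uC = g := fun {A} _ f g hg => by
    obtain ⟨x, hx⟩ := isU_rootHom huC mu hmud hpos hline g fun A' _ f' y => by
      obtain ⟨φ, hφ, rfl⟩ := eq_qm y
      exact qm_mem_USub f _ φ hφ hg
    exact ⟨gval x, by rw [gpt_gval, hx]⟩
  have hsplitV : ∀ {A : Type u} [CommRing A] {f : Spec (CommRingCat.of A) ⟶ S} {g : pt A f ⟶ C},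
      g ∈ USub f lam' → ∃ a : A, gpt f a ≫ vC = g := fun {A} _ f g hg => by
    obtain ⟨x, hx⟩ := isU_rootHom hvC (-mu) (by rw [AddMonoidHom.neg_apply, map_neg]; omega) hpos' hline' g
      fun A' _ f' y => by
        obtain ⟨φ, hφ, rfl⟩ := eq_qm y
        exact qm_mem_USub f _ φ hφ hg
    exact ⟨gval x, by rw [gpt_gval, hx]⟩
  have hsplitP : ∀ {A : Type u} [CommRing A] {f : Spec (CommRingCat.of A) ⟶ S} {g : pt A f ⟶ C},
      g ∈ PSub f lam → ∃ t a, t ≫ tC * gpt f a ≫ uC = g := fun {A} _ f g hg => by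
    obtain ⟨t, ht⟩ := exists_centralizer_lift D.hself (hreg A f _ (lim_mem_ZSub hg))
    obtain ⟨a, ha⟩ := hsplitU (decomp hg)
    exact ⟨t, a, by rw [ht, ha, mul_inv_cancel_left]⟩
  have hPS : ∀ {A : Type u} [CommRing A] {f : Spec (CommRingCat.of A) ⟶ S} (t : pt A f ⟶ Red.DS S M) (a : A),
      t ≫ tC * gpt f a ≫ uC ∈ PSub f lam := fun t a =>
    mul_mem (ZSub_le_PSub _ _ (comp_mem_ZSub tC mu t)) (USub_le_PSub _ _ (hPu _))
  -- the function on the plane
  let fQ : Spec (CommRingCat.of (MvPolynomial (Fin 2) k)) ⟶ S := Spec.map (CommRingCat.ofHom MvPolynomial.C)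
  let p : MvPolynomial (Fin 2) k :=
    rp (gpt fQ (MvPolynomial.X 0) ≫ uC * gpt fQ (MvPolynomial.X 1) ≫ vC) h
  have hev : ∀ {A : Type u} [CommRing A] {f : Spec (CommRingCat.of A) ⟶ S} (φ : k →+* A)
      (_ : Spec.map (CommRingCat.ofHom φ) = f) (x y : A),
      MvPolynomial.eval₂ φ ![x, y] p = rp (gpt f x ≫ uC * gpt f y ≫ vC) h := by
    intro A _ f φ hφ x y
    let ψ : MvPolynomial (Fin 2) k →+* A := MvPolynomial.eval₂Hom φ ![x, y]
    have hψ : Spec.map (CommRingCat.ofHom ψ) ≫ fQ = f := by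
      rw [← hφ]
      show _ ≫ Spec.map _ = _
      rw [← Spec.map_comp, ← CommRingCat.ofHom_comp]
      congr 2
      ext r
      simp [ψ]
    show ψ p = _
    rw [← RingHom.comp_apply, ← rp_qm ψ hψ, MonObj.comp_mul, ← Category.assoc, ← Category.assoc, qm_gpt, qm_gpt]
    simp [ψ]
  refine ⟨p, ⟨fun {A} _ f a a' t t' b₁ b₂ hh => ?_, fun {A} _ φ x y => ?_, fun x hx => ?_⟩⟩
  · have hC : ∀ a t b, cellMul j u v a t b = (gpt f a ≫ vC * (t ≫ tC) * gpt f b ≫ uC) ≫ c := fun a t b => by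
      simp only [cellMul, MonObj.mul_comp, Category.assoc, hvc, D.htC, huc]
    rw [hC, hC, cancel_mono, _root_.mul_assoc, _root_.mul_assoc] at hh
    have h1 : (gpt f a' ≫ vC)⁻¹ * gpt f a ≫ vC = 1 := hopp' (mul_mem (inv_mem (hPv _)) (hPv _)) (by
      rw [show (gpt f a' ≫ vC)⁻¹ * gpt f a ≫ vC = (t' ≫ tC * gpt f b₂ ≫ uC) * (t ≫ tC * gpt f b₁ ≫ uC)⁻¹ by
        rw [eq_mul_inv_iff_mul_eq, _root_.mul_assoc, hh, inv_mul_cancel_left]]
      exact mul_mem (hPS _ _) (inv_mem (hPS _ _)))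
    have ha : gpt f a = gpt f a' := (cancel_mono vC).1 (inv_mul_eq_one.1 h1).symm
    have ha' : a = a' := by have := congrArg gval ha; rwa [gval_gpt, gval_gpt] at this
    subst ha'
    have hh' := mul_left_cancel hh
    have h2 : (t' ≫ tC)⁻¹ * t ≫ tC = 1 := by
      refine hopp ?_ ?_
      · rw [show (t' ≫ tC)⁻¹ * t ≫ tC = gpt f b₂ ≫ uC * (gpt f b₁ ≫ uC)⁻¹ by
          rw [eq_mul_inv_iff_mul_eq, _root_.mul_assoc, hh', inv_mul_cancel_left]]
        exact mul_mem (hPu _) (inv_mem (hPu _))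
      · exact mul_mem (inv_mem (ZSub_le_PSub _ _ (comp_mem_ZSub tC (-mu) t'))) (ZSub_le_PSub _ _ (comp_mem_ZSub tC (-mu) t))
    have ht : t = t' := (cancel_mono tC).1 (inv_mul_eq_one.1 h2).symm
    subst ht
    refine ⟨rfl, rfl, ?_⟩
    have := congrArg gval ((cancel_mono uC).1 (mul_left_cancel hh'))
    rwa [gval_gpt, gval_gpt] at this
  · rw [hev φ rfl x y, hcell]
    constructor
    · rintro ⟨gu, gp, hgu, hgp, hg⟩
      obtain ⟨a, ha⟩ := hsplitV hgu
      obtain ⟨t, b₀, hb₀⟩ := hsplitP hgp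
      refine ⟨a, t, b₀, ?_⟩
      have e := congrArg (· ≫ c) hg
      simp only [MonObj.mul_comp, Category.assoc, huc, hvc, ← ha, ← hb₀, D.htC] at e
      rw [e, cellMul, _root_.mul_assoc]
    · rintro ⟨a, t, b₀, e⟩
      refine ⟨gpt _ a ≫ vC, t ≫ tC * gpt _ b₀ ≫ uC, hPv _, hPS t b₀, ?_⟩
      rw [← cancel_mono c]
      simp only [MonObj.mul_comp, Category.assoc, huc, hvc, D.htC]
      rw [e, cellMul, _root_.mul_assoc]
  · let f : Spec (CommRingCat.of k) ⟶ S := 𝟙 S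
    haveI hvM : IsMonHom vC := hvC.1
    have hf : Spec.map (CommRingCat.ofHom (RingHom.id k)) = f := by rw [CommRingCat.ofHom_id, Spec.map_id]
    have hz0 : ∀ y, MvPolynomial.eval ![x, y] p = 0 ↔
        ∃ q : Chev.RP B, (gpt f x ≫ uC * gpt f y ≫ vC : pt k f ⟶ C) = n * (q ≫ b) := fun y => by
      rw [← hbadset, isUnit_iff_ne_zero, not_not]
      exact (Eq.congr_left (hev (RingHom.id k) hf x y)).trans Iff.rfl
    let n' : pt k f ⟶ C := n
    obtain ⟨a, t, b₀, hun⟩ : ∃ a t b₀, (gpt f x ≫ uC)⁻¹ * n' = gpt f a ≫ vC * (t ≫ tC * gpt f b₀ ≫ uC) := by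
      have hu1 : IsUnit (rp ((gpt f x ≫ uC)⁻¹ * n') h) := by
        by_contra hun
        obtain ⟨q, hq⟩ := (hbadset _).1 hun
        have e : (gpt f x ≫ uC)⁻¹ = (q ≫ σ.hom) ≫ b' := by
          rw [Category.assoc, hσ, Chev.Borel.comp_conjBy, toUnit_unique (toUnit (𝟙_ (Over S))) (𝟙 _), Category.id_comp]
          exact eq_mul_inv_iff_mul_eq.2 hq
        have h1 := hopp (inv_mem (hPu (gpt f x))) (hb'.exists_fac_iff.1 ⟨q ≫ σ.hom, e.symm⟩)
        rw [inv_eq_one, ← MonObj.one_comp uC, cancel_mono, ← gpt_zero] at h1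
        have h2 := congrArg gval h1
        rw [gval_gpt, gval_gpt] at h2
        exact hx h2
      obtain ⟨gu, gp, hgu, hgp, hg⟩ := (hcell k f _).1 hu1
      obtain ⟨a, ha⟩ := hsplitV hgu
      obtain ⟨t, b₀, hb₀⟩ := hsplitP hgp
      exact ⟨a, t, b₀, by rw [hg, ha, hb₀]⟩
    obtain ⟨q, hq⟩ := hb.exists_fac_iff.2 (inv_mem (hPS t b₀) : (t ≫ tC * gpt f b₀ ≫ uC)⁻¹ ∈ PSub f lam)
    have hya : MvPolynomial.eval ![x, a] p = 0 := (hz0 a).2 ⟨q, by
      show _ = n' * ((q ≫ b : pt k f ⟶ C))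
      rw [show (q ≫ b : pt k f ⟶ C) = (t ≫ tC * gpt f b₀ ≫ uC)⁻¹ from hq]
      rw [eq_mul_inv_iff_mul_eq, _root_.mul_assoc, ← hun, mul_inv_cancel_left]⟩
    refine ⟨a, hya, fun y hy => ?_⟩
    obtain ⟨q₁, hq₁⟩ := (hz0 y).1 hy
    obtain ⟨q₂, hq₂⟩ := (hz0 a).1 hya
    have e : ((gpt f a * (gpt f y)⁻¹)⁻¹ ≫ vC : pt k f ⟶ C) = ((q₂⁻¹ * q₁) ≫ b) := by
      rw [GrpObj.inv_comp, MonObj.mul_comp, GrpObj.inv_comp, MonObj.mul_comp, GrpObj.inv_comp, mul_inv_rev, inv_inv]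
      calc gpt f y ≫ vC * (gpt f a ≫ vC)⁻¹
          = gpt f y ≫ vC * (gpt f a ≫ vC)⁻¹ := rfl
        _ = (gpt f a ≫ vC)⁻¹ * gpt f y ≫ vC := by
          rw [← GrpObj.inv_comp (gpt f a) vC, ← MonObj.mul_comp, ← MonObj.mul_comp]
          congr 1
          exact gval_inj (by rw [gval_mul, gval_mul]; ring)
        _ = (gpt f x ≫ uC * gpt f a ≫ vC)⁻¹ * (gpt f x ≫ uC * gpt f y ≫ vC) := by group
        _ = _ := by rw [hq₁, hq₂]; group
    have h1 : (gpt f a * (gpt f y)⁻¹)⁻¹ ≫ vC = 1 := hopp' (hPv _) (hb.exists_fac_iff.1 ⟨_, e.symm⟩)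
    rw [← MonObj.one_comp vC, cancel_mono, inv_eq_one, mul_inv_eq_one] at h1
    have h2 := congrArg gval h1
    rw [gval_gpt, gval_gpt] at h2
    exact h2.symm

end Groth.Agent.RootSys
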