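import Groth.Agent.RootSys.RootGroup
import Groth.Agent.RedR1.GaSpace

/-!
# Values of points of the additive group; root groups as groups of contracted points
-/

set_option autoImplicit false
set_option backward.isDefEq.respectTransparency false
set_option linter.style.haveILetI false
set_option maxHeartbeats 1000000
set_option synthInstance.maxHeartbeats 400000

universe u

open CategoryTheory Limits MonoidalCategory CartesianMonoidalCategory MonObj AlgebraicGeometry LieS
open scoped CategoryTheory.Obj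

noncomputable section

namespace Groth.Agent.RootSys

open Groth.Agent.HomDiag Groth.Agent.DynPar
open Groth.Agent.DynPar.Der (dv uB pl sG)

variable {k : Type u} [Field k] {B B' : Type u} [CommRing B] [CommRing B']
  {f : Spec (CommRingCat.of B) ⟶ Spec (CommRingCat.of k)} {f' : Spec (CommRingCat.of B') ⟶ Spec (CommRingCat.of k)}

/-- The value of a point of the additive group. -/
def gval (x : pt B f ⟶ Red.Ga (Spec (CommRingCat.of k))) : B :=
  (Scheme.ΓSpecIso (CommRingCat.of B)).hom (Red.gaFn x)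

/-- The point of the additive group with a given value. -/
def gpt (f : Spec (CommRingCat.of B) ⟶ Spec (CommRingCat.of k)) (b : B) : pt B f ⟶ Red.Ga (Spec (CommRingCat.of k)) :=
  BGaNotS.gaPt ((Scheme.ΓSpecIso (CommRingCat.of B)).inv b)

theorem gval_gpt (b : B) : gval (gpt f b) = b := by
  rw [gval, gpt, BGaNotS.gaFn_gaPt]
  exact ConcreteCategory.congr_hom (Scheme.ΓSpecIso (CommRingCat.of B)).inv_hom_id b

theorem gval_inj {x y : pt B f ⟶ Red.Ga (Spec (CommRingCat.of k))} (h : gval x = gval y) : x = y :=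
  BGaNotS.gaPt_ext ((ConcreteCategory.bijective_of_isIso (Scheme.ΓSpecIso (CommRingCat.of B)).hom).1 h)

theorem gpt_gval (x : pt B f ⟶ Red.Ga (Spec (CommRingCat.of k))) : gpt f (gval x) = x := gval_inj (gval_gpt _)

theorem gval_mul (x y : pt B f ⟶ Red.Ga (Spec (CommRingCat.of k))) : gval (x * y) = gval x + gval y := by
  rw [gval, BGaNotS.gaFn_mul, map_add]; rfl

theorem gval_one : gval (1 : pt B f ⟶ Red.Ga (Spec (CommRingCat.of k))) = 0 := by
  rw [gval, BGaNotS.gaFn_one, map_zero]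

theorem gpt_add (a b : B) : gpt f (a + b) = gpt f a * gpt f b :=
  gval_inj (by rw [gval_mul, gval_gpt, gval_gpt, gval_gpt])

theorem gpt_zero : gpt f (0 : B) = 1 := gval_inj (by rw [gval_gpt, gval_one])

theorem gpt_neg (a : B) : gpt f (-a) = (gpt f a)⁻¹ :=
  eq_inv_of_mul_eq_one_left (by rw [← gpt_add, neg_add_cancel, gpt_zero])

theorem gval_qm (h : B →+* B') (hf : Spec.map (CommRingCat.ofHom h) ≫ f = f')
    (x : pt B f ⟶ Red.Ga (Spec (CommRingCat.of k))) : gval (qm h hf ≫ x) = h (gval x) := by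
  show (Scheme.ΓSpecIso (CommRingCat.of B')).hom (Red.gaFn (qm h hf ≫ x)) = _
  rw [BGaNotS.gaFn_comp, qm_left]
  exact ConcreteCategory.congr_hom (Scheme.ΓSpecIso_naturality (CommRingCat.ofHom h)) (Red.gaFn x)

theorem qm_gpt (h : B →+* B') (hf : Spec.map (CommRingCat.ofHom h) ≫ f = f') (b : B) :
    qm h hf ≫ gpt f b = gpt f' (h b) := gval_inj (by rw [gval_qm, gval_gpt, gval_gpt])

variable {G : Over (Spec (CommRingCat.of k))} [GrpObj G] {M : Type} [AddCommGroup M]

/-- The action of the torus on a root group. -/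
theorem rootHom_conj {c : Red.DS (Spec (CommRingCat.of k)) M ⟶ G} {a : M}
    {u : Red.Ga (Spec (CommRingCat.of k)) ⟶ G} (hu : Red.IsRootHom c (Red.chi _ a) u)
    (g : pt B f ⟶ Red.DS (Spec (CommRingCat.of k)) M) (x : pt B f ⟶ Red.Ga (Spec (CommRingCat.of k))) :
    (g ≫ c) * (x ≫ u) * (g ≫ c)⁻¹ = gpt f (chv g (Multiplicative.ofAdd a) * gval x) ≫ u := by
  obtain ⟨y, hy, hy'⟩ := hu.2.2 _ g x
  rw [← hy]
  congr 1
  refine gval_inj ?_
  rw [gval_gpt, gval, hy', map_mul, RootIntrinsic.gmFn_chi]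
  rfl

omit [CommRing B'] in
/-- The points contracted by the functional. -/
theorem rootHom_mem_USub [IsAffine G.left] {c : Red.DS (Spec (CommRingCat.of k)) M ⟶ G} [IsMonHom c] {a : M}
    {u : Red.Ga (Spec (CommRingCat.of k)) ⟶ G} (hu : Red.IsRootHom c (Red.chi _ a) u) (mu : M →+ ℤ) (ha : 0 < mu a)
    (x : pt B f ⟶ Red.Ga (Spec (CommRingCat.of k))) :
    x ≫ u ∈ USub f (Red.DSmap (Spec (CommRingCat.of k)) mu ≫ c) := by
  haveI := hu.1
  let h : pt (AddMonoidAlgebra B (NN ℤ)) (fL f (NN ℤ)) ⟶ Red.Ga (Spec (CommRingCat.of k)) :=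
    gpt _ (AddMonoidAlgebra.single ⟨mu a, ha.le⟩ (gval x))
  refine (mem_USub f _).2 ⟨h ≫ u, ?_, ?_⟩
  · rw [← Category.assoc, qz, qm_gpt, z0_single, if_neg (fun e => ha.ne' e), gpt_zero,
      MonObj.one_comp]
  · rw [orb_apply, ← Category.assoc, ← Category.assoc (qc ℤ f), ← Category.assoc (xu f ℤ), rootHom_conj hu, qn, qd,
      qm_gpt, chv_DSmap, chv_xu, qc, gval_qm]
    congr 2
    show AddMonoidAlgebra.mapDomain _ (AddMonoidAlgebra.single _ _) = AddMonoidAlgebra.single _ 1 * AddMonoidAlgebra.single 0 _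
    rw [AddMonoidAlgebra.mapDomain_single, AddMonoidAlgebra.single_mul_single, add_zero, _root_.one_mul]
    rfl

/-- Contracted points with a limit in the other direction are trivial. -/
theorem eq_one_of_opp [IsAffine G.left] {c : Red.DS (Spec (CommRingCat.of k)) M ⟶ G} [IsMonHom c] (mu : M →+ ℤ)
    {g : pt B f ⟶ G} (h1 : g ∈ USub f (Red.DSmap (Spec (CommRingCat.of k)) mu ≫ c))
    (h2 : g ∈ PSub f (Red.DSmap (Spec (CommRingCat.of k)) (-mu) ≫ c)) : g = 1 := by
  refine rp_ext (RingHom.ext fun a => ?_)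
  rw [← sum_wc c a, map_sum, map_sum]
  refine Finset.sum_congr rfl fun m _ => ?_
  obtain ⟨h3, h4⟩ := (mem_USub_iff c mu gens_univ).1 h1
  rcases lt_trichotomy (mu m) 0 with h | h | h
  · rw [(mem_PSub_iff c mu gens_univ).1 h3 a (Set.mem_univ a) m h,
      rp_one_wc c a (fun e => by rw [e, map_zero] at h; omega)]
  · exact h4 a (Set.mem_univ a) m h
  · rw [(mem_PSub_iff c (-mu) gens_univ).1 h2 a (Set.mem_univ a) m (by rw [AddMonoidHom.neg_apply]; omega),
      rp_one_wc c a (fun e => by rw [e, map_zero] at h; omega)]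

/-- Components of contracted vectors. -/
theorem isWt_of_USub [IsAffine G.left] [LocallyOfFiniteType G.hom] {c : Red.DS (Spec (CommRingCat.of k)) M ⟶ G}
    [IsMonHom c] (mu : M →+ ℤ) {d : M}
    (h : ∀ (e : M) (w : Lie G k (fk k)), IsWt c w e → w ≠ 1 → 0 < mu e → e = d) {v : Lie G B f}
    (hv : (v.1 : pt (DualNumber B) (fd f) ⟶ G) ∈ USub (fd f) (Red.DSmap (Spec (CommRingCat.of k)) mu ≫ c)) :
    IsWt c v d := fun x m hm => by
  have hw := (mem_USub_iff c mu gens_univ).1 hv
  rcases lt_trichotomy (mu m) 0 with h' | h' | h'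
  · rw [← rp_vec_snd, (mem_PSub_iff c mu gens_univ).1 hw.1 x (Set.mem_univ x) m h', TrivSqZeroExt.snd_zero]
  · rw [← rp_vec_snd, hw.2 x (Set.mem_univ x) m h']
    by_cases h0 : m = 0
    · rw [show (1 : pt (DualNumber B) (fd f) ⟶ G) =
          qm (algebraMap B (DualNumber B)) (Over.w (proj B f)) ≫ (1 : pt B f ⟶ G) from (MonObj.comp_one _).symm,
        rp_qm, RingHom.comp_apply, TrivSqZeroExt.algebraMap_eq_inl', TrivSqZeroExt.snd_inl]
    · rw [rp_one_wc c x h0, TrivSqZeroExt.snd_zero]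
  · by_contra hne
    obtain ⟨w, hw'⟩ := DynPar.exists_comp c v m
    have hww : IsWt c w m := isWt_of_comp c hw'
    obtain ⟨y, hy, hy1⟩ := exists_wt_field hww (fun e => hne (by rw [← hw', e, Der.dv_one]))
    exact hm (h m y hy hy1 h')

/-- The contracted points form the root group. -/
theorem isU_rootHom [IsAffine G.left] [Smooth G.hom] {c : Red.DS (Spec (CommRingCat.of k)) M ⟶ G} [IsMonHom c] {d : M}
    {u : Red.Ga (Spec (CommRingCat.of k)) ⟶ G} [IsMonHom u] (hu : Red.IsRootHom c (Red.chi _ d) u) (mu : M →+ ℤ)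
    (hd : 0 < mu d) (h1 : ∀ (e : M) (w : Lie G k (fk k)), IsWt c w e → w ≠ 1 → 0 < mu e → e = d)
    (h2 : ∀ w : Lie G k (fk k), IsWt c w d → ∃ r : k, w = r • RootIntrinsic.vU u)
    {X : Over (Spec (CommRingCat.of k))} (g : X ⟶ G)
    (hg : ∀ (B : Type u) [CommRing B] (f : Spec (CommRingCat.of B) ⟶ Spec (CommRingCat.of k)) (y : pt B f ⟶ X),
      y ≫ g ∈ USub f (Red.DSmap (Spec (CommRingCat.of k)) mu ≫ c)) : ∃ x, x ≫ u = g := by
  let S := Spec (CommRingCat.of k)
  haveI := hu.2.1
  haveI : Mono u := Over.mono_of_mono_left u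
  haveI : IsAffineHom G.hom := isAffineHom_of_isAffine G.hom
  let lam := Red.DSmap S mu ≫ c
  obtain ⟨P, _, p, hp⟩ := exists_isP (G := G) lam
  obtain ⟨U, _, uU, hU⟩ := exists_isU (G := G) lam
  obtain ⟨Z', _, z', hz', -, -⟩ := exists_centralizer_DS (G := G) inferInstance inferInstance lam
  haveI := hU.1; haveI := hU.2.1
  haveI : Mono uU := Over.mono_of_mono_left uU
  haveI hUs : Smooth U.hom := (smooth_isU inferInstance hp hU hz').1
  haveI : IsAffine U.left := isAffine_of_isAffineHom uU.left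
  haveI : IsAffineHom U.hom := isAffineHom_of_isAffine U.hom
  obtain ⟨e, he⟩ := hU.exists_le u fun B _ f y => rootHom_mem_USub hu mu hd y
  haveI : IsMonHom e := MTSplit.isMonHom_of_comp_mono e uU u he
  haveI : IsClosedImmersion e.left := by
    haveI : IsClosedImmersion (e.left ≫ uU.left) := by rw [← Over.comp_left, he]; exact hu.2.1
    exact IsClosedImmersion.of_comp e.left uU.left
  have hgeo : ∀ s, ConnectedSpace (Red.geomFibre s U).left := fun s => by
    haveI : IsAffineHom (Red.bc (Red.geomPt s) G).hom :=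
      MorphismProperty.pullback_snd (P := @IsAffineHom) G.hom _ inferInstance
    haveI : IsAffine (Red.bc (Red.geomPt s) G).left := isAffine_of_isAffineHom (Red.bc (Red.geomPt s) G).hom
    haveI : Smooth (Red.bc (Red.geomPt s) G).hom := MorphismProperty.pullback_snd (P := @Smooth) G.hom _ ‹_›
    obtain ⟨-, hc, -⟩ := field_fibre (bcHom' (Red.geomPt s) lam) (hp.bc (Red.geomPt s)) (hU.bc (Red.geomPt s))
    exact hc
  haveI : IsAffine Red.GaZ.left := isAffine_Spec _
  haveI : IsAffineHom (Red.Ga S).hom :=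
    MorphismProperty.pullback_snd (P := @IsAffineHom) Red.GaZ.hom _ (isAffineHom_of_isAffine _)
  haveI : Smooth (Red.Ga S).hom := RedR1.smooth_ga k
  haveI : IsIso e := DynPar.isIso_of_lie e inferInstance hUs inferInstance hgeo fun A _ _ => eq_top_iff.2 fun v _ => by
    have hf : Spec.map (CommRingCat.ofHom (algebraMap k A)) ≫ fk k =
        Spec.map (CommRingCat.ofHom (algebraMap k A)) := by
      rw [fk, Algebra.algebraMap_self, CommRingCat.ofHom_id, Spec.map_id, Category.comp_id]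
    have hv : IsWt c (LieS.map A _ uU v) d :=
      isWt_of_USub mu h1 (hU.exists_fac_iff.1 ⟨(v.1 : pt (DualNumber A) (fd _) ⟶ U), rfl⟩)
    by_cases hv1 : LieS.map A _ uU v = 1
    · rw [show v = 1 from map_injective uU (hv1.trans (map_one _).symm)]
      exact Subgroup.one_mem _
    obtain ⟨b, hb⟩ := wt_vector_eq_smul (c := c) (RootIntrinsic.vU_ne_one u) h2 hf hv
    let w : Lie (Red.Ga S) k (fk k) := ⟨RootIntrinsic.eGa, (mem_Lie_iff _ k _ _).2 RootIntrinsic.zeroSec_eGa⟩
    refine ⟨b • pl (algebraMap k A) hf w, trivial, map_injective uU ?_⟩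
    rw [hb, show LieS.map A _ uU (LieS.map A _ e (b • pl (algebraMap k A) hf w)) =
      LieS.map A _ u (b • pl (algebraMap k A) hf w) from Subtype.ext (by
        show (_ ≫ e) ≫ uU = _ ≫ u
        rw [Category.assoc, he]), map_smul, map_pl]
    rfl
  obtain ⟨z, hz⟩ := hU.exists_le g hg
  exact ⟨z ≫ inv e, by rw [← he, Category.assoc, IsIso.inv_hom_id_assoc, hz]⟩

end Groth.Agent.RootSys
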