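import Groth.Agent.RootSys.FieldGen
import Groth.Agent.RedCartan.Field
import Groth.Agent.DynPar.LieIso
import Groth.Agent.MTBridge.MonoClosed
import Groth.Agent.Chev.TorusBasic

/-!
# Non-zero weights occur over the ground field; a split reductive group without roots is its torus
-/

set_option autoImplicit false
set_option backward.isDefEq.respectTransparency false
set_option linter.style.haveILetI false
set_option maxHeartbeats 1000000
set_option synthInstance.maxHeartbeats 400000

universe u

open CategoryTheory Limits MonoidalCategory CartesianMonoidalCategory MonObj AlgebraicGeometry LieS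
open scoped CategoryTheory.Obj

noncomputable section

namespace Groth.Agent.RootSys

open Groth.Agent.HomDiag Groth.Agent.DynPar
open Groth.Agent.DynPar.Der (dv uB pl sG)

variable {k : Type u} [Field k] {G : Over (Spec (CommRingCat.of k))} [GrpObj G] [IsAffine G.left]
variable {M : Type} [AddCommGroup M] {c : Red.DS (Spec (CommRingCat.of k)) M ⟶ G} [IsMonHom c]

/-- A weight occurring over some algebra occurs over the ground field. -/
theorem exists_wt_field {B : Type u} [CommRing B] {f : Spec (CommRingCat.of B) ⟶ Spec (CommRingCat.of k)}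
    {v : Lie G B f} {d : M} (hv : IsWt c v d) (hv1 : v ≠ 1) :
    ∃ w : Lie G k (fk k), IsWt c w d ∧ w ≠ 1 := by
  obtain ⟨φ, hφ⟩ := Spec.map_surjective f
  letI : Algebra k B := φ.hom.toAlgebra
  have hf : Spec.map (CommRingCat.ofHom φ.hom) ≫ fk k = f := by
    rw [CommRingCat.ofHom_hom, ← hφ]
    show _ ≫ Spec.map _ = _
    rw [Algebra.algebraMap_self, CommRingCat.ofHom_id, Spec.map_id, Category.comp_id]
  obtain ⟨x₀, hx₀⟩ : ∃ x, dv v x ≠ 0 := by
    by_contra! h
    exact hv1 (Der.dv_injective (funext fun x => by rw [Der.dv_one, h]))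
  obtain ⟨lam, hlam⟩ : ∃ lam : B →ₗ[k] k, lam (dv v x₀) ≠ 0 := by
    by_contra! h
    exact hx₀ ((Module.forall_dual_apply_eq_zero_iff k _).1 h)
  have hu : ∀ a, uB G f a = algebraMap k B (uB G (fk k) a) := fun a => uB_map φ.hom hf a
  obtain ⟨δ, hδ⟩ := Der.exists_of_der (G := G) (f := fk k) (fun x => lam (dv v x))
    (fun a b => by rw [Der.dv_add, map_add])
    (fun a b => by
      rw [Der.dv_leibniz, map_add, hu, hu, ← Algebra.smul_def, mul_comm (dv v a), ← Algebra.smul_def, LinearMap.map_smul,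
        LinearMap.map_smul, smul_eq_mul, smul_eq_mul, mul_comm (lam (dv v a))])
    (fun a => by rw [Der.dv_sG, map_zero])
  refine ⟨δ, fun x m hm => ?_, fun h => hlam ?_⟩
  · rw [hδ, hv x m hm, map_zero]
  · rw [← hδ, h, Der.dv_one]

/-- Without non-zero weights a group is its self-centralising torus. -/
theorem isIso_of_no_wt [Smooth G.hom] {T : Over (Spec (CommRingCat.of k))} [GrpObj T] (i : T ⟶ G)
    (hG : Red.IsReductive G) (hT : Red.IsMaximalTorus i) (E : Grp.mk T ≅ Grp.mk (Red.DS (Spec (CommRingCat.of k)) M))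
    [IsMonHom (E.inv.hom.hom ≫ i)]
    (h : ∀ (d : M) (w : Lie G k (fk k)), IsWt (E.inv.hom.hom ≫ i) w d → w ≠ 1 → d = 0) : IsIso i := by
  classical
  haveI := hT.1; haveI := hT.2.1
  haveI : IsAffineHom G.hom := hG.1
  haveI := Chev.locallyOfFiniteType_of_isTorus hT.2.2.1
  haveI := Chev.smooth_of_isTorus hT.2.2.1
  haveI := Chev.isAffine_of_isTorus hT.2.2.1
  haveI : IsAffineHom T.hom := isAffineHom_of_isAffine T.hom
  haveI : IsClosedImmersion i.left := MTBridge.isClosedImmersion_of_mono
    (MTBridge.locally_of_isMultTypeFT' T (MTBridge.isMultTypeFT_of_isTorus T hT.2.2.1)) inferInstance i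
  have hz := RedCartan.isCentralizerOf_self hG i hT
  have h1 : E.hom.hom.hom ≫ E.inv.hom.hom = 𝟙 T := congrArg (fun z => z.hom.hom) E.hom_inv_id
  have hzc : Red.IsCentralizerOf (E.inv.hom.hom ≫ i) i := by
    refine ⟨hz.1, hz.2.1, fun X g => ⟨fun hg X' x t => ?_, fun hg => (hz.2.2 X g).2 fun X' x t => ?_⟩⟩
    · rw [← Category.assoc t]
      exact (hz.2.2 X g).1 hg X' x (t ≫ E.inv.hom.hom)
    · have := hg X' x (t ≫ E.hom.hom.hom)
      rwa [Category.assoc, reassoc_of% h1] at this
  refine DynPar.isIso_of_lie i inferInstance inferInstance inferInstance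
    (fun s => (hG.2.2 s).2.2.1) fun B _ _ => eq_top_iff.2 fun v _ => ?_
  have h0 : IsWt (E.inv.hom.hom ≫ i) v 0 := by
    obtain ⟨F, u, hu, hw, hv⟩ := exists_wt_decomp (E.inv.hom.hom ≫ i) v
    intro x m hm
    rw [← hu]
    by_contra hne
    obtain ⟨w, hw', hw1⟩ := exists_wt_field (hw m) (fun e => hne (by rw [e, Der.dv_one]))
    exact hm (h m w hw' hw1)
  obtain ⟨y, hy⟩ := exists_centralizer_lift hzc ((mem_ZSub_iff_isWt_zero _ v).2 h0)
  let y' : dpt B _ ⟶ T := y
  have hy' : y' ≫ i = v.1 := hy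
  refine ⟨⟨y', (mem_Lie_iff T B _ _).2 ?_⟩, trivial, Subtype.ext hy'⟩
  rw [← cancel_mono i, Category.assoc, hy', (mem_Lie_iff G B _ _).1 v.2, MonObj.one_comp]

end Groth.Agent.RootSys
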