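import Groth.Prelude.Def_W4sga3xxiRoot
import Mathlib.LinearAlgebra.RootSystem.Finite.Lemmas
import Mathlib.LinearAlgebra.RootSystem.Finite.Nondegenerate
import Mathlib.LinearAlgebra.RootSystem.WeylGroup

/-!
# Integral root data: sums of roots and automorphisms

Elementary facts about a finite root pairing over the integers, not assumed reduced.
-/

noncomputable section
open Function Set

namespace Groth.Agent.RootSys

variable {ι M N : Type*} [AddCommGroup M] [AddCommGroup N] {P : RootPairing ι ℤ M N}

/-- The index of the opposite root. -/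
abbrev opp (P : RootPairing ι ℤ M N) (i : ι) : ι := P.reflectionPerm i i

lemma root_opp (i : ι) : P.root (opp P i) = -P.root i := by
  rw [P.root_reflectionPerm, P.reflection_apply_self]

lemma opp_opp (i : ι) : opp P (opp P i) = i :=
  P.root.injective (by rw [root_opp, root_opp, neg_neg])

lemma opp_ne (i : ι) : opp P i ≠ i := fun h => by
  have e := congr_arg (P.coroot' i) (root_opp (P := P) i)
  rw [h, map_neg, P.root_coroot'_eq_pairing, P.pairing_same] at e
  norm_num at e

lemma pairingIn_int (i j : ι) : P.pairingIn ℤ i j = P.pairing i j := by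
  rw [← P.algebraMap_pairingIn ℤ i j]
  rfl

lemma pairing_opp_left (i j : ι) : P.pairing (opp P i) j = -P.pairing i j := by
  rw [← P.root_coroot'_eq_pairing, root_opp, map_neg, P.root_coroot'_eq_pairing]

lemma sub_root_mem [Finite ι] {i j : ι} (h : 0 < P.pairing i j) (h' : i ≠ j) :
    P.root i - P.root j ∈ Set.range P.root :=
  P.root_sub_root_mem_of_pairingIn_pos (by rwa [pairingIn_int]) h'

lemma add_root_mem [Finite ι] {i j : ι} (h : P.pairing i j < 0) (h' : P.root i ≠ -P.root j) :
    P.root i + P.root j ∈ Set.range P.root :=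
  P.root_add_root_mem_of_pairingIn_neg (by rwa [pairingIn_int]) h'

lemma pairing_pos_comm [Finite ι] {i j : ι} : 0 < P.pairing i j ↔ 0 < P.pairing j i := by
  simpa only [pairingIn_int] using P.zero_lt_pairingIn_iff' ℤ (i := i) (j := j)

/-- The sum of the roots in a multiset of indices. -/
abbrev sumRoots (P : RootPairing ι ℤ M N) (s : Multiset ι) : M := (s.map P.root).sum

lemma coroot'_sumRoots (k : ι) (s : Multiset ι) :
    P.coroot' k (sumRoots P s) = (s.map fun a => P.pairing a k).sum := by
  rw [map_multiset_sum, Multiset.map_map]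
  simp only [Function.comp_def, P.root_coroot'_eq_pairing]

lemma exists_pairing_pos {s : Multiset ι} {k : ι} {c : ℕ} (hc : 0 < c)
    (h : c • P.root k = sumRoots P s) : ∃ a ∈ s, 0 < P.pairing a k := by
  by_contra! hle
  have e := congr_arg (P.coroot' k) h
  rw [map_nsmul, P.root_coroot'_eq_pairing, P.pairing_same, coroot'_sumRoots] at e
  have : (s.map fun a => P.pairing a k).sum ≤ 0 := by
    refine le_trans (Multiset.sum_le_card_nsmul _ 0 fun x hx => ?_) (by simp)
    obtain ⟨a, ha, rfl⟩ := Multiset.mem_map.mp hx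
    exact hle a ha
  rw [nsmul_eq_mul] at e
  omega

lemma natSpan_iff {S : Set ι} {x : M} :
    x ∈ RootD.natSpan P S ↔ ∃ s : Multiset ι, (∀ a ∈ s, a ∈ S) ∧ sumRoots P s = x := by
  refine ⟨fun h => ?_, ?_⟩
  · refine AddSubmonoid.closure_induction (motive := fun x _ => ∃ s : Multiset ι, (∀ a ∈ s, a ∈ S) ∧ sumRoots P s = x)
      (fun x hx => ?_) ⟨0, by simp, by simp [sumRoots]⟩ (fun x y _ _ hx hy => ?_) h
    · obtain ⟨a, ha, rfl⟩ := hx
      exact ⟨{a}, by simp [ha], by simp [sumRoots]⟩
    · obtain ⟨s, hs, rfl⟩ := hx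
      obtain ⟨t, ht, rfl⟩ := hy
      exact ⟨s + t, fun a ha => (Multiset.mem_add.mp ha).elim (hs a) (ht a), by simp [sumRoots]⟩
  · rintro ⟨s, hs, rfl⟩
    refine AddSubmonoid.multiset_sum_mem _ _ fun x hx => ?_
    obtain ⟨a, ha, rfl⟩ := Multiset.mem_map.mp hx
    exact AddSubmonoid.subset_closure ⟨a, hs a ha, rfl⟩

lemma root_mem_natSpan {S : Set ι} {a : ι} (ha : a ∈ S) : P.root a ∈ RootD.natSpan P S :=
  AddSubmonoid.subset_closure ⟨a, ha, rfl⟩

lemma natSpan_mono {S T : Set ι} (h : S ⊆ T) : RootD.natSpan P S ≤ RootD.natSpan P T :=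
  AddSubmonoid.closure_mono (Set.image_mono h)

/-- A closed set contains every root that is a sum of some of its roots. -/
lemma mem_of_sum [Finite ι] {S : Set ι} (hS : RootD.IsClosedSub P S) {s : Multiset ι}
    (hs : ∀ a ∈ s, a ∈ S) : ∀ {k : ι}, sumRoots P s = P.root k → k ∈ S := by
  classical
  induction hn : s.card using Nat.strong_induction_on generalizing s with
  | h n ih =>
    intro k hk
    obtain ⟨a, ha, hpos⟩ := exists_pairing_pos (P := P) (s := s) (k := k) one_pos (by simp [hk])
    rcases eq_or_ne k a with rfl | hne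
    · exact hs _ ha
    obtain ⟨j, hj⟩ := sub_root_mem (pairing_pos_comm.mp hpos) hne
    have hsum : sumRoots P (s.erase a) = P.root j := by
      rw [hj, ← hk]
      conv_rhs => rw [← Multiset.cons_erase ha]
      simp [sumRoots]
    have hlt : (s.erase a).card < n := hn ▸ Multiset.card_erase_lt_of_mem ha
    exact hS (hs a ha) (ih _ hlt (fun b hb => hs b (Multiset.mem_of_mem_erase hb)) rfl hsum)
      (by rw [hj]; abel)

lemma isClosedSub_iff [Finite ι] (S : Set ι) :
    RootD.IsClosedSub P S ↔ ∀ k, P.root k ∈ RootD.natSpan P S → k ∈ S := by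
  refine ⟨fun h k hk => ?_, fun h i j k hi hj hk => h k ?_⟩
  · obtain ⟨s, hs, hsum⟩ := natSpan_iff.mp hk
    exact mem_of_sum h hs hsum
  · rw [hk]
    exact add_mem (root_mem_natSpan hi) (root_mem_natSpan hj)

/-- A closed set without opposite roots has no vanishing sum. -/
lemma sum_ne_zero [Finite ι] {S : Set ι} (hS : RootD.IsClosedSub P S) (hd : ∀ i ∈ S, opp P i ∉ S)
    {s : Multiset ι} (hs : ∀ a ∈ s, a ∈ S) (h0 : s ≠ 0) : sumRoots P s ≠ 0 := by
  classical
  induction hn : s.card using Nat.strong_induction_on generalizing s with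
  | h n ih =>
    intro hsum
    obtain ⟨a, ha⟩ := Multiset.exists_mem_of_ne_zero h0
    obtain ⟨t, rfl⟩ := Multiset.exists_cons_of_mem ha
    have e := congr_arg (P.coroot' a) hsum
    rw [coroot'_sumRoots, map_zero, Multiset.map_cons, Multiset.sum_cons, P.pairing_same] at e
    obtain ⟨b, hb, hneg⟩ : ∃ b ∈ t, P.pairing b a < 0 := by
      by_contra! hle
      have : 0 ≤ (t.map fun b => P.pairing b a).sum := Multiset.sum_nonneg fun x hx => by
        obtain ⟨b, hb, rfl⟩ := Multiset.mem_map.mp hx
        exact hle b hb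
      omega
    have haS := hs a (Multiset.mem_cons_self _ _)
    have hbS := hs b (Multiset.mem_cons_of_mem hb)
    have hne : P.root b ≠ -P.root a := fun h =>
      hd a haS (by rwa [show opp P a = b from P.root.injective (by rw [root_opp, h])])
    obtain ⟨c, hc⟩ := add_root_mem hneg hne
    obtain ⟨t', rfl⟩ := Multiset.exists_cons_of_mem hb
    refine ih (c ::ₘ t').card (by simp [← hn]) (fun x hx => ?_) (Multiset.cons_ne_zero) rfl ?_
    · rcases Multiset.mem_cons.mp hx with rfl | hx
      · exact hS hbS haS hc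
      · exact hs x (by simp [hx])
    · rw [← hsum]
      simp [sumRoots, hc]
      abel

/-- Positive systems are the closed sets meeting each pair of opposite roots once. -/
lemma isPosSys_iff [Finite ι] (S : Set ι) : RootD.IsPosSys P S ↔
    ((∀ i ∈ S, opp P i ∉ S) ∧ (∀ i, i ∈ S ∨ opp P i ∈ S) ∧ RootD.IsClosedSub P S) := by
  refine ⟨fun h => ⟨fun i hi => h.disjoint hi, h.cover, fun i j k hi hj hk => h.sat 1 one_pos ?_⟩,
    fun ⟨hd, hc, hS⟩ => ⟨fun i hi => hd i hi, hc, fun k n hn hk => ?_⟩⟩
  · rw [one_smul, hk]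
    exact add_mem (root_mem_natSpan hi) (root_mem_natSpan hj)
  · by_contra hkS
    have hopp := (hc k).resolve_left hkS
    obtain ⟨s, hs, hsum⟩ := natSpan_iff.mp hk
    refine sum_ne_zero hS hd (s := Multiset.replicate n (opp P k) + s) (fun a ha => ?_) ?_ ?_
    · rcases Multiset.mem_add.mp ha with h | h
      · exact Multiset.eq_of_mem_replicate h ▸ hopp
      · exact hs a h
    · intro h
      have := congr_arg Multiset.card h
      simp at this
      omega
    · rw [sumRoots, Multiset.map_add, Multiset.sum_add, show (s.map P.root).sum = n • P.root k from hsum]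
      simp [root_opp]

lemma IsPosSys.closed [Finite ι] {S : Set ι} (h : RootD.IsPosSys P S) : RootD.IsClosedSub P S :=
  ((isPosSys_iff S).mp h).2.2

lemma IsPosSys.opp_mem_iff {S : Set ι} (h : RootD.IsPosSys P S) (i : ι) : opp P i ∈ S ↔ i ∉ S :=
  ⟨fun hi hiS => h.disjoint hiS hi, fun hi => (h.cover i).resolve_left hi⟩

/-! Automorphisms -/

lemma root_smul (g : P.Aut) (i : ι) : P.root (g • i) = g • P.root i :=
  RootPairing.Equiv.root_indexEquiv_eq_smul P i g

lemma reflection_smul_index (i k : ι) : RootPairing.Equiv.reflection P i • k = P.reflectionPerm i k := rfl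

lemma root_reflection_smul (i k : ι) :
    P.root (RootPairing.Equiv.reflection P i • k) = P.root k - P.pairing k i • P.root i := by
  rw [reflection_smul_index, P.root_reflectionPerm, P.reflection_apply_root]

lemma reflection_smul_self (i : ι) : RootPairing.Equiv.reflection P i • i = opp P i := rfl

lemma smul_opp (g : P.Aut) (i : ι) : g • opp P i = opp P (g • i) :=
  P.root.injective (by rw [root_smul, root_opp, smul_neg, root_opp, root_smul])

lemma coroot'_smul (g : P.Aut) (i : ι) (x : M) : P.coroot' (g • i) (g • x) = P.coroot' i x := by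
  show P.toLinearMap (g • x) (P.coroot (g • i)) = P.toLinearMap x (P.coroot i)
  have e := LinearMap.congr_fun
    (RootPairing.Hom.weight_coweight_transpose_apply P P (P.coroot (g • i)) g.toHom) x
  rw [RootPairing.Hom.coroot_coweightMap_apply, show g.toHom.indexEquiv.symm (g • i) = i from
    g.toHom.indexEquiv.symm_apply_apply i] at e
  exact e

lemma pairing_smul (g : P.Aut) (i j : ι) : P.pairing (g • i) (g • j) = P.pairing i j := by
  rw [← P.root_coroot'_eq_pairing, root_smul, coroot'_smul, P.root_coroot'_eq_pairing]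

lemma aut_ext {g h : P.Aut} (H : ∀ x : M, g • x = h • x) : g = h :=
  RootPairing.Equiv.weightHom_injective P (LinearEquiv.ext H)

lemma conj_reflection (u : P.Aut) (i : ι) :
    u * RootPairing.Equiv.reflection P i * u⁻¹ = RootPairing.Equiv.reflection P (u • i) := by
  refine aut_ext fun x => ?_
  rw [mul_smul, mul_smul, RootPairing.Equiv.reflection_smul, RootPairing.Equiv.reflection_smul,
    P.reflection_apply, P.reflection_apply, smul_sub, smul_inv_smul, smul_comm u, root_smul]
  congr 2
  rw [← coroot'_smul u i (u⁻¹ • x), smul_inv_smul]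

lemma reflection_mul_self (i : ι) :
    RootPairing.Equiv.reflection P i * RootPairing.Equiv.reflection P i = 1 :=
  aut_ext fun x => by
    rw [mul_smul, one_smul, RootPairing.Equiv.reflection_smul, RootPairing.Equiv.reflection_smul,
      P.reflection_same]

lemma isClosedSub_preimage {S : Set ι} (h : RootD.IsClosedSub P S) (g : P.Aut) :
    RootD.IsClosedSub P {k | g • k ∈ S} := fun i j k hi hj hk =>
  h hi hj (by rw [root_smul, hk, smul_add, root_smul, root_smul])

end Groth.Agent.RootSys
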