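import Groth.Agent.RootSys.BorelSplit
import Groth.Agent.RootSys.FieldRed

/-!
# Subgroups with limits and signs of weights; root groups in them
-/

set_option autoImplicit false
set_option backward.isDefEq.respectTransparency false
set_option linter.style.haveILetI false
set_option maxHeartbeats 1000000
set_option synthInstance.maxHeartbeats 400000

universe u

open CategoryTheory Limits MonoidalCategory CartesianMonoidalCategory MonObj AlgebraicGeometry LieS
open scoped CategoryTheory.Obj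

noncomputable section

namespace Groth.Agent.RootSys

open Groth.Agent.HomDiag Groth.Agent.DynPar
open Groth.Agent.DynPar.Der (dv uB pl sG)

variable {k : Type u} [Field k] {G : Over (Spec (CommRingCat.of k))} [GrpObj G] [IsAffine G.left]
variable {M : Type} [AddCommGroup M] (c : Red.DS (Spec (CommRingCat.of k)) M ⟶ G) [IsMonHom c]

/-- The group of limits only shrinks with fewer non-negative weights. -/
theorem le_of_sign [Smooth G.hom] (mu nu : M →+ ℤ) {P Q : Over (Spec (CommRingCat.of k))} [GrpObj P] [GrpObj Q]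
    {p : P ⟶ G} {q : Q ⟶ G} (hp : IsP (Red.DSmap _ mu ≫ c) p) (hq : IsP (Red.DSmap _ nu ≫ c) q)
    (hconn : ∀ s, ConnectedSpace (Red.geomFibre s P).left)
    (h : ∀ (d : M) (v : Lie G k (fk k)), IsWt c v d → v ≠ 1 → 0 ≤ mu d → 0 ≤ nu d) :
    ∃ e : P ⟶ Q, e ≫ q = p := by
  classical
  let S := Spec (CommRingCat.of k)
  haveI := hp.1; haveI := hp.2.1
  haveI : IsAffineHom G.hom := isAffineHom_of_isAffine G.hom
  haveI : IsAffine P.left := isAffine_of_isAffineHom p.left
  haveI : IsAffineHom P.hom := isAffineHom_of_isAffine P.hom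
  haveI : Smooth P.hom := smooth_isP inferInstance _ hp
  haveI : Mono p := Over.mono_of_mono_left p
  obtain ⟨cP, hcP⟩ := hp.exists_le c fun A _ f y => ZSub_le_PSub f _ (comp_mem_ZSub c mu y)
  haveI : IsMonHom cP := MTSplit.isMonHom_of_comp_mono cP p c hcP
  obtain ⟨P', _, p', hp'⟩ := exists_isP (G := P) (Red.DSmap S nu ≫ cP)
  haveI := hp'.1; haveI := hp'.2.1
  haveI : IsIso p' := by
    refine DynPar.isIso_of_lie p' (smooth_isP inferInstance _ hp') inferInstance inferInstance hconn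
      fun B _ _ => eq_top_iff.2 fun v _ => ?_
    obtain ⟨F, u, hu, hw, hv⟩ := exists_wt_decomp cP v
    rw [hv]
    refine Subgroup.prod_mem _ fun d _ => ?_
    by_cases h1 : u d = 1
    · rw [h1]; exact Subgroup.one_mem _
    have hwG : IsWt c (LieS.map B _ p (u d)) d := IsWt.map (c := cP) (φ := p) (hw d) c hcP
    have hne : LieS.map B _ p (u d) ≠ 1 := fun e => h1 (map_injective p (e.trans (map_one _).symm))
    have hmu : 0 ≤ mu d := by
      by_contra hneg
      refine hne (Der.dv_injective (funext fun x => ?_))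
      rw [Der.dv_one, ← hwG.dv_wc_self]
      exact dv_map_eq_zero p _ (appTop_wc_eq_zero c mu hp x (not_le.1 hneg))
    obtain ⟨w, hw', hw1⟩ := exists_wt_field hwG hne
    obtain ⟨y, hy⟩ := exists_map_eq cP nu hp' (hw d) (h d w hw' hw1 hmu)
    exact ⟨y, trivial, hy⟩
  refine hq.exists_le p fun B _ f y => ?_
  rw [← hcP, ← Category.assoc]
  exact comp_mem_PSub f _ p (hp'.exists_fac_iff.1 ⟨y ≫ inv p', by
    rw [Category.assoc, IsIso.inv_hom_id, Category.comp_id]⟩)

omit [IsAffine G.left] in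
/-- A root homomorphism lands in the group of limits when its weight is non-negative. -/
theorem rootHom_le {T : Over (Spec (CommRingCat.of k))} [GrpObj T] {i : T ⟶ G}
    (E : Grp.mk T ≅ Grp.mk (Red.DS (Spec (CommRingCat.of k)) M)) [IsMonHom (E.inv.hom.hom ≫ i)] {a : M}
    {u : Red.Ga (Spec (CommRingCat.of k)) ⟶ G} [IsMonHom u]
    (hu : Red.IsRootHom i (E.hom.hom.hom ≫ Red.chi _ a) u) (mu : M →+ ℤ) (ha : 0 ≤ mu a)
    {P : Over (Spec (CommRingCat.of k))} [GrpObj P] {p : P ⟶ G}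
    (hp : IsP (Red.DSmap _ mu ≫ E.inv.hom.hom ≫ i) p) : ∃ f, f ≫ p = u := by
  refine hp.exists_le u fun B _ f x => ?_
  have h2 : E.inv.hom.hom ≫ E.hom.hom.hom = 𝟙 _ := congrArg (fun z => z.hom.hom) E.inv_hom_id
  obtain ⟨y, hy, hy'⟩ := hu.2.2 (pt (AddMonoidAlgebra B ℤ) (fL f ℤ))
    (xu f ℤ ≫ Red.DSmap _ mu ≫ E.inv.hom.hom) (qc ℤ f ≫ x)
  refine (mem_PSub f _).2 ⟨BGaNotS.gaPt ((Scheme.ΓSpecIso (CommRingCat.of (AddMonoidAlgebra B (NN ℤ)))).inv
    (AddMonoidAlgebra.single ⟨mu a, ha⟩ ((Scheme.ΓSpecIso (CommRingCat.of B)).hom (Red.gaFn x)))) ≫ u, ?_⟩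
  rw [Category.assoc, Category.assoc, Category.assoc] at hy
  rw [orb_apply, ← hy, ← Category.assoc]
  refine congrArg (· ≫ u) (BGaNotS.gaPt_ext ?_)
  have hc : ch (xu f ℤ) (Multiplicative.ofAdd (mu a)) =
      (Scheme.ΓSpecIso (CommRingCat.of (AddMonoidAlgebra B ℤ))).inv (AddMonoidAlgebra.single (mu a) 1) := by
    rw [show AddMonoidAlgebra.single (mu a) (1 : B) = chv (xu f ℤ) (Multiplicative.ofAdd (mu a)) from
      (chv_xu f ℤ (Multiplicative.ofAdd (mu a))).symm]
    exact (ConcreteCategory.congr_hom (Scheme.ΓSpecIso (CommRingCat.of (AddMonoidAlgebra B ℤ))).hom_inv_id _).symm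
  have hx : Red.gaFn x = (Scheme.ΓSpecIso (CommRingCat.of B)).inv ((Scheme.ΓSpecIso (CommRingCat.of B)).hom (Red.gaFn x)) :=
    (ConcreteCategory.congr_hom (Scheme.ΓSpecIso (CommRingCat.of B)).hom_inv_id _).symm
  rw [hy', BGaNotS.gaFn_comp, BGaNotS.gaFn_gaPt, BGaNotS.gaFn_comp, ← Category.assoc (xu f ℤ) (Red.DSmap _ mu),
    Category.assoc _ E.inv.hom.hom, reassoc_of% h2, RootIntrinsic.gmFn_chi, ch_DSmap]
  show (qn f ℤ).left.appTop _ = ch (xu f ℤ) (Multiplicative.ofAdd (mu a)) * (qc ℤ f).left.appTop _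
  rw [hc, hx]
  refine (LieWeight.appTop_comp_inv _ _).trans (Eq.trans ?_ (congrArg _ (LieWeight.appTop_comp_inv (cC B ℤ) _)).symm)
  rw [← hx]
  refine Eq.trans ?_ (map_mul _ _ _)
  congr 1
  show AddMonoidAlgebra.mapDomain _ (AddMonoidAlgebra.single _ _) = AddMonoidAlgebra.single _ _ * AddMonoidAlgebra.single 0 _
  rw [AddMonoidAlgebra.mapDomain_single, AddMonoidAlgebra.single_mul_single, add_zero, _root_.one_mul]
  rfl

end Groth.Agent.RootSys
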