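import Groth.Agent.RootSys.RootU
import Groth.Agent.RootSys.Field
import Groth.Agent.Chev.CommSubgroup
import Groth.Agent.S16480

/-!
# Central one-parameter subgroups killed by all characters are trivial

A faithful representation splits into the isotypic parts of a central one-parameter subgroup; the determinants of the
parts are characters detecting it.
-/

set_option autoImplicit false
set_option backward.isDefEq.respectTransparency false
set_option linter.style.haveILetI false
set_option maxHeartbeats 1000000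
set_option synthInstance.maxHeartbeats 400000

universe u

open CategoryTheory Limits MonoidalCategory CartesianMonoidalCategory MonObj AlgebraicGeometry LieS
open scoped CategoryTheory.Obj

noncomputable section

namespace Groth.Agent.RootSys

open Groth.Agent.HomDiag Groth.Agent.DynPar
open Groth.Agent.DynPar.Der (sG)

variable {k : Type u} [Field k] {G : Over (Spec (CommRingCat.of k))} [GrpObj G] {n : ℕ}

/-- The matrix of a point of a representation. -/
def repMat (u : G ⟶ AdjRep.GLSpec k n) {X : Over (Spec (CommRingCat.of k))} (g : X ⟶ G) :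
    Matrix (Fin n) (Fin n) Γ(X.left, ⊤) :=
  fun i j => AffHull.fn (g ≫ u).left (CoordGrp.GLn.X i j)

theorem repMat_comp (u : G ⟶ AdjRep.GLSpec k n) {X Y : Over (Spec (CommRingCat.of k))} (t : Y ⟶ X) (g : X ⟶ G) :
    repMat u (t ≫ g) = (repMat u g).map t.left.appTop.hom := by
  ext i j
  show AffHull.fn ((t ≫ g) ≫ u).left _ = _
  rw [Category.assoc]
  exact AffHull.fn_comp t.left (g ≫ u).left _

theorem repMat_mul (u : G ⟶ AdjRep.GLSpec k n) [IsMonHom u] {X : Over (Spec (CommRingCat.of k))} (g h : X ⟶ G) :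
    repMat u (g * h) = repMat u g * repMat u h := by
  ext i j
  obtain ⟨Φ, hΦ, hm⟩ := AffHull.exists_fn_mul (A := CoordGrp.GLn n k) (g ≫ u) (h ≫ u)
  show AffHull.fn ((g * h) ≫ u).left _ = _
  rw [MonObj.mul_comp, hm, CoordGrp.GLn.comul_X, map_sum, Matrix.mul_apply]
  exact Finset.sum_congr rfl fun l _ => hΦ _ _

set_option synthInstance.maxHeartbeats 2000000 in
set_option maxHeartbeats 4000000 in
theorem repMat_one (u : G ⟶ AdjRep.GLSpec k n) [IsMonHom u] {X : Over (Spec (CommRingCat.of k))} :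
    repMat u (1 : X ⟶ G) = 1 := by
  ext i j
  show AffHull.fn ((1 : X ⟶ G) ≫ u).left _ = _
  rw [MonObj.one_comp, AffHull.fn_one, CoordGrp.GLn.counit_X, Matrix.one_apply]
  split_ifs
  · exact map_one (AffHull.fn (A := CommRingCat.of k) _)
  · exact map_zero (AffHull.fn (A := CommRingCat.of k) _)

theorem repMat_ext (u : G ⟶ AdjRep.GLSpec k n) [Mono u] {X : Over (Spec (CommRingCat.of k))} {g h : X ⟶ G}
    (e : repMat u g = repMat u h) : g = h :=
  (cancel_mono u).1 (AdjRep.gl_ext fun i j => congrFun (congrFun e i) j)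

/-- The matrix of an affine point, with entries in its ring. -/
def repV (u : G ⟶ AdjRep.GLSpec k n) {B : Type u} [CommRing B] {f : Spec (CommRingCat.of B) ⟶ Spec (CommRingCat.of k)}
    (g : pt B f ⟶ G) : Matrix (Fin n) (Fin n) B :=
  (repMat u g).map (Scheme.ΓSpecIso (CommRingCat.of B)).hom.hom

theorem repV_qm (u : G ⟶ AdjRep.GLSpec k n) {B B' : Type u} [CommRing B] [CommRing B']
    {f : Spec (CommRingCat.of B) ⟶ Spec (CommRingCat.of k)} {f' : Spec (CommRingCat.of B') ⟶ Spec (CommRingCat.of k)}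
    (h : B →+* B') (hf : Spec.map (CommRingCat.ofHom h) ≫ f = f') (g : pt B f ⟶ G) :
    repV u (qm h hf ≫ g) = (repV u g).map h := by
  ext i j
  rw [repV, repMat_comp]
  exact ConcreteCategory.congr_hom (Scheme.ΓSpecIso_naturality (CommRingCat.ofHom h)) (repMat u g i j)

theorem repV_mul (u : G ⟶ AdjRep.GLSpec k n) [IsMonHom u] {B : Type u} [CommRing B]
    {f : Spec (CommRingCat.of B) ⟶ Spec (CommRingCat.of k)} (g h : pt B f ⟶ G) :
    repV u (g * h) = repV u g * repV u h := by
  rw [repV, repMat_mul]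
  exact Matrix.map_mul

theorem repV_one (u : G ⟶ AdjRep.GLSpec k n) [IsMonHom u] {B : Type u} [CommRing B]
    {f : Spec (CommRingCat.of B) ⟶ Spec (CommRingCat.of k)} : repV u (1 : pt B f ⟶ G) = 1 := by
  rw [repV, repMat_one]
  exact Matrix.map_one _ (map_zero _) (map_one _)

theorem repV_ext (u : G ⟶ AdjRep.GLSpec k n) [Mono u] {B : Type u} [CommRing B]
    {f : Spec (CommRingCat.of B) ⟶ Spec (CommRingCat.of k)} {g h : pt B f ⟶ G} (e : repV u g = repV u h) : g = h :=
  repMat_ext u (Matrix.map_injective (ConcreteCategory.bijective_of_isIso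
    (Scheme.ΓSpecIso (CommRingCat.of B)).hom).1 e)

/-- Powers of a nontrivial character are transcendental. -/
theorem single_transcendental {gm : ℤ} (hγ : gm ≠ 0) :
    Function.Injective (Polynomial.aeval (R := k) (AddMonoidAlgebra.single gm (1 : k) : AddMonoidAlgebra k ℤ)) := by
  intro p q h
  ext m
  have key : ∀ p : Polynomial k, (Polynomial.aeval (AddMonoidAlgebra.single gm (1 : k) : AddMonoidAlgebra k ℤ) p).coeff
      ((m : ℤ) * gm) = p.coeff m := fun p => by
    induction p using Polynomial.induction_on' with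
    | add p q hp hq => rw [map_add, AddMonoidAlgebra.coeff_add, Finsupp.add_apply, hp, hq, Polynomial.coeff_add]
    | monomial l a =>
      rw [Polynomial.aeval_monomial, AddMonoidAlgebra.single_pow, one_pow, AddMonoidAlgebra.coe_algebraMap]
      simp only [Algebra.algebraMap_self, RingHom.id_apply, Function.comp_apply, AddMonoidAlgebra.single_mul_single,
        zero_add, _root_.mul_one, AddMonoidAlgebra.coeff_single, Finsupp.single_apply, Polynomial.coeff_monomial,
        nsmul_eq_mul]
      refine if_congr ⟨fun h => ?_, fun h => by rw [h]⟩ rfl rfl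
      exact_mod_cast mul_right_cancel₀ hγ h
  rw [← key p, ← key q, h]

/-- An idempotent with `det (1 + (T^gm - 1) P) = 1` vanishes. -/
theorem eq_zero_of_det {gm : ℤ} (hγ : gm ≠ 0) {P : Matrix (Fin n) (Fin n) k} (hP : P * P = P)
    (h : (1 + ((AddMonoidAlgebra.single gm (1 : k) : AddMonoidAlgebra k ℤ) - 1) •
      P.map (algebraMap k (AddMonoidAlgebra k ℤ))).det = 1) : P = 0 := by
  let Q : Matrix (Fin n) (Fin n) (Polynomial k) := 1 + ((Polynomial.X : Polynomial k) - 1) • P.map Polynomial.C
  have hQ1 : Q.det = 1 := single_transcendental hγ (by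
    rw [map_one, ← h, AlgHom.map_det]
    congr 1
    ext i j
    simp only [Q, AlgHom.mapMatrix_apply, Matrix.map_apply, Matrix.add_apply, Matrix.smul_apply, smul_eq_mul, map_add,
      map_mul, map_sub, map_one, Polynomial.aeval_X, Polynomial.aeval_C, Matrix.one_apply, apply_ite
      (Polynomial.aeval (AddMonoidAlgebra.single gm (1 : k) : AddMonoidAlgebra k ℤ)), map_zero])
  have h0 : (1 - P).det = 1 := by
    have := congrArg (Polynomial.evalRingHom (0 : k)) hQ1
    rw [map_one, RingHom.map_det] at this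
    rw [← this]
    congr 1
    ext i j
    simp only [Q, RingHom.mapMatrix_apply, Matrix.map_apply, Matrix.add_apply, Matrix.smul_apply, smul_eq_mul,
      Matrix.sub_apply, Matrix.one_apply]
    split <;> simp [sub_eq_add_neg]
  have hu : IsUnit (1 - P) := (Matrix.isUnit_iff_isUnit_det _).2 (by rw [h0]; exact isUnit_one)
  refine hu.mul_right_eq_zero.1 ?_
  rw [sub_mul, _root_.one_mul, hP, sub_self]

/-- An affine group of finite type over a field is a closed subgroup of a general linear group. -/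
theorem exists_closedImmersion_GLSpec' (P : Over (Spec (CommRingCat.of k))) [GrpObj P] [IsAffine P.left]
    [LocallyOfFiniteType P.hom] :
    ∃ (n : ℕ) (u : P ⟶ AdjRep.GLSpec k n), IsMonHom u ∧ IsClosedImmersion u.left := by
  obtain ⟨A, _, e, he⟩ := FinHopf.exists_hopf (R := CommRingCat.of k) P
  haveI := he
  haveI : IsIso e.hom.left := inferInstanceAs (IsIso ((Over.forget _).map e.hom))
  haveI : IsIso e.inv.left := inferInstanceAs (IsIso ((Over.forget _).map e.inv))
  have hfin : (algebraMap k A).FiniteType := by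
    have h0 : LocallyOfFiniteType (e.hom.left ≫ P.hom) := inferInstance
    rw [Over.w e.hom] at h0
    exact (HasRingHomProperty.Spec_iff (P := @LocallyOfFiniteType)).1 h0
  haveI : Algebra.FiniteType k A := RingHom.finiteType_algebraMap.1 hfin
  obtain ⟨n, π, hπ⟩ := S16480.result k A
  let m := (hopfSpec (CommRingCat.of k)).map (CommHopfAlgCat.ofHom π).op
  let v : (Spec A).asOver (Spec (CommRingCat.of k)) ⟶ AdjRep.GLSpec k n := m.hom.hom
  haveI : IsMonHom v := m.hom.isMonHom_hom
  haveI : IsClosedImmersion v.left := IsClosedImmersion.spec_of_surjective _ hπ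
  exact ⟨n, e.inv ≫ v, inferInstance, by rw [Over.comp_left]; infer_instance⟩

/-- **A central one-parameter subgroup killed by every character is trivial.** -/
theorem central_eq_one [IsAffine G.left] [LocallyOfFiniteType G.hom]
    (c : Red.DS (Spec (CommRingCat.of k)) ℤ ⟶ G) [IsMonHom c]
    (hcen : ∀ (X : Over (Spec (CommRingCat.of k))) (g : X ⟶ G) (s : X ⟶ Red.DS (Spec (CommRingCat.of k)) ℤ),
      g * (s ≫ c) = (s ≫ c) * g)
    (hχ : ∀ (χ : G ⟶ Red.Gm (Spec (CommRingCat.of k))) [IsMonHom χ], c ≫ χ = 1) : c = 1 := by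
  classical
  obtain ⟨n, u, hu, hucl⟩ := exists_closedImmersion_GLSpec' G
  haveI := hu; haveI := hucl
  haveI : IsPreimmersion u.left := inferInstance
  haveI : Mono u.left := (show ∀ {X Y : Scheme.{u}} (f : X ⟶ Y) [IsPreimmersion f], Mono f from
    fun f _ => inferInstance) u.left
  haveI : Mono u := Over.mono_of_mono_left u
  let f₀ := fk k
  let A₁ := AddMonoidAlgebra k ℤ
  let x : pt A₁ (fL f₀ ℤ) ⟶ Red.DS (Spec (CommRingCat.of k)) ℤ := xu f₀ ℤ
  let Pt : Matrix (Fin n) (Fin n) A₁ := repV u (x ≫ c)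
  let P : ℤ → Matrix (Fin n) (Fin n) k := fun gm => Pt.map fun z => z.coeff gm
  have hexp : ∀ (B : Type u) [CommRing B] (fB : Spec (CommRingCat.of B) ⟶ Spec (CommRingCat.of k)) (φ : k →+* B)
      (hφ : Spec.map (CommRingCat.ofHom φ) ≫ f₀ = fB) (s : pt B fB ⟶ Red.DS (Spec (CommRingCat.of k)) ℤ),
      repV u (s ≫ c) = Pt.map (AddMonoidAlgebra.liftNCRingHom φ (chv s) fun _ _ => Commute.all _ _) := by
    intro B _ fB φ hφ s
    have hθ : Spec.map (CommRingCat.ofHom (AddMonoidAlgebra.liftNCRingHom φ (chv s) fun _ _ => Commute.all _ _)) ≫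
        fL f₀ ℤ = fB := by
      rw [fL, ← Category.assoc, ← Spec.map_comp, ← CommRingCat.ofHom_comp]
      refine Eq.trans ?_ hφ
      congr 3
      ext r
      show AddMonoidAlgebra.liftNC _ _ (AddMonoidAlgebra.single 0 r) = φ r
      rw [AddMonoidAlgebra.liftNC_single]
      simp
    have hs : s = qm _ hθ ≫ x := chv_ext fun m => by
      rw [chv_qm, chv_xu]
      show _ = AddMonoidAlgebra.liftNC _ _ (AddMonoidAlgebra.single _ 1)
      rw [AddMonoidAlgebra.liftNC_single]
      simp
    rw [hs, Category.assoc, repV_qm, ← hs]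
  -- orthogonal idempotents
  let B₂ := AddMonoidAlgebra A₁ ℤ
  let x₁ : pt B₂ (fL (fL f₀ ℤ) ℤ) ⟶ Red.DS (Spec (CommRingCat.of k)) ℤ := qc ℤ (fL f₀ ℤ) ≫ x
  let x₂ : pt B₂ (fL (fL f₀ ℤ) ℤ) ⟶ Red.DS (Spec (CommRingCat.of k)) ℤ := xu (fL f₀ ℤ) ℤ
  let φ₂ : k →+* B₂ := (cC A₁ ℤ).comp (cC k ℤ)
  have hφ₂ : Spec.map (CommRingCat.ofHom φ₂) ≫ f₀ = fL (fL f₀ ℤ) ℤ := by
    rw [CommRingCat.ofHom_comp, Spec.map_comp, Category.assoc]
  have hc1 : ∀ i j δ gm, ((repV u (x₁ ≫ c) i j).coeff δ).coeff gm = if δ = 0 then P gm i j else 0 := by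
    intro i j δ gm
    rw [show repV u (x₁ ≫ c) = Pt.map (cC A₁ ℤ) by
      rw [show x₁ ≫ c = qc ℤ (fL f₀ ℤ) ≫ x ≫ c from Category.assoc _ _ _]; exact repV_qm u _ _ _]
    show ((AddMonoidAlgebra.single 0 (Pt i j) : B₂).coeff δ).coeff gm = _
    rw [AddMonoidAlgebra.coeff_single, Finsupp.single_apply]
    by_cases h : δ = 0
    · subst h; rw [if_pos rfl, if_pos rfl]; rfl
    · rw [if_neg (Ne.symm h), if_neg h]; rfl
  have hlift : ∀ (s : pt B₂ (fL (fL f₀ ℤ) ℤ) ⟶ Red.DS (Spec (CommRingCat.of k)) ℤ) (e : ℤ → ℤ × ℤ),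
      Function.Injective e → (∀ m : ℤ, chv s (Multiplicative.ofAdd m) =
        AddMonoidAlgebra.single (e m).1 (AddMonoidAlgebra.single (e m).2 1)) →
      ∀ i j m, ((repV u (s ≫ c) i j).coeff (e m).1).coeff (e m).2 = P m i j ∧
        ∀ δ gm, (δ, gm) ∉ Set.range e → ((repV u (s ≫ c) i j).coeff δ).coeff gm = 0 := by
    intro s e he hs i j
    rw [hexp B₂ _ φ₂ hφ₂ s, Matrix.map_apply]
    have key : ∀ (z : A₁) (δ gm : ℤ),
        ((AddMonoidAlgebra.liftNCRingHom φ₂ (chv s) (fun _ _ => Commute.all _ _) z).coeff δ).coeff gm =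
          z.coeff.sum fun m r => if e m = (δ, gm) then r else 0 := by
      intro z δ gm
      induction z using AddMonoidAlgebra.induction_linear with
      | zero => simp
      | add p q hp hq =>
        let F := AddMonoidAlgebra.liftNCRingHom φ₂ (chv s) (fun _ _ => Commute.all _ _)
        have e0 : ((F (p + q)).coeff δ).coeff gm = ((F p).coeff δ).coeff gm + ((F q).coeff δ).coeff gm := by
          rw [map_add]; rfl
        refine e0.trans ((congrArg₂ (· + ·) hp hq).trans ?_)
        erw [AddMonoidAlgebra.coeff_add, Finsupp.sum_add_index' (fun _ => by simp) (fun _ a b => by split <;> simp)]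
      | single m r =>
        rw [AddMonoidAlgebra.coeff_single, Finsupp.sum_single_index (by simp)]
        show (((AddMonoidAlgebra.liftNC (φ₂ : k →+ B₂) (chv s) (AddMonoidAlgebra.single m r)) : B₂).coeff δ).coeff gm = _
        rw [AddMonoidAlgebra.liftNC_single]
        show ((φ₂ r * chv s (Multiplicative.ofAdd m)).coeff δ).coeff gm = _
        rw [hs m]
        show (((AddMonoidAlgebra.single 0 (AddMonoidAlgebra.single 0 r : A₁) : B₂) *
          AddMonoidAlgebra.single (e m).1 (AddMonoidAlgebra.single (e m).2 1)).coeff δ).coeff gm = _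
        simp only [AddMonoidAlgebra.single_mul_single, zero_add, _root_.mul_one, AddMonoidAlgebra.coeff_single,
          Finsupp.single_apply]
        rcases eq_or_ne (e m).1 δ with h1 | h1
        · simp only [h1, Prod.ext_iff, true_and, if_true]
          rw [AddMonoidAlgebra.single_mul_single, zero_add, _root_.mul_one, AddMonoidAlgebra.coeff_single,
            Finsupp.single_apply]
        · rw [if_neg h1, if_neg fun he' => h1 (congrArg Prod.fst he')]
          rfl
    intro m
    refine ⟨?_, fun δ gm h => ?_⟩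
    · rw [key, show ((e m).1, (e m).2) = e m from rfl]
      simp only [he.eq_iff, Finsupp.sum_ite_eq']
      show (if m ∈ (Pt i j).coeff.support then (Pt i j).coeff m else 0) = (Pt i j).coeff m
      split_ifs with h
      · rfl
      · exact (Finsupp.notMem_support_iff.1 h).symm
    · rw [key]
      exact Finset.sum_eq_zero fun m _ => if_neg fun h' => h ⟨m, h'⟩
  have hPP : ∀ gm δ, P gm * P δ = if gm = δ then P gm else 0 := by
    intro gm δ
    ext i j
    have h12 := congrFun (congrFun (congrArg (repV u) (MonObj.mul_comp x₁ x₂ c)) i) j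
    rw [repV_mul, Matrix.mul_apply] at h12
    have h := congrArg (fun z : B₂ => (z.coeff δ).coeff gm) h12
    have hsum : ∀ f : Fin n → B₂, ((∑ l, f l).coeff δ).coeff gm = ∑ l, ((f l).coeff δ).coeff gm := fun f =>
      map_sum (show B₂ →+ k from
        { toFun := fun z => (z.coeff δ).coeff gm
          map_zero' := rfl
          map_add' := fun _ _ => rfl }) f _
    replace h := h.trans (hsum _)
    have hx2 : ∀ l m, (repV u (x₂ ≫ c) l j).coeff m = AddMonoidAlgebra.single 0 (P m l j) := fun l m => by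
      refine AddMonoidAlgebra.ext (Finsupp.ext fun g => ?_)
      have hh := hlift x₂ (fun m => (m, 0)) (fun a b h => congrArg Prod.fst h) (fun m => by rw [chv_xu]; rfl) l j m
      rw [AddMonoidAlgebra.coeff_single, Finsupp.single_apply]
      by_cases hg : g = 0
      · subst hg; rw [if_pos rfl]; exact hh.1
      · rw [if_neg (Ne.symm hg)]
        exact hh.2 m g (fun ⟨_, e⟩ => hg (congrArg Prod.snd e).symm)
    have hx1 : ∀ l, repV u (x₁ ≫ c) i l = AddMonoidAlgebra.single 0 (Pt i l) := fun l => by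
      rw [show repV u (x₁ ≫ c) = Pt.map (cC A₁ ℤ) by
        rw [show x₁ ≫ c = qc ℤ (fL f₀ ℤ) ≫ x ≫ c from Category.assoc _ _ _]; exact repV_qm u _ _ _]
      rfl
    have hprod : ∀ l, ((repV u (x₁ ≫ c) i l * repV u (x₂ ≫ c) l j).coeff δ).coeff gm = P gm i l * P δ l j := fun l => by
      rw [hx1, AddMonoidAlgebra.coeff_single_zero_mul, hx2, AddMonoidAlgebra.coeff_mul_single_zero]
      rfl
    simp only [hprod] at h
    rw [Matrix.mul_apply, ← h]
    have hs : ∀ m, chv (x₁ * x₂) (Multiplicative.ofAdd m) = AddMonoidAlgebra.single m (AddMonoidAlgebra.single m 1) := by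
      intro m
      show chv (qm (cC A₁ ℤ) rfl ≫ xu f₀ ℤ * xu (fL f₀ ℤ) ℤ) (Multiplicative.ofAdd m) = _
      rw [chv_mul, chv_xu, chv_qm, chv_xu]
      show AddMonoidAlgebra.single 0 _ * _ = _
      rw [AddMonoidAlgebra.single_mul_single, zero_add, _root_.mul_one]
      rfl
    obtain ⟨hd, ho⟩ := hlift (x₁ * x₂) (fun m => (m, m)) (fun a b h => congrArg Prod.fst h) hs i j δ
    by_cases hgd : gm = δ
    · subst hgd; rw [if_pos rfl]; exact hd
    · rw [if_neg hgd]; exact ho δ gm fun ⟨_, e⟩ => hgd ((congrArg Prod.snd e).symm.trans (congrArg Prod.fst e))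
  -- the idempotents are invariant
  obtain ⟨φA, hφA⟩ := Spec.map_surjective (G.left.isoSpec.inv ≫ G.hom)
  let fA : Spec Γ(G.left, ⊤) ⟶ Spec (CommRingCat.of k) := G.left.isoSpec.inv ≫ G.hom
  let y : pt Γ(G.left, ⊤) fA ⟶ G := Over.homMk G.left.isoSpec.inv rfl
  have hA : Spec.map (CommRingCat.ofHom φA.hom) ≫ f₀ = fA := by
    rw [CommRingCat.ofHom_hom, hφA]
    show fA ≫ Spec.map (CommRingCat.ofHom (algebraMap k k)) = fA
    rw [Algebra.algebraMap_self, CommRingCat.ofHom_id, Spec.map_id, Category.comp_id]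
  let Rg := repV u y
  have hcomm : ∀ gm, (P gm).map φA.hom * Rg = Rg * (P gm).map φA.hom := by
    intro gm
    let B₃ := AddMonoidAlgebra Γ(G.left, ⊤) ℤ
    have h1 := congrArg (repV u) (hcen _ (qc ℤ fA ≫ y) (xu fA ℤ))
    rw [repV_mul, repV_mul, qc, repV_qm, ← qr_xu f₀ ℤ φA.hom hA, Category.assoc, qr, repV_qm] at h1
    ext i j
    have h2 := congrArg (fun z : B₃ => z.coeff gm) (congrFun (congrFun h1 i) j)
    simp only [Matrix.mul_apply, Matrix.map_apply, AddMonoidAlgebra.coeff_sum, Finsupp.finset_sum_apply] at h2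
    have hco : ∀ (z : A₁), (AddMonoidAlgebra.mapRingHom ℤ φA.hom z).coeff gm = φA.hom (z.coeff gm) := fun z => by
      induction z using AddMonoidAlgebra.induction_linear with
      | zero => simp
      | add p q hp hq => simp only [map_add, AddMonoidAlgebra.coeff_add, Finsupp.add_apply, hp, hq]
      | single m r =>
        simp only [AddMonoidAlgebra.mapRingHom_single, AddMonoidAlgebra.coeff_single, Finsupp.single_apply]
        split <;> simp
    have hl : ∀ (a : Γ(G.left, ⊤)) (z : B₃), (cC Γ(G.left, ⊤) ℤ a * z).coeff gm = a * z.coeff gm := fun a z =>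
      AddMonoidAlgebra.coeff_single_zero_mul ..
    have hr : ∀ (a : Γ(G.left, ⊤)) (z : B₃), (z * cC Γ(G.left, ⊤) ℤ a).coeff gm = z.coeff gm * a := fun a z =>
      AddMonoidAlgebra.coeff_mul_single_zero ..
    simp only [hl, hr] at h2
    erw [Finset.sum_congr rfl fun l _ => congrArg (Rg i l * ·) (hco (Pt l j)),
      Finset.sum_congr rfl fun l _ => congrArg (· * Rg l j) (hco (Pt i l))] at h2
    rw [Matrix.mul_apply, Matrix.mul_apply]
    exact h2.symm
  have hcommX : ∀ gm {X : Over (Spec (CommRingCat.of k))} (g : X ⟶ G),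
      (P gm).map (AffHull.fn X.hom) * repMat u g = repMat u g * (P gm).map (AffHull.fn X.hom) := by
    intro gm X g
    obtain ⟨x', rfl⟩ : ∃ x', x' ≫ y = g :=
      ⟨Over.homMk (g.left ≫ G.left.isoSpec.hom) (by
        show (g.left ≫ _) ≫ fA = _
        simp only [fA, Category.assoc, Iso.hom_inv_id_assoc]; exact Over.w g),
        Over.OverMorphism.ext (by simp [y])⟩
    have hy : repMat u y = Rg.map (Scheme.ΓSpecIso Γ(G.left, ⊤)).inv.hom := by
      ext i j
      exact (ConcreteCategory.congr_hom (Scheme.ΓSpecIso Γ(G.left, ⊤)).hom_inv_id _).symm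
    have hk : ∀ r : k, AffHull.fn X.hom r = x'.left.appTop ((Scheme.ΓSpecIso Γ(G.left, ⊤)).inv (φA.hom r)) := fun r => by
      have hw : x'.left ≫ Spec.map φA = X.hom := by
        have := Over.w x'
        rwa [show (pt Γ(G.left, ⊤) fA).hom = Spec.map φA from hφA.symm] at this
      rw [← hw, AffHull.fn_map]; rfl
    let q : Γ(G.left, ⊤) →+* Γ(X.left, ⊤) := x'.left.appTop.hom.comp (Scheme.ΓSpecIso Γ(G.left, ⊤)).inv.hom
    have h1 : repMat u (x' ≫ y) = Rg.map q := by rw [repMat_comp, hy, Matrix.map_map]; rfl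
    have h2 : (P gm).map (AffHull.fn X.hom) = ((P gm).map φA.hom).map q := by
      rw [Matrix.map_map]; exact congrArg (P gm).map (funext hk)
    rw [h1, h2, ← Matrix.map_mul, hcomm, Matrix.map_mul]
  -- characters
  have hzero : ∀ gm, gm ≠ 0 → P gm = 0 := by
    intro gm hγ
    let D : ∀ {X : Over (Spec (CommRingCat.of k))}, (X ⟶ G) → Γ(X.left, ⊤) := fun {X} g =>
      ((P gm).map (AffHull.fn X.hom) * repMat u g + (1 - (P gm).map (AffHull.fn X.hom))).det
    have hidem : ∀ X : Over (Spec (CommRingCat.of k)),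
        (P gm).map (AffHull.fn X.hom) * (P gm).map (AffHull.fn X.hom) = (P gm).map (AffHull.fn X.hom) := fun X => by
      rw [← Matrix.map_mul, hPP, if_pos rfl]
    have hDmul : ∀ {X : Over (Spec (CommRingCat.of k))} (g h : X ⟶ G), D (g * h) = D g * D h := fun {X} g h => by
      show Matrix.det _ = Matrix.det _ * Matrix.det _
      rw [← Matrix.det_mul, repMat_mul]
      congr 1
      set Q := (P gm).map (AffHull.fn X.hom)
      set R₁ := repMat u g
      set R₂ := repMat u h
      have e1 : Q * R₁ = R₁ * Q := hcommX gm g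
      have hQQ : Q * Q = Q := hidem X
      simp only [Matrix.add_mul, Matrix.mul_add, Matrix.sub_mul, Matrix.mul_sub, Matrix.one_mul, Matrix.mul_one]
      rw [show Q * R₁ * (Q * R₂) = Q * R₁ * R₂ by
          rw [_root_.mul_assoc Q R₁, ← _root_.mul_assoc R₁, ← e1, ← _root_.mul_assoc, ← _root_.mul_assoc, hQQ],
        show Q * R₁ * Q = Q * R₁ by rw [_root_.mul_assoc, ← e1, ← _root_.mul_assoc, hQQ],
        show Q * (Q * R₂) = Q * R₂ by rw [← _root_.mul_assoc, hQQ], hQQ, _root_.mul_assoc]
      abel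
    have hDone : ∀ {X : Over (Spec (CommRingCat.of k))}, D (1 : X ⟶ G) = 1 := fun {X} => by
      show Matrix.det _ = _
      rw [repMat_one, Matrix.mul_one, add_sub_cancel, Matrix.det_one]
    have hDnat : ∀ {X Y : Over (Spec (CommRingCat.of k))} (t : Y ⟶ X) (g : X ⟶ G), D (t ≫ g) = t.left.appTop (D g) := by
      intro X Y t g
      show Matrix.det _ = t.left.appTop.hom (Matrix.det _)
      rw [RingHom.map_det]
      congr 1
      rw [repMat_comp, map_add, map_sub, map_mul, map_one]
      have e : (P gm).map (AffHull.fn Y.hom) = t.left.appTop.hom.mapMatrix ((P gm).map (AffHull.fn X.hom)) := by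
        ext i j
        show AffHull.fn Y.hom _ = t.left.appTop (AffHull.fn X.hom _)
        rw [← AffHull.fn_comp, Over.w t]
      rw [e]
      rfl
    let d : Γ(G.left, ⊤)ˣ :=
      { val := D (𝟙 G)
        inv := D ((𝟙 G)⁻¹)
        val_inv := by rw [← hDmul, mul_inv_cancel, hDone]
        inv_val := by rw [← hDmul, inv_mul_cancel, hDone] }
    obtain ⟨χ, hχd⟩ := exists_ch (S := Spec (CommRingCat.of k)) (X := G) (M := ℤ)
      ((Units.coeHom _).comp (zpowersHom _ d))
    have hval : ∀ {X : Over (Spec (CommRingCat.of k))} (g : X ⟶ G), ch (g ≫ χ) (Multiplicative.ofAdd 1) = D g := by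
      intro X g
      rw [ch_comp, hχd]
      show g.left.appTop ((d ^ (1 : ℤ) : Γ(G.left, ⊤)ˣ) : Γ(G.left, ⊤)) = _
      rw [zpow_one, show (d : Γ(G.left, ⊤)) = D (𝟙 G) from rfl, ← hDnat, Category.comp_id]
    haveI : IsMonHom χ := HomDiag.isMonHom_of_mul χ fun X a b => ch_ext fun m => by
      rw [ch_mul, show m = (Multiplicative.ofAdd 1) ^ (Multiplicative.toAdd m) by
        show m = Multiplicative.ofAdd ((Multiplicative.toAdd m) • (1 : ℤ))
        rw [smul_eq_mul, _root_.mul_one]; rfl]
      have hu1 : ∀ (z : X ⟶ Red.Gm (Spec (CommRingCat.of k))) (l : ℤ), ch z ((Multiplicative.ofAdd 1) ^ l) =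
          (((Units.map (ch z)) (toUnits (Multiplicative.ofAdd (1 : ℤ)))) ^ l : Γ(X.left, ⊤)ˣ) := fun z l => by
        rw [← map_zpow (Units.map (ch z : Multiplicative ℤ →* Γ(X.left, ⊤))), Units.coe_map,
          ← map_zpow (toUnits (G := Multiplicative ℤ))]
        rfl
      rw [hu1, hu1, hu1, ← Units.val_mul, ← mul_zpow]
      congr 2
      refine Units.ext ?_
      show ch _ _ = ch _ _ * ch _ _
      exact (hval _).trans ((hDmul a b).trans (congrArg₂ (· * ·) (hval a).symm (hval b).symm))
    have h := congrArg (fun z => ch (x ≫ z) (Multiplicative.ofAdd 1)) (hχ χ)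
    rw [show ch (x ≫ c ≫ χ) (Multiplicative.ofAdd 1) = D (x ≫ c) by rw [← Category.assoc, hval],
      show x ≫ (1 : Red.DS (Spec (CommRingCat.of k)) ℤ ⟶ Red.Gm (Spec (CommRingCat.of k))) = 1 from MonObj.comp_one x,
      ch_one] at h
    refine eq_zero_of_det hγ (by rw [hPP, if_pos rfl]) ?_
    have h2 := congrArg (Scheme.ΓSpecIso (CommRingCat.of A₁)).hom h
    rw [map_one] at h2
    refine Eq.trans ?_ h2
    show _ = (Scheme.ΓSpecIso (CommRingCat.of A₁)).hom.hom (Matrix.det _)
    rw [RingHom.map_det, map_add, map_sub, map_one, map_mul]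
    congr 1
    have hfn : (Scheme.ΓSpecIso (CommRingCat.of A₁)).hom.hom.mapMatrix ((P gm).map (AffHull.fn (pt A₁ (fL f₀ ℤ)).hom)) =
        (P gm).map (algebraMap k A₁) := by
      refine Matrix.ext fun i j => ?_
      show (Scheme.ΓSpecIso (CommRingCat.of A₁)).hom (AffHull.fn (fL f₀ ℤ) (P gm i j)) = _
      rw [fL, show Spec.map (CommRingCat.ofHom (cC k ℤ)) ≫ f₀ = 𝟙 _ ≫ Spec.map (CommRingCat.ofHom (cC k ℤ)) by
        rw [Category.id_comp]
        show _ ≫ Spec.map (CommRingCat.ofHom (algebraMap k k)) = _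
        rw [Algebra.algebraMap_self, CommRingCat.ofHom_id, Spec.map_id, Category.comp_id], AffHull.fn_map]
      simp only [AffHull.fn, Scheme.Hom.id_appTop, Category.comp_id]
      exact ConcreteCategory.congr_hom (Scheme.ΓSpecIso (CommRingCat.of A₁)).inv_hom_id _
    have hmul : (P gm).map (algebraMap k A₁) * Pt =
        (AddMonoidAlgebra.single gm (1 : k) : A₁) • (P gm).map (algebraMap k A₁) := by
      refine Matrix.ext fun i j => AddMonoidAlgebra.ext (Finsupp.ext fun δ => ?_)
      rw [Matrix.mul_apply, AddMonoidAlgebra.coeff_sum, Finsupp.finset_sum_apply, Matrix.smul_apply, smul_eq_mul,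
        Matrix.map_apply, AddMonoidAlgebra.coe_algebraMap]
      simp only [Algebra.algebraMap_self, RingHom.id_apply, Function.comp_apply, Matrix.map_apply,
        AddMonoidAlgebra.coe_algebraMap, AddMonoidAlgebra.coeff_single_zero_mul,
        AddMonoidAlgebra.single_mul_single, add_zero, _root_.one_mul, AddMonoidAlgebra.coeff_single, Finsupp.single_apply]
      have := congrFun (congrFun (hPP gm δ) i) j
      rw [Matrix.mul_apply] at this
      rw [Finset.sum_congr rfl fun l _ => AddMonoidAlgebra.coeff_single_zero_mul (Pt l j) (P gm i l) δ,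
        show (∑ l, P gm i l * (Pt l j).coeff δ) = _ from this]
      by_cases h : gm = δ <;> simp [h]
    rw [hfn, show (Scheme.ΓSpecIso (CommRingCat.of A₁)).hom.hom.mapMatrix (repMat u (x ≫ c)) = Pt from rfl, hmul, sub_smul,
      one_smul]
    abel
  -- the torus acts trivially
  have hPt : Pt = (P 0).map (algebraMap k A₁) := by
    refine Matrix.ext fun i j => AddMonoidAlgebra.ext (Finsupp.ext fun δ => ?_)
    rw [Matrix.map_apply, AddMonoidAlgebra.coe_algebraMap]
    simp only [Algebra.algebraMap_self, RingHom.id_apply, Function.comp_apply, AddMonoidAlgebra.coeff_single,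
      Finsupp.single_apply]
    by_cases h : (0 : ℤ) = δ
    · subst h; rw [if_pos rfl]; rfl
    · rw [if_neg h]; exact congrFun (congrFun (hzero δ (Ne.symm h)) i) j
  have hP0 : P 0 = 1 := by
    have hid : Spec.map (CommRingCat.ofHom (RingHom.id k)) ≫ f₀ = f₀ := by
      rw [CommRingCat.ofHom_id, Spec.map_id, Category.id_comp]
    have h := hexp k f₀ (RingHom.id k) hid 1
    rw [MonObj.one_comp, repV_one, hPt, Matrix.map_map] at h
    rw [h]
    ext i j
    simp only [Matrix.map_apply, Function.comp_apply, AddMonoidAlgebra.coe_algebraMap, Algebra.algebraMap_self,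
      RingHom.id_apply]
    show _ = AddMonoidAlgebra.liftNC _ _ (AddMonoidAlgebra.single 0 _)
    rw [AddMonoidAlgebra.liftNC_single]
    simp
  have hx : x ≫ c = 1 := repV_ext u (by
    rw [repV_one]; show Pt = 1; rw [hPt, hP0]; exact Matrix.map_one _ (map_zero _) (map_one _))
  let T := Red.DS (Spec (CommRingCat.of k)) ℤ
  haveI : IsAffine (Red.diag (ULift.{u} ℤ) ℤ).left := isAffine_Spec _
  haveI : IsAffineHom T.hom := MorphismProperty.pullback_snd (P := @IsAffineHom) (Red.diag (ULift.{u} ℤ) ℤ).hom _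
    (isAffineHom_of_isAffine _)
  haveI : IsAffine T.left := isAffine_of_isAffineHom T.hom
  obtain ⟨φT, hφT⟩ := Spec.map_surjective (T.left.isoSpec.inv ≫ T.hom)
  let fT : Spec Γ(T.left, ⊤) ⟶ Spec (CommRingCat.of k) := T.left.isoSpec.inv ≫ T.hom
  have hT : Spec.map (CommRingCat.ofHom φT.hom) ≫ f₀ = fT := by
    rw [CommRingCat.ofHom_hom, hφT]
    show fT ≫ Spec.map (CommRingCat.ofHom (algebraMap k k)) = fT
    rw [Algebra.algebraMap_self, CommRingCat.ofHom_id, Spec.map_id, Category.comp_id]
  let yT : pt Γ(T.left, ⊤) fT ⟶ T := Over.homMk T.left.isoSpec.inv rfl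
  haveI : IsIso ((Over.forget _).map yT) := inferInstanceAs (IsIso T.left.isoSpec.inv)
  haveI : IsIso yT := isIso_of_reflects_iso yT (Over.forget _)
  obtain ⟨θ, hθ, h1, -⟩ := exists_qm_xu f₀ ℤ φT.hom hT yT
  rw [← cancel_epi yT, ← h1, Category.assoc, hx, MonObj.comp_one, MonObj.comp_one]

end Groth.Agent.RootSys
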