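import Groth.Agent.RootSys.Coroot
import Mathlib.RingTheory.Flat.FaithfullyFlat.Basic
import Mathlib.RingTheory.Flat.FaithfullyFlat.Algebra

/-!
# Homomorphisms to commutative groups kill root subgroups and coroots
-/

set_option autoImplicit false
set_option backward.isDefEq.respectTransparency false
set_option linter.style.haveILetI false
set_option maxHeartbeats 1000000
set_option synthInstance.maxHeartbeats 400000

universe u

open CategoryTheory Limits MonoidalCategory CartesianMonoidalCategory MonObj AlgebraicGeometry LieS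
open scoped CategoryTheory.Obj TensorProduct

noncomputable section

namespace Groth.Agent.RootSys

open Groth.Agent.HomDiag Groth.Agent.DynPar

variable {k : Type u} [Field k] {G : Over (Spec (CommRingCat.of k))} [GrpObj G] {M : Type} [AddCommGroup M]
  {j : Red.DS (Spec (CommRingCat.of k)) M ⟶ G} {C : Over (Spec (CommRingCat.of k))} [GrpObj C]

/-- The point of the torus with values given by powers of a unit. -/
theorem exists_pt_unit {B : Type u} [CommRing B] (f : Spec (CommRingCat.of B) ⟶ Spec (CommRingCat.of k)) (w : Bˣ)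
    (e : M →+ ℤ) : ∃ t : pt B f ⟶ Red.DS (Spec (CommRingCat.of k)) M,
      ∀ m, chv t m = ((w ^ e (Multiplicative.toAdd m) : Bˣ) : B) :=
  exists_chv (f := f) (S := Spec (CommRingCat.of k))
    { toFun := fun m => ((w ^ e (Multiplicative.toAdd m) : Bˣ) : B)
      map_one' := by simp
      map_mul' := fun a b => by rw [toAdd_mul, map_add, zpow_add, Units.val_mul] }

/-- A homomorphism to a commutative group kills a root subgroup. -/
theorem comp_rootHom_eq_one [Module.Free ℤ M] {d : M} (hd : d ≠ 0) {u : Red.Ga (Spec (CommRingCat.of k)) ⟶ G}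
    (hu : Red.IsRootHom j (Red.chi _ d) u) (f₀ : G ⟶ C) [IsMonHom f₀]
    (hC : ∀ (X : Over (Spec (CommRingCat.of k))) (a b : X ⟶ C), a * b = b * a) : u ≫ f₀ = 1 := by
  haveI := hu.1
  obtain ⟨e, he⟩ := exists_dual_ne_zero hd
  obtain ⟨q, hq0, hq⟩ : ∃ q : AlgebraicClosure k, q ≠ 0 ∧ q ^ e d ≠ 1 := by
    by_contra! h
    exact he (zpow_inj_all (k := AlgebraicClosure k) (n := 0) fun q hq => by rw [zpow_zero]; exact h q hq)
  refine hom_ext_pts _ _ fun B _ f y => ?_
  obtain ⟨φ, rfl⟩ := Spec.map_surjective f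
  letI : Algebra k B := φ.hom.toAlgebra
  let B' := B ⊗[k] AlgebraicClosure k
  let h : B →+* B' := algebraMap B B'
  haveI : Flat (Spec.map (CommRingCat.ofHom h)) :=
    (HasRingHomProperty.Spec_iff (P := @Flat)).2 (RingHom.flat_algebraMap_iff.2 inferInstance)
  haveI : Surjective (Spec.map (CommRingCat.ofHom h)) :=
    ⟨PrimeSpectrum.comap_surjective_of_faithfullyFlat⟩
  haveI := Flat.epi_of_flat_of_surjective (Spec.map (CommRingCat.ofHom h))
  let qh : pt B' (Spec.map (CommRingCat.ofHom h) ≫ Spec.map φ) ⟶ pt B (Spec.map φ) := qm h rfl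
  haveI : Epi qh := by
    haveI : Epi qh.left := inferInstanceAs (Epi (Spec.map (CommRingCat.ofHom h)))
    exact Over.epi_of_epi_left qh
  rw [← cancel_epi qh, MonObj.comp_one, MonObj.comp_one]
  let f' := Spec.map (CommRingCat.ofHom h) ≫ Spec.map φ
  let F : B' → (pt B' f' ⟶ C) := fun x => gpt f' x ≫ u ≫ f₀
  have hFa : ∀ x z, F (x + z) = F x * F z := fun x z => by
    show _ = gpt f' x ≫ u ≫ f₀ * gpt f' z ≫ u ≫ f₀
    rw [← MonObj.mul_comp, ← gpt_add]
  let i : AlgebraicClosure k →+* B' := (Algebra.TensorProduct.includeRight (R := k) (A := B)).toRingHom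
  let w : B'ˣ := Units.map i.toMonoidHom (Units.mk0 q hq0)
  obtain ⟨t, ht⟩ := exists_pt_unit f' w e
  have hu' : IsUnit (((w ^ e d : B'ˣ) : B') - 1) := by
    rw [show ((w ^ e d : B'ˣ) : B') = i (q ^ e d) by
      rw [show w ^ e d = Units.map i.toMonoidHom (Units.mk0 q hq0 ^ e d) from (map_zpow _ _ _).symm, Units.coe_map,
        Units.val_zpow_eq_zpow_val]
      rfl, ← map_one i, ← map_sub]
    exact (isUnit_iff_ne_zero.2 (sub_ne_zero.2 hq)).map i
  have hF : ∀ x, F (((w ^ e d : B'ˣ) : B') * x) = F x := fun x => by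
    show gpt f' _ ≫ u ≫ f₀ = gpt f' x ≫ u ≫ f₀
    have h1 := congrArg (· ≫ f₀) (root_conj hu t x)
    rw [ht, toAdd_ofAdd] at h1
    simp only [MonObj.mul_comp, GrpObj.inv_comp (G := G) (H := C) _ f₀, Category.assoc] at h1
    rw [← h1, hC, inv_mul_cancel_left]
  have hF1 : ∀ x, F x = 1 := fun x => by
    obtain ⟨r, hr⟩ := hu'
    have h1 := hF (((r⁻¹ : B'ˣ) : B') * x)
    rw [show ((w ^ e d : B'ˣ) : B') * (((r⁻¹ : B'ˣ) : B') * x) = x + ((r⁻¹ : B'ˣ) : B') * x by
      rw [eq_add_of_sub_eq hr.symm, add_mul, _root_.one_mul, ← _root_.mul_assoc, Units.mul_inv, _root_.one_mul],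
      hFa] at h1
    exact mul_eq_right.1 h1
  rw [← Category.assoc qh y, ← gpt_gval (qh ≫ y), ← Category.assoc]
  exact hF1 _

/-- A homomorphism to a commutative group kills a coroot. -/
theorem comp_coroot_eq_one [IsMonHom j] [Module.Free ℤ M] {a : M} {e : M →+ ℤ} (he : IsCorootOf j a e) (f₀ : G ⟶ C)
    [IsMonHom f₀] (hC : ∀ (X : Over (Spec (CommRingCat.of k))) (a b : X ⟶ C), a * b = b * a) :
    Red.DSmap (Spec (CommRingCat.of k)) e ≫ j ≫ f₀ = 1 := by
  obtain ⟨u, v, c, hu, hv, hc, hed, H⟩ := he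
  haveI := hu.1; haveI := hv.1
  have ha : a ≠ 0 := fun h => by rw [h, map_zero] at hed; omega
  have hu0 := comp_rootHom_eq_one ha hu f₀ hC
  have hv0 := comp_rootHom_eq_one (neg_ne_zero.2 ha) hv f₀ hC
  refine hom_ext_pts _ _ fun B _ f y => ?_
  obtain ⟨φ, rfl⟩ := Spec.map_surjective f
  let w : Bˣ := Units.map (chv y) (toUnits (Multiplicative.ofAdd (1 : ℤ)))
  have hw : ∀ n : ℤ, chv y (Multiplicative.ofAdd n) = ((w ^ n : Bˣ) : B) := fun n => by
    rw [← map_zpow, Units.coe_map, ← map_zpow]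
    show _ = chv y (Multiplicative.ofAdd (1 : ℤ) ^ n)
    congr 1
    show n = n • (1 : ℤ)
    simp
  have hscale := congrArg (· ≫ f₀) (weyl_scale hc hed H hu hv φ.hom (f := Spec.map φ) rfl w
    (y ≫ Red.DSmap _ e) fun m => by rw [chv_DSmap, hw])
  simp only [weylA, MonObj.mul_comp, Category.assoc, hu0, hv0, MonObj.comp_one, _root_.mul_one] at hscale
  rw [MonObj.comp_one]
  exact hscale.symm

section Mono

variable {Z : Over (Spec (CommRingCat.of k))} [GrpObj Z] {z : Z ⟶ G} [IsMonHom z] [Mono z]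
  {j₁ : Red.DS (Spec (CommRingCat.of k)) M ⟶ Z}

/-- Root homomorphisms through a subgroup. -/
theorem rootHom_of_mono (hj : j₁ ≫ z = j) {d : M} {u : Red.Ga (Spec (CommRingCat.of k)) ⟶ G}
    (hu : Red.IsRootHom j (Red.chi _ d) u) {u' : Red.Ga (Spec (CommRingCat.of k)) ⟶ Z} (h : u' ≫ z = u)
    (hcl : IsClosedImmersion z.left) : Red.IsRootHom j₁ (Red.chi _ d) u' := by
  haveI := hu.1; haveI := hcl
  haveI : IsMonHom u' := HomDiag.isMonHom_of_mul u' fun X a b => (cancel_mono z).1 (by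
    simp only [MonObj.mul_comp _ _ z, Category.assoc, h, MonObj.mul_comp _ _ u])
  refine ⟨inferInstance, ?_, fun X t x => ?_⟩
  · haveI : IsClosedImmersion (u'.left ≫ z.left) := by rw [← Over.comp_left, h]; exact hu.2.1
    exact IsClosedImmersion.of_comp u'.left z.left
  · obtain ⟨y, hy, hy'⟩ := hu.2.2 X t x
    refine ⟨y, (cancel_mono z).1 ?_, hy'⟩
    simp only [MonObj.mul_comp, GrpObj.inv_comp (G := Z) (H := G) _ z, Category.assoc, h, hj]
    exact hy

/-- The commutation relation through a subgroup. -/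
theorem sl2Rel_of_mono (hj : j₁ ≫ z = j) {u v : Red.Ga (Spec (CommRingCat.of k)) ⟶ G} {c : k} {e : M →+ ℤ}
    (H : Sl2Rel j u v c e) {u' v' : Red.Ga (Spec (CommRingCat.of k)) ⟶ Z} (hu : u' ≫ z = u) (hv : v' ≫ z = v) :
    Sl2Rel j₁ u' v' c e := by
  intro A _ φ x y w t hw ht
  refine (cancel_mono z).1 ?_
  have h := H φ x y w t hw ht
  simp only [cellMul, MonObj.mul_comp, Category.assoc, hu, hv, hj] at h ⊢
  exact h

end Mono

end Groth.Agent.RootSys
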