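import Groth.Agent.RootSys.Partition

/-!
# Dominance
-/

noncomputable section
open Function Set

namespace Groth.Agent.RootSys

variable {ι M N : Type*} [AddCommGroup M] [AddCommGroup N] {P : RootPairing ι ℤ M N}

lemma ReflData.mono {G κ : Type*} [Group G] [MulAction G κ] {s : κ → G} {pos : κ → Prop} {Δ Δ' : Set κ}
    (h : ReflData s pos Δ) (hsub : Δ' ⊆ Δ) : ReflData s pos Δ' where
  mul_self i hi := h.mul_self i (hsub hi)
  conj g hg i := h.conj g (Subgroup.closure_mono (Set.image_mono hsub) hg) i
  pos_simple i hi := h.pos_simple i (hsub hi)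
  neg_smul g hg j hj := h.neg_smul g (Subgroup.closure_mono (Set.image_mono hsub) hg) j (hsub hj)
  moves i hi j hj g hg := h.moves i (hsub hi) j (hsub hj) g (Subgroup.closure_mono (Set.image_mono hsub) hg)

/-- Induction along reduced words. -/
lemma ReflData.induction_desc {G κ : Type*} [Group G] [MulAction G κ] {s : κ → G} {pos : κ → Prop} {Δ : Set κ}
    (h : ReflData s pos Δ) {p : G → Prop} (one : p 1)
    (step : ∀ g ∈ Subgroup.closure (s '' Δ), ∀ j ∈ Δ, ¬ pos ((g * s j) • j) → p g → p (g * s j))
    {g : G} (hg : g ∈ Subgroup.closure (s '' Δ)) : p g := by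
  obtain ⟨l, hl, he⟩ := h.exists_word hg
  induction hn : l.length using Nat.strong_induction_on generalizing l g with
  | h n ih =>
    by_cases hpos : ∀ j ∈ Δ, pos (g • j)
    · rw [h.eq_one_of_pos hg hpos]; exact one
    · push Not at hpos
      obtain ⟨j, hj, hneg⟩ := hpos
      subst he
      obtain ⟨l', h1, h2, h3⟩ := h.exists_delete hj hl hneg
      have hmem := mul_mem hg (Subgroup.subset_closure (show s j ∈ s '' Δ from ⟨j, hj, rfl⟩))
      have hp := ih l'.length (by omega) hmem l' h1 h3 rfl
      have e : (l.map s).prod = (l.map s).prod * s j * s j := by rw [mul_assoc, h.mul_self j hj, mul_one]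
      rw [e] at hneg ⊢
      exact step _ hmem j hj hneg hp

lemma smul_reflection (g : P.Aut) (j : ι) (x : M) :
    (g * refl P j) • x = g • x - P.coroot' j x • P.root (g • j) := by
  rw [mul_smul, RootPairing.Equiv.reflection_smul, P.reflection_apply, smul_sub, smul_comm, root_smul]

lemma smul_smul_self_reflection (g : P.Aut) (j : ι) : (g * refl P j) • j = opp P (g • j) := by
  rw [mul_smul, reflection_smul_self, smul_opp]

variable [Finite ι]

/-- Positive systems refine any additive functional to an ordered group. -/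
lemma isPosSys_ties {Γ : Type*} [AddCommGroup Γ] [LinearOrder Γ] [IsOrderedAddMonoid Γ] (f : M →+ Γ)
    {S : Set ι} (hS : RootD.IsPosSys P S) :
    RootD.IsPosSys P {k | 0 < f (P.root k) ∨ (f (P.root k) = 0 ∧ k ∈ S)} := by
  refine (isPosSys_iff _).mpr ⟨?_, fun i => ?_, ?_⟩
  · intro i hi h
    simp only [Set.mem_setOf_eq, root_opp, map_neg, neg_pos, neg_eq_zero] at hi h
    rcases hi with hi | ⟨hi, hi'⟩ <;> rcases h with h | ⟨h, h'⟩
    · exact lt_asymm hi h
    · exact hi.ne' h
    · exact h.ne hi
    · exact hS.disjoint hi' h'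
  · simp only [Set.mem_setOf_eq, root_opp, map_neg, neg_pos, neg_eq_zero]
    rcases lt_trichotomy (f (P.root i)) 0 with h | h | h
    · exact Or.inr (Or.inl h)
    · exact (hS.cover i).imp (fun hh => Or.inr ⟨h, hh⟩) fun hh => Or.inr ⟨h, hh⟩
    · exact Or.inl (Or.inl h)
  · intro i j k hi hj hk
    have e : f (P.root k) = f (P.root i) + f (P.root j) := by rw [hk, map_add]
    simp only [Set.mem_setOf_eq] at hi hj ⊢
    rw [e]
    rcases hi with hi | ⟨hi, hi'⟩ <;> rcases hj with hj | ⟨hj, hj'⟩
    · exact Or.inl (add_pos hi hj)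
    · exact Or.inl (by rw [hj, add_zero]; exact hi)
    · exact Or.inl (by rw [hi, zero_add]; exact hj)
    · exact Or.inr ⟨by rw [hi, hj, add_zero], IsPosSys.closed hS hi' hj' hk⟩

/-- A strictly dominant element. -/
lemma exists_strictly_dominant {S : Set ι} (hS : RootD.IsPosSys P S) :
    ∃ m : M, ∀ k ∈ S, 0 < P.coroot' k m := by
  classical
  haveI := Fintype.ofFinite ι
  have hΔ := isSimpleSys_simpleOf hS
  have hpo := posOf_simpleOf hS
  let ρ : M := ∑ k ∈ S.toFinset, P.root k
  refine ⟨ρ, ?_⟩
  have hsimple : ∀ j ∈ simpleOf P S, 0 < P.coroot' j ρ := by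
    intro j hj
    let T := S.toFinset.filter fun k => refl P j • k ∈ S
    let U := S.toFinset.filter fun k => refl P j • k ∉ S
    have hT : ∑ k ∈ T, P.coroot' j (P.root k) = 0 := by
      refine Finset.sum_involution (fun k _ => refl P j • k) ?_ ?_ (fun k hk => ?_) ?_
      · intro k _
        rw [P.root_coroot'_eq_pairing, root_reflection_smul, map_sub,
          map_zsmul, P.root_coroot'_eq_pairing, P.root_coroot'_eq_pairing, P.pairing_same, smul_eq_mul]
        ring
      · intro k _ hne he
        rw [P.root_coroot'_eq_pairing] at hne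
        have e := congr_arg (P.coroot' j) (root_reflection_smul (P := P) j k)
        rw [he, map_sub, map_zsmul, P.root_coroot'_eq_pairing, P.root_coroot'_eq_pairing, P.pairing_same,
          smul_eq_mul] at e
        omega
      · simp only [T, Finset.mem_filter, Set.mem_toFinset] at hk ⊢
        exact ⟨hk.2, by rw [← mul_smul, reflection_mul_self, one_smul]; exact hk.1⟩
      · intro k _
        rw [← mul_smul, show refl P j * refl P j = 1 from reflection_mul_self j, one_smul]
    have hU : 0 < ∑ k ∈ U, P.coroot' j (P.root k) := by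
      refine Finset.sum_pos (fun k hk => ?_) ⟨j, ?_⟩
      · simp only [U, Finset.mem_filter, Set.mem_toFinset] at hk
        rw [P.root_coroot'_eq_pairing]
        rcases eq_of_pos_neg hΔ hj (hpo.symm ▸ hk.1) (hpo.symm ▸ hk.2) with rfl | h2
        · rw [P.pairing_same]; norm_num
        · rw [← P.root_coroot'_eq_pairing, h2, map_zsmul, P.root_coroot'_eq_pairing, P.pairing_same]; norm_num
      · simp only [U, Finset.mem_filter, Set.mem_toFinset]
        exact ⟨hj.1, by rw [reflection_smul_self]; exact hS.disjoint hj.1⟩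
    show 0 < P.coroot' j (∑ k ∈ S.toFinset, P.root k)
    rw [map_sum, ← Finset.sum_filter_add_sum_filter_not S.toFinset (fun k => refl P j • k ∈ S), hT, zero_add]
    exact hU
  intro k hk
  have hk' : k ∈ RootD.posOf P (simpleOf P S) := by rw [hpo]; exact hk
  have hpos := (mem_posOf_iff hΔ k).mp hk'
  have e : P.RootForm (P.root k) (P.root k) * P.coroot' k ρ =
      (coef hΔ k).sum fun i c => c * (P.RootForm (P.root i) (P.root i) * P.coroot' i ρ) := by
    have h2 : ∀ i, P.RootForm (P.root i) (P.root i) * P.coroot' i ρ = 2 * P.RootForm (P.root i) ρ := fun i => by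
      show P.RootForm (P.root i) (P.root i) * P.toLinearMap ρ (P.coroot i) = _
      rw [← smul_eq_mul, ← map_zsmul, P.rootForm_self_smul_coroot, map_nsmul,
        P.toLinearMap_apply_apply_Polarization, nsmul_eq_mul]
      rfl
    rw [h2]
    conv_lhs => rw [← lc_coef hΔ k, lc, Finsupp.linearCombination_apply, map_finsuppSum]
    simp only [h2, Finsupp.sum, LinearMap.sum_apply, map_zsmul, LinearMap.smul_apply, smul_eq_mul, Finset.mul_sum]
    exact Finset.sum_congr rfl fun i _ => by ring
  refine pos_of_mul_pos_right ?_ (rootForm_pos (P := P) k).le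
  rw [e]
  refine Finset.sum_pos (fun i hi => mul_pos (lt_of_le_of_ne (hpos i) (Finsupp.mem_support_iff.mp hi).symm)
    (mul_pos (rootForm_pos i) (hsimple i (coef_support hΔ k hi)))) ?_
  exact Finsupp.support_nonempty_iff.mpr (coef_ne_zero hΔ k)

end Groth.Agent.RootSys
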