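import Groth.Agent.RootSys.Cell
import Groth.Agent.DynPar.TwoBorels
import Groth.Agent.Chev.Parabolic
import Groth.Agent.Chev.BorelNorm
import Groth.Agent.Assoc.Reduced

/-!
# Quotients by Borel subgroups: open cells, closed invariant sets
-/

set_option autoImplicit false
set_option backward.isDefEq.respectTransparency false
set_option linter.style.haveILetI false
set_option maxHeartbeats 1000000
set_option synthInstance.maxHeartbeats 400000

universe u

open CategoryTheory Limits MonoidalCategory CartesianMonoidalCategory MonObj AlgebraicGeometry LieS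
open scoped CategoryTheory.Obj
open Groth.Agent.SubGen (rpt exists_rpt map_rpt rpt_injective rpt_mem_closedPoints apply_eq_rpt)

noncomputable section

namespace Groth.Agent.RootSys

variable {k : Type u} [Field k] [IsAlgClosed k]

local notation "S₀" => Spec (CommRingCat.of k)

/-- The proper homogeneous space of a Borel subgroup. -/
theorem exists_flag {G B : Over S₀} [GrpObj G] [GrpObj B] [IsAffine G.left] [Smooth G.hom] [ConnectedSpace G.left]
    (b : B ⟶ G) (hB : Red.IsBorelOver k b) :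
    ∃ (X : Over S₀) (a : AlgGrp.Action G X) (o : Chev.RP X), IsProper X.hom ∧ Flat (a.orbitMap o).left ∧
      Surjective (a.orbitMap o).left ∧
      ∀ (T : Over S₀) (g : T ⟶ G), (∃ h : T ⟶ B, h ≫ b = g) ↔ g ≫ a.orbitMap o = toUnit T ≫ o := by
  obtain ⟨B₀, _, b₀, hb₀, X, a, o₀, hX, hp⟩ := Chev.Borel.exists_borel_proper G
  obtain ⟨g, f, hf⟩ := Chev.Borel.borel_conj b₀ b hb₀ hB
  haveI := hb₀.1; haveI := hX.1; haveI := hX.2.1; haveI := hX.2.2.1
  haveI : IsIso (Chev.tr g : G ⟶ G) := ⟨Chev.tr g⁻¹, by rw [Chev.tr_tr, mul_inv_cancel, Chev.tr_one],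
    by rw [Chev.tr_tr, inv_mul_cancel, Chev.tr_one]⟩
  haveI : IsIso (Chev.tr g : G ⟶ G).left := inferInstanceAs (IsIso ((Over.forget _).map (Chev.tr g)))
  refine ⟨X, a, g ≫ a.orbitMap o₀, hp, ?_, ?_, fun T h => ?_⟩
  · rw [Chev.Borel.orbitMap_translate, Over.comp_left]; infer_instance
  · rw [Chev.Borel.orbitMap_translate, Over.comp_left]; infer_instance
  let gT : T ⟶ G := toUnit T ≫ g
  let pT : T ⟶ X := toUnit T ≫ o₀
  have h1 : h ≫ a.orbitMap (g ≫ a.orbitMap o₀) = lift (h * gT) pT ≫ a.act := by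
    rw [Chev.Borel.orbitMap_translate, ← Category.assoc, Chev.comp_tr, GrpAct.comp_orbitMap]
  have h2 : toUnit T ≫ g ≫ a.orbitMap o₀ = lift gT pT ≫ a.act := by
    rw [← Category.assoc, GrpAct.comp_orbitMap]
  rw [h1, h2]
  have hmem : (∃ y : T ⟶ B, y ≫ b = h) ↔ ∃ y : T ⟶ B₀, y ≫ b₀ = gT⁻¹ * h * gT := by
    constructor
    · rintro ⟨y, rfl⟩
      refine ⟨y ≫ f.inv, ?_⟩
      have e : y ≫ b = gT * ((y ≫ f.inv) ≫ b₀) * gT⁻¹ := by
        conv_lhs => rw [show b = f.inv ≫ AGF.conjBy g b₀ by rw [← hf, f.inv_hom_id_assoc]]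
        rw [← Category.assoc, Chev.Borel.comp_conjBy]
      rw [e]; group
    · rintro ⟨y, hy⟩
      refine ⟨y ≫ f.hom, ?_⟩
      rw [Category.assoc, hf, Chev.Borel.comp_conjBy, hy]
      show gT * _ * gT⁻¹ = h
      group
  rw [hmem, GrpAct.mem_iff b₀ a o₀ hX.2.2.2]
  constructor
  · intro e
    rw [show h * gT = gT * (gT⁻¹ * h * gT) by group, GrpAct.mul_smul, e]
  · intro e
    rw [show gT⁻¹ * h * gT = gT⁻¹ * (h * gT) by group, GrpAct.mul_smul, e, ← GrpAct.mul_smul, inv_mul_cancel,
      GrpAct.one_smul']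

/-- A section of a quotient over an open cell is an open immersion into the quotient. -/
theorem isOpenImmersion_orbit {G B U X : Over S₀} [GrpObj G] [GrpObj B] [GrpObj U] [IsAffine G.left]
    [IsSeparated X.hom] (b : B ⟶ G) [Mono b] (u : U ⟶ G) (a : AlgGrp.Action G X) (o : Chev.RP X)
    [Flat (a.orbitMap o).left] [Surjective (a.orbitMap o).left]
    (hmem : ∀ (T : Over S₀) (g : T ⟶ G), (∃ h : T ⟶ B, h ≫ b = g) ↔ g ≫ a.orbitMap o = toUnit T ≫ o)
    (hm : IsOpenImmersion ((fst U B ≫ u) * (snd U B ≫ b)).left) :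
    IsOpenImmersion (u ≫ a.orbitMap o).left := by
  set m := (fst U B ≫ u) * (snd U B ≫ b) with hmdef
  have hfix : ∀ (T : Over S₀) (h : T ⟶ B), lift (h ≫ b) (toUnit T ≫ o) ≫ a.act = toUnit T ≫ o := fun T h => by
    rw [← GrpAct.comp_orbitMap]
    exact (hmem T (h ≫ b)).1 ⟨h, rfl⟩
  have hym : ∀ (T : Over S₀) (y : T ⟶ U ⊗ B), y ≫ m = (y ≫ fst U B) ≫ u * (y ≫ snd U B) ≫ b := fun T y => by
    rw [hmdef, MonObj.comp_mul, Category.assoc, Category.assoc]
  have w : m ≫ a.orbitMap o = fst U B ≫ u ≫ a.orbitMap o := by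
    rw [← Category.assoc, GrpAct.comp_orbitMap, GrpAct.comp_orbitMap, hmdef, GrpAct.mul_smul, hfix]
  have hpb : IsPullback m (fst U B) (a.orbitMap o) (u ≫ a.orbitMap o) := by
    have hdiv : ∀ (T : Over S₀) (p q : T ⟶ G), p ≫ a.orbitMap o = q ≫ a.orbitMap o →
        ∃ h : T ⟶ B, h ≫ b = q⁻¹ * p := fun T p q e => by
      refine (hmem _ _).2 ?_
      rw [GrpAct.comp_orbitMap, GrpAct.comp_orbitMap] at e
      rw [GrpAct.comp_orbitMap, GrpAct.mul_smul, e, ← GrpAct.mul_smul, inv_mul_cancel, GrpAct.one_smul']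
    have hc : ∀ s : PullbackCone (a.orbitMap o) (u ≫ a.orbitMap o), ∃ h : s.pt ⟶ B, h ≫ b = (s.snd ≫ u)⁻¹ * s.fst :=
      fun s => hdiv _ _ _ (s.condition.trans (Category.assoc _ _ _).symm)
    choose h hh using hc
    refine IsPullback.of_isLimit' ⟨w⟩ (PullbackCone.IsLimit.mk _ (fun s => lift s.snd (h s)) (fun s => ?_)
      (fun s => lift_fst _ _) (fun s y e1 e2 => ?_))
    · rw [hym, lift_fst, lift_snd, hh, mul_inv_cancel_left]
    · refine CartesianMonoidalCategory.hom_ext _ _ (e2.trans (lift_fst _ _).symm) ?_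
      rw [lift_snd, ← cancel_mono b, hh, ← e1, hym, e2, inv_mul_cancel_left]
  have hpb' := hpb.map (Over.forget S₀)
  haveI : QuasiCompact (a.orbitMap o).left := by
    haveI : QuasiCompact ((a.orbitMap o).left ≫ X.hom) := by rw [Over.w]; infer_instance
    exact QuasiCompact.of_comp _ X.hom
  exact MorphismProperty.of_isPullback_of_descendsAlong (P := @IsOpenImmersion)
    (Q := @Surjective ⊓ @Flat ⊓ @QuasiCompact) hpb' ⟨⟨inferInstanceAs (Surjective (a.orbitMap o).left),
      inferInstanceAs (Flat (a.orbitMap o).left)⟩, inferInstanceAs (QuasiCompact (a.orbitMap o).left)⟩ hm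

/-- A rational point in the range of an open immersion lifts. -/
theorem exists_rp_open {Y U : Over S₀} (φ : U ⟶ Y) [IsOpenImmersion φ.left] (z : Chev.RP Y)
    (h : rpt z ∈ Set.range φ.left) : ∃ y : Chev.RP U, y ≫ φ = z := by
  have hr : Set.range z.left ⊆ Set.range φ.left := by
    rintro _ ⟨t, rfl⟩
    rw [apply_eq_rpt]
    exact h
  exact ⟨Over.homMk (IsOpenImmersion.lift φ.left z.left hr) (by
      show IsOpenImmersion.lift φ.left z.left hr ≫ U.hom = _
      rw [← Over.w φ, IsOpenImmersion.lift_fac_assoc, Over.w z]),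
    Over.OverMorphism.ext (IsOpenImmersion.lift_fac _ _ _)⟩

/-- A nonempty closed invariant set contains a fixed point. -/
theorem exists_fixed_mem {T X : Over S₀} [GrpObj T] [IsAffine T.left] [Smooth T.hom] [ConnectedSpace T.left]
    [Group.IsSolvable (Chev.RP T)] [IsProper X.hom] (a : AlgGrp.Action T X) {Y : Set X.left} (hY : IsClosed Y)
    (hne : Y.Nonempty) (hst : ∀ (t : Chev.RP T) (z : Chev.RP X), rpt z ∈ Y → rpt (lift t z ≫ a.act) ∈ Y) :
    ∃ z : Chev.RP X, rpt z ∈ Y ∧ a.IsFixedPt z := by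
  obtain ⟨Y', i', hi', hred, hr⟩ := GrpAct.exists_reduced_subscheme hY.isLocallyClosed
  haveI : IsClosedImmersion i' := IsClosedImmersion.of_isPreimmersion i' (hr ▸ hY)
  let Z : Over S₀ := Over.mk (i' ≫ X.hom)
  let i : Z ⟶ X := Over.homMk i'
  haveI : IsClosedImmersion i.left := ‹IsClosedImmersion i'›
  haveI : Mono i := Over.mono_of_mono_left i
  haveI : IsReduced Z.left := hred
  haveI : IsProper Z.hom := inferInstanceAs (IsProper (i' ≫ X.hom))
  haveI : Nonempty Z.left := by
    obtain ⟨y, hy⟩ := hne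
    obtain ⟨z, -⟩ := hr.symm.subset hy
    exact ⟨z⟩
  haveI : IsReduced T.left := SmoothRed.isReduced_of_smooth_scheme T.hom
  haveI : IsReduced (T ⊗ Z).left := Assoc.isReduced_pullback k T.hom Z.hom
  haveI : LocallyOfFiniteType (T ⊗ Z).hom :=
    inferInstanceAs (LocallyOfFiniteType (pullback.fst T.hom Z.hom ≫ T.hom))
  obtain ⟨act', hact⟩ := Chev.BorelFixed.exists_lift_rp ((T ◁ i) ≫ a.act) i (fun z => by
    have e : z ≫ (T ◁ i) ≫ a.act = lift (z ≫ fst T Z) ((z ≫ snd T Z) ≫ i) ≫ a.act := by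
      rw [← Category.assoc]
      congr 1
      apply CartesianMonoidalCategory.hom_ext <;> simp
    rw [e, show Set.range i.left = Y from hr]
    exact hst _ _ (hr.subset ⟨rpt (z ≫ snd T Z), map_rpt i _⟩))
  let b : AlgGrp.Action T Z :=
    { act := act'
      one_act := by
        rw [← cancel_mono i, Category.assoc, hact, ← whisker_exchange_assoc, a.one_act, leftUnitor_naturality]
      mul_act := by
        rw [← cancel_mono i, Category.assoc, hact, ← whisker_exchange_assoc, a.mul_act, Category.assoc, Category.assoc,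
          hact, ← MonoidalCategory.whiskerLeft_comp_assoc, hact, MonoidalCategory.whiskerLeft_comp_assoc,
          associator_naturality_right_assoc] }
  obtain ⟨z, hz⟩ := Chev.BorelFixed.exists_fixed T Z b
  refine ⟨z ≫ i, hr.subset ⟨rpt z, map_rpt i z⟩, fun W g => ?_⟩
  have h := congrArg (· ≫ i) (hz W g)
  simp only [Category.assoc] at h
  refine Eq.trans ?_ h
  show _ = lift g (toUnit W ≫ z) ≫ act' ≫ i
  rw [hact, lift_whiskerLeft_assoc, Category.assoc]

/-- Connected groups fix the points of closed invariant sets which lie in affine opens. -/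
theorem isFixedPt_of_affine_open {T X V : Over S₀} [GrpObj T] [IsAffine T.left] [Smooth T.hom] [ConnectedSpace T.left]
    [IsProper X.hom] (a : AlgGrp.Action T X) {Y : Set X.left} (hY : IsClosed Y)
    (ψ : V ⟶ X) [IsOpenImmersion ψ.left] [IsAffine V.left] (hsub : Y ⊆ Set.range ψ.left)
    (hst : ∀ (t : Chev.RP T) (z : Chev.RP X), rpt z ∈ Y → rpt (lift t z ≫ a.act) ∈ Y)
    (z : Chev.RP X) (hz : rpt z ∈ Y) : a.IsFixedPt z := by
  obtain ⟨Y', i', hi', hred, hr⟩ := GrpAct.exists_reduced_subscheme hY.isLocallyClosed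
  haveI : IsClosedImmersion i' := IsClosedImmersion.of_isPreimmersion i' (hr ▸ hY)
  let Z : Over S₀ := Over.mk (i' ≫ X.hom)
  let i : Z ⟶ X := Over.homMk i'
  haveI : IsClosedImmersion i.left := ‹IsClosedImmersion i'›
  haveI : Mono i := Over.mono_of_mono_left i
  haveI : IsProper Z.hom := inferInstanceAs (IsProper (i' ≫ X.hom))
  let l : Z.left ⟶ V.left := IsOpenImmersion.lift ψ.left i.left (show Set.range i' ⊆ _ from hr ▸ hsub)
  haveI : IsClosedImmersion (l ≫ ψ.left) := by rw [IsOpenImmersion.lift_fac]; infer_instance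
  haveI : IsClosedImmersion l := IsClosedImmersion.of_comp l ψ.left
  haveI : IsAffine Z.left := isAffine_of_isAffineHom l
  haveI : IsAffineHom Z.hom := isAffineHom_of_isAffine Z.hom
  haveI : IsFinite Z.hom := IsFinite.iff_isProper_and_isAffineHom.2 ⟨inferInstance, inferInstance⟩
  haveI : Finite Z.left := by
    have h := Scheme.Hom.finite_preimage_singleton Z.hom (IsLocalRing.closedPoint k)
    have e : Z.hom ⁻¹' {IsLocalRing.closedPoint k} = Set.univ := Set.eq_univ_of_forall fun y => by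
      haveI : Subsingleton (Spec (CommRingCat.of k)) := inferInstanceAs (Subsingleton (PrimeSpectrum k))
      exact Subsingleton.elim _ _
    rw [e] at h
    exact Set.finite_univ_iff.1 h
  haveI : JacobsonSpace Z.left := LocallyOfFiniteType.jacobsonSpace Z.hom
  haveI : IsReduced T.left := SmoothRed.isReduced_of_smooth_scheme T.hom
  haveI : LocallyOfFiniteType T.hom := inferInstance
  obtain ⟨θ, hθ⟩ := Chev.BorelFixed.exists_lift_rp (a.orbitMap z) i (fun t => by
    rw [Chev.BorelFixed.rp_orbitMap, show Set.range i.left = Y from hr]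
    exact hst t z hz)
  have hc : ∀ t : Chev.RP T, t ≫ a.orbitMap z = z := fun t => by
    obtain ⟨q, hq⟩ : ∃ q : Chev.RP Z, q = (1 : Chev.RP T) ≫ θ := ⟨_, rfl⟩
    have h0 : t ≫ θ = (1 : Chev.RP T) ≫ θ := by
      refine rpt_injective ?_
      rw [← map_rpt, ← map_rpt]
      exact PreconnectedSpace.constant inferInstance θ.left.continuous
    rw [← hθ, ← Category.assoc, h0, Category.assoc, hθ, Chev.BorelFixed.rp_orbitMap, GrpAct.one_smul']
  intro W g
  have e : a.orbitMap z = toUnit T ≫ z := Chev.BorelFixed.hom_ext_rp fun t => by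
    rw [hc, ← Category.assoc, toUnit_unique (t ≫ toUnit T) (𝟙 _), Category.id_comp]
  rw [← GrpAct.comp_orbitMap, e, ← Category.assoc, toUnit_unique (g ≫ toUnit T) (toUnit W)]

end Groth.Agent.RootSys
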