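import Groth.Agent.RootSys.Partition
import Mathlib.Analysis.Matrix.PosDef
import Mathlib.Data.Real.StarOrdered

/-!
# The canonical form on simple roots
-/

noncomputable section
open Function Set Matrix
open scoped ComplexOrder

namespace Groth.Agent.RootSys

variable {ι M N : Type*} [AddCommGroup M] [AddCommGroup N] {P : RootPairing ι ℤ M N} [Fintype ι] [DecidableEq ι]

/-- The Gram matrix of the canonical form on a finite family of roots. -/
def gram (P : RootPairing ι ℤ M N) (D : Finset ι) : Matrix D D ℤ :=
  .of fun a b => P.RootForm (P.root a) (P.root b)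

lemma gram_eq_transpose_mul (D : Finset ι) :
    gram P D = (Matrix.of fun (j : ι) (a : D) => P.pairing a j)ᵀ * Matrix.of fun (j : ι) (a : D) => P.pairing a j := by
  ext a b
  simp [gram, Matrix.mul_apply, RootPairing.rootForm_apply_apply, P.root_coroot'_eq_pairing]

omit [DecidableEq ι] in
lemma rootForm_comm (x y : M) : P.RootForm x y = P.RootForm y x := by
  simp only [RootPairing.rootForm_apply_apply, mul_comm]

lemma gram_form_pos {D : Finset ι} (hD : LinearIndepOn ℤ P.root (D : Set ι)) {x : D → ℤ} (hx : x ≠ 0) :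
    0 < x ⬝ᵥ (gram P D *ᵥ x) := by
  have e : x ⬝ᵥ (gram P D *ᵥ x) = P.RootForm (∑ a, x a • P.root a) (∑ a, x a • P.root a) := by
    simp [gram, dotProduct, Matrix.mulVec, LinearMap.sum_apply, Finset.mul_sum, map_sum]
    refine Finset.sum_congr rfl fun a _ => Finset.sum_congr rfl fun b _ => ?_
    rw [rootForm_comm (P.root b) (P.root a)]
    ring
  rw [e]
  refine P.rootForm_pos_of_ne_zero (Submodule.sum_mem _ fun a _ => Submodule.smul_mem _ _ (Submodule.subset_span ⟨_, rfl⟩))
    fun h0 => hx ?_
  exact funext (Fintype.linearIndependent_iff.mp hD.linearIndependent x h0)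

lemma det_gram_pos {D : Finset ι} (hD : LinearIndepOn ℤ P.root (D : Set ι)) : 0 < (gram P D).det := by
  classical
  let A : Matrix ι D ℝ := Matrix.of fun (j : ι) (a : D) => (P.pairing a j : ℝ)
  have e : (gram P D).map (Int.cast : ℤ → ℝ) = Aᴴ * A := by
    rw [gram_eq_transpose_mul]
    ext a b
    simp [A, Matrix.mul_apply]
  have h0 : (0 : ℝ) ≤ ((gram P D).det : ℝ) := by
    rw [Int.cast_det, e]
    exact (Matrix.posSemidef_conjTranspose_mul_self A).det_nonneg
  refine lt_of_le_of_ne (by exact_mod_cast h0) fun hz => ?_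
  obtain ⟨v, hv, hv0⟩ := Matrix.exists_mulVec_eq_zero_iff.mpr hz.symm
  have := gram_form_pos hD hv
  rw [hv0, dotProduct_zero] at this
  exact lt_irrefl _ this

lemma cartan_det_pos {D : Finset ι} (hD : LinearIndepOn ℤ P.root (D : Set ι)) :
    0 < Matrix.det (Matrix.of fun (a b : D) => P.pairing (b : ι) (a : ι)) := by
  classical
  have e : (Matrix.diagonal fun a : D => P.RootForm (P.root a) (P.root a)) *
      (Matrix.of fun (a b : D) => P.pairing (b : ι) (a : ι)) = (2 : ℤ) • gram P D := by
    ext a b
    simp [Matrix.diagonal_mul, gram, rootForm_mul_pairing]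
  have e2 := congr_arg Matrix.det e
  rw [Matrix.det_mul, Matrix.det_diagonal, Matrix.det_smul] at e2
  have hpos : 0 < ∏ a : D, P.RootForm (P.root a) (P.root a) := Finset.prod_pos fun a _ => rootForm_pos _
  refine pos_of_mul_pos_right ?_ hpos.le
  rw [e2]
  exact mul_pos (pow_pos two_pos _) (det_gram_pos hD)

lemma rootForm_smul_eq (g : P.Aut) (x y : M) : P.RootForm (g • x) (g • y) = P.RootForm x y := by
  rw [RootPairing.rootForm_apply_apply, RootPairing.rootForm_apply_apply,
    ← Equiv.sum_comp (MulAction.toPerm g : Equiv.Perm ι) (fun i => P.coroot' i (g • x) * P.coroot' i (g • y))]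
  refine Finset.sum_congr rfl fun i _ => ?_
  show P.coroot' (g • i) (g • x) * P.coroot' (g • i) (g • y) = _
  rw [coroot'_smul, coroot'_smul]

end Groth.Agent.RootSys
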