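import Groth.Agent.RootSys.RankOne
import Groth.Agent.DynPar.Parabolic

/-!
# Roots of a reductive group over an algebraically closed field
-/

set_option autoImplicit false
set_option backward.isDefEq.respectTransparency false
set_option linter.style.haveILetI false
set_option maxHeartbeats 1000000
set_option synthInstance.maxHeartbeats 400000

universe u

open CategoryTheory Limits MonoidalCategory CartesianMonoidalCategory MonObj AlgebraicGeometry LieS
open scoped CategoryTheory.Obj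

noncomputable section

namespace Groth.Agent.RootSys

open Groth.Agent.HomDiag Groth.Agent.DynPar Groth.Agent.RootIntrinsic
open Groth.Agent.DynPar.Der (dv uB pl sG)

variable {k : Type u} [Field k] [IsAlgClosed k]

/-- The centraliser of the kernel of a weight. -/
structure KerData {G : Over (Spec (CommRingCat.of k))} [GrpObj G] [IsAffine G.left]
    {M : Type} [AddCommGroup M] (i : Red.DS (Spec (CommRingCat.of k)) M ⟶ G) [IsMonHom i] {M' : Type}
    [AddCommGroup M'] (π : M →+ M') {C : Over (Spec (CommRingCat.of k))} [GrpObj C] (c : C ⟶ G)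
    (tC : Red.DS (Spec (CommRingCat.of k)) M ⟶ C) : Prop where
  hc : Red.IsCentralizerOf (Red.DSmap _ π ≫ i) c
  htC : tC ≫ c = i
  htC_hom : IsMonHom tC
  hc_imm : IsClosedImmersion c.left
  hred : Red.IsReductiveOver k C
  hmax : AGF.IsMaxTorus tC
  hself : Red.IsCentralizerOf tC tC

theorem exists_kerData {G : Over (Spec (CommRingCat.of k))} [GrpObj G] [IsAffine G.left] (hG : Red.IsReductiveOver k G)
    {M : Type} [AddCommGroup M] [Module.Free ℤ M] [Module.Finite ℤ M]
    (i : Red.DS (Spec (CommRingCat.of k)) M ⟶ G) [IsMonHom i]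
    (hi : AGF.IsMaxTorus i) {M' : Type} [AddCommGroup M'] [Module.Free ℤ M'] [Module.Finite ℤ M'] (π : M →+ M')
    (hπ : Function.Surjective π) :
    ∃ (C : Over (Spec (CommRingCat.of k))) (_ : GrpObj C) (c : C ⟶ G) (tC : Red.DS (Spec (CommRingCat.of k)) M ⟶ C),
      KerData i π c tC := by
  haveI := hG.2.1; haveI := hG.2.2.1; haveI := hi.2.1
  haveI : IsAffineHom G.hom := isAffineHom_of_isAffine G.hom
  have hself := exists_isCentralizerOf_self hG i hi
  let b := Module.finBasis ℤ M'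
  let π' : M →+ (Fin (Module.finrank ℤ M') → ℤ) := b.equivFun.toAddEquiv.toAddMonoidHom.comp π
  haveI : IsClosedImmersion (Red.DSmap (Spec (CommRingCat.of k)) π').left :=
    MTPrime.isClosedImmersion_of_surjective π' (b.equivFun.surjective.comp hπ)
  haveI : Mono (Red.DSmap (Spec (CommRingCat.of k)) π') := Over.mono_of_mono_left _
  let iS := Red.DSmap (Spec (CommRingCat.of k)) π' ≫ i
  haveI : Mono iS := mono_comp _ i
  have hSt := Chev.CharQuot.isTorus_DS (k := k) (Module.finrank ℤ M')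
  obtain ⟨C, _, c, hc, hcc, -⟩ := exists_centralizer_DS (G := G) inferInstance inferInstance iS
  haveI := hc.1; haveI := hc.2.1; haveI := hcc
  have hCred := RedCent.isReductiveOver_centralizer hG iS hSt c hc
  obtain ⟨tC, htC⟩ := (hc.2.2 _ i).2 fun X' x h => by
    show (x ≫ i) * (h ≫ Red.DSmap _ π' ≫ i) = (h ≫ Red.DSmap _ π' ≫ i) * (x ≫ i)
    rw [← Category.assoc, ← MonObj.mul_comp, ← MonObj.mul_comp, DS_comm]
  haveI : IsMonHom tC := MTSplit.isMonHom_of_comp_mono tC c i htC
  haveI : Mono tC := by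
    haveI : Mono (tC ≫ c) := by rw [htC]; infer_instance
    exact mono_of_mono tC c
  refine ⟨C, inferInstance, c, tC, ?_, htC, inferInstance, hcc, hCred, ?_, ?_⟩
  · refine centralizer_congr hc fun B _ f g => ?_
    rw [mem_ZSub_iff i π' gens_univ, mem_ZSub_iff i π gens_univ]
    refine forall₂_congr fun x _ => forall_congr' fun m => imp_congr_left ?_
    exact (map_ne_zero_iff (b.equivFun.toAddEquiv.toAddMonoidHom) b.equivFun.injective)
  · refine ⟨inferInstance, inferInstance, hi.2.2.1, fun T' _ j _ _ g hT' hg => ?_⟩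
    haveI : Mono (j ≫ c) := mono_comp j c
    exact hi.2.2.2 T' (j ≫ c) g hT' (by rw [← Category.assoc, hg, htC])
  · refine ⟨inferInstance, inferInstance, fun X g => ⟨fun ⟨x, hx⟩ X' a h => ?_, fun hg => ?_⟩⟩
    · rw [← hx, ← Category.assoc, ← MonObj.mul_comp, ← MonObj.mul_comp, DS_comm]
    · obtain ⟨x, hx⟩ := (hself.2.2 X (g ≫ c)).2 fun X' a h => by
        rw [← htC, ← Category.assoc, ← Category.assoc, ← MonObj.mul_comp, ← MonObj.mul_comp, hg]
      exact ⟨x, by rw [← cancel_mono c, Category.assoc, htC, hx]⟩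

/-- Weight vectors in the kernel of the functional come from the centraliser. -/
theorem KerData.exists_lift {G : Over (Spec (CommRingCat.of k))} [GrpObj G] [IsAffine G.left]
    {M : Type} [AddCommGroup M] {i : Red.DS (Spec (CommRingCat.of k)) M ⟶ G} [IsMonHom i] {M' : Type}
    [AddCommGroup M'] {π : M →+ M'} {C : Over (Spec (CommRingCat.of k))} [GrpObj C] [IsAffine C.left] {c : C ⟶ G}
    {tC : Red.DS (Spec (CommRingCat.of k)) M ⟶ C} [IsMonHom tC] [IsMonHom c] (D : KerData i π c tC)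
    {R : Type u} [CommRing R] {f : Spec (CommRingCat.of R) ⟶ Spec (CommRingCat.of k)} {v : Lie G R f} {d : M}
    (hv : IsWt i v d) (hd : π d = 0) : ∃ v₀ : Lie C R f, IsWt tC v₀ d ∧ LieS.map R f c v₀ = v := by
  haveI := D.hc_imm
  haveI : Mono c := Over.mono_of_mono_left c
  have h0 : IsWt (Red.DSmap _ π ≫ i) v 0 := by rw [← hd]; exact IsWt.DSmap (c := i) hv π
  obtain ⟨y, hy⟩ := exists_centralizer_lift D.hc ((mem_ZSub_iff_isWt_zero _ v).2 h0)
  let y' : dpt R f ⟶ C := y
  have hy' : y' ≫ c = v.1 := hy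
  have hmem : y' ∈ Lie C R f := by
    rw [mem_Lie_iff, ← cancel_mono c, Category.assoc, hy', (mem_Lie_iff G R f v.1).1 v.2, MonObj.one_comp]
  refine ⟨⟨y', hmem⟩, ?_, Subtype.ext hy'⟩
  refine IsWt.of_map (c := tC) (φ := c) D.htC ?_
  rwa [show LieS.map R f c ⟨y', hmem⟩ = v from Subtype.ext hy']

/-- Weights of the centraliser lie in the kernel of the functional. -/
theorem KerData.wt_mem_ker {G : Over (Spec (CommRingCat.of k))} [GrpObj G] [IsAffine G.left]
    {M : Type} [AddCommGroup M] {i : Red.DS (Spec (CommRingCat.of k)) M ⟶ G} [IsMonHom i] {M' : Type}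
    [AddCommGroup M'] {π : M →+ M'} {C : Over (Spec (CommRingCat.of k))} [GrpObj C] [IsAffine C.left] {c : C ⟶ G}
    {tC : Red.DS (Spec (CommRingCat.of k)) M ⟶ C} [IsMonHom tC] [IsMonHom c] (D : KerData i π c tC)
    {R : Type u} [CommRing R] {f : Spec (CommRingCat.of R) ⟶ Spec (CommRingCat.of k)} {v : Lie C R f} {d : M}
    (hv : IsWt tC v d) (hv1 : v ≠ 1) : π d = 0 := by
  haveI := D.hc_imm
  haveI : Mono c := Over.mono_of_mono_left c
  by_contra hd
  have h1 : IsWt i (LieS.map R f c v) d := IsWt.map (c := tC) (φ := c) hv i D.htC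
  have h2 : IsWt (Red.DSmap _ π ≫ i) (LieS.map R f c v) 0 :=
    (mem_ZSub_iff_isWt_zero _ _).1 (mem_ZSub_of_centralizer D.hc (v.1 : pt (DualNumber R) (fd f) ⟶ C))
  have h3 := IsWt.eq_one (c := Red.DSmap _ π ≫ i) (IsWt.DSmap (c := i) h1 π) h2 hd
  exact hv1 (map_injective c (h3.trans (map_one _).symm))

local notation "f₀" => 𝟙 (Spec (CommRingCat.of k))

/-- **Roots over an algebraically closed field**: opposite weights occur, proportional weights differ by a sign,
and the weight spaces are lines. -/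
theorem global_rank_one {G : Over (Spec (CommRingCat.of k))} [GrpObj G] [IsAffine G.left] (hG : Red.IsReductiveOver k G)
    {M : Type} [AddCommGroup M] [Module.Free ℤ M] [Module.Finite ℤ M]
    (i : Red.DS (Spec (CommRingCat.of k)) M ⟶ G) [IsMonHom i] (hi : AGF.IsMaxTorus i)
    {v : Lie G k f₀} {d : M} (hv : IsWt i v d) (hd : d ≠ 0) (hv1 : v ≠ 1) :
    (∃ w : Lie G k f₀, IsWt i w (-d) ∧ w ≠ 1) ∧
      ∀ (e : M) (w : Lie G k f₀), IsWt i w e → w ≠ 1 → e ≠ 0 → (∃ a b : ℤ, b ≠ 0 ∧ b • e = a • d) →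
        (e = d ∧ ∃ r : k, w = r • v) ∨ e = -d := by
  obtain ⟨M', _, _, _, π, m₁, hπs, hm₁, hπ₁, hπd, hker⟩ := exists_line d hd
  obtain ⟨C, _, c, tC, D⟩ := exists_kerData hG i hi π hπs
  haveI := D.htC_hom; haveI := D.hc.1; haveI := D.hc_imm
  haveI : Mono c := Over.mono_of_mono_left c
  haveI := D.hred.1; haveI := D.hred.2.1; haveI := D.hred.2.2.1
  haveI : IsAffine C.left := isAffine_of_isAffineHom c.left
  have hcent : ∀ (n : Chev.RP C) (X : Over (Spec (CommRingCat.of k))) (t : X ⟶ Red.DS (Spec (CommRingCat.of k)) M'),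
      (toUnit X ≫ n) * (t ≫ Red.DSmap _ π ≫ tC) = (t ≫ Red.DSmap _ π ≫ tC) * (toUnit X ≫ n) := fun n X t => by
    rw [← cancel_mono c]
    simp only [MonObj.mul_comp, Category.assoc, D.htC]
    exact (D.hc.2.2 _ (n ≫ c)).1 ⟨n, rfl⟩ X (toUnit X) t
  obtain ⟨v₀, hv₀, rfl⟩ := D.exists_lift hv hπd
  have hv01 : v₀ ≠ 1 := fun h => hv1 (by rw [h, map_one])
  obtain ⟨⟨w₀, hw₀, hw01⟩, hall⟩ := rank_one tC D.hred D.hmax D.hself π m₁ hm₁ hπ₁ hker hcent
    (fun u e hu hu1 => D.wt_mem_ker hu hu1) hv₀ hd hv01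
  refine ⟨⟨_, IsWt.map (c := tC) (φ := c) hw₀ i D.htC, fun h => hw01 (map_injective c (h.trans (map_one _).symm))⟩, ?_⟩
  rintro e w hw hw1 he ⟨a, b, hb, hab⟩
  have hπe : π e = 0 := by
    have h := congrArg π hab
    rw [map_zsmul, map_zsmul, hπd, smul_zero, smul_eq_zero] at h
    exact h.resolve_left hb
  obtain ⟨u, hu, rfl⟩ := D.exists_lift hw hπe
  rcases hall e u hu (fun h => hw1 (by rw [h, map_one])) he with ⟨rfl, r, rfl⟩ | h
  · exact Or.inl ⟨rfl, r, map_smul c r v₀⟩
  · exact Or.inr h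

end Groth.Agent.RootSys
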