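import Groth.Agent.RootSys.Weight
import Groth.Agent.RootSys.Bruhat
import Groth.Agent.RootSys.Killer
import Groth.Agent.DynPar.Borel
import Groth.Agent.S3912

/-!
# Weights of a group with a central kernel torus
-/

set_option autoImplicit false
set_option backward.isDefEq.respectTransparency false
set_option linter.style.haveILetI false
set_option maxHeartbeats 1000000
set_option synthInstance.maxHeartbeats 400000

universe u

open CategoryTheory Limits MonoidalCategory CartesianMonoidalCategory MonObj AlgebraicGeometry LieS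
open scoped CategoryTheory.Obj

noncomputable section

namespace Groth.Agent.RootSys

open Groth.Agent.HomDiag Groth.Agent.DynPar Groth.Agent.RootIntrinsic
open Groth.Agent.DynPar.Der (dv uB pl sG)

variable {k : Type u} [Field k]

theorem IsWt.congr_hom {G : Over (Spec (CommRingCat.of k))} [GrpObj G] [IsAffine G.left] {Γ : Type} [AddCommGroup Γ]
    {c c' : Red.DS (Spec (CommRingCat.of k)) Γ ⟶ G} [IsMonHom c] [IsMonHom c'] (h : c = c') {B : Type u} [CommRing B]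
    {f : Spec (CommRingCat.of B) ⟶ Spec (CommRingCat.of k)} {v : Lie G B f} {a : Γ} (hv : IsWt c v a) :
    IsWt c' v a := by
  subst h
  exact hv

/-- Transport of weights along an automorphism normalising the torus. -/
theorem IsWt.transport {C : Over (Spec (CommRingCat.of k))} [GrpObj C] [IsAffine C.left]
    {M : Type} [AddCommGroup M] {j : Red.DS (Spec (CommRingCat.of k)) M ⟶ C} [IsMonHom j] (φ : C ⟶ C) [IsMonHom φ]
    (θ θ' : M →+ M) (hθ : Red.DSmap _ θ ≫ j = j ≫ φ) (hinv : θ'.comp θ = AddMonoidHom.id M)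
    {B : Type u} [CommRing B] {f : Spec (CommRingCat.of B) ⟶ Spec (CommRingCat.of k)}
    {v : Lie C B f} {d : M} (hv : IsWt j v d) : IsWt j (LieS.map B f φ v) (θ' d) := by
  have h1 := hv.map (φ := φ) (Red.DSmap _ θ ≫ j) hθ.symm
  haveI : IsMonHom (Red.DSmap (Spec (CommRingCat.of k)) θ' ≫ Red.DSmap _ θ ≫ j) := inferInstance
  exact (h1.DSmap θ').congr_hom (by rw [← Category.assoc, DSmap_comp_apply, hinv, DSmap_id, Category.id_comp])

/-- The functions of negative weight vanish on the subgroup with limits. -/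
theorem appTop_wc_eq_zero {C B : Over (Spec (CommRingCat.of k))} [GrpObj C] [GrpObj B] [IsAffine C.left]
    {M : Type} [AddCommGroup M] (j : Red.DS (Spec (CommRingCat.of k)) M ⟶ C) [IsMonHom j] (mu : M →+ ℤ)
    {b : B ⟶ C} (hb : IsP (Red.DSmap _ mu ≫ j) b) (x : Γ(C.left, ⊤)) {m : M} (hm : mu m < 0) :
    b.left.appTop (wc j x m) = 0 := by
  haveI := hb.2.1
  haveI : IsAffine B.left := isAffine_of_isAffineHom b.left
  let y : pt Γ(B.left, ⊤) (B.left.isoSpec.inv ≫ B.hom) ⟶ B := Over.homMk B.left.isoSpec.inv rfl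
  have hy : rp y = RingHom.id _ := by
    rw [← rep_left_eq_rp]
    refine Der.rep_eq ?_
    rw [CommRingCat.ofHom_id, Spec.map_id, Category.id_comp]
    rfl
  have h := (mem_PSub_iff j mu gens_univ).1 (hb.exists_fac_iff.1 ⟨y, rfl⟩) x (Set.mem_univ x) m hm
  rw [rp_comp_left, hy] at h
  exact h

theorem dv_inv {C : Over (Spec (CommRingCat.of k))} [GrpObj C] [IsAffine C.left] {B : Type u} [CommRing B]
    {f : Spec (CommRingCat.of B) ⟶ Spec (CommRingCat.of k)} (v : Lie C B f) (x : Γ(C.left, ⊤)) :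
    dv v⁻¹ x = - dv v x := by
  have h := Der.dv_mul v v⁻¹ x
  rw [mul_inv_cancel, Der.dv_one] at h
  exact eq_neg_of_add_eq_zero_right h.symm

/-- Tangent vectors of a subgroup kill its functions. -/
theorem dv_map_eq_zero {C B : Over (Spec (CommRingCat.of k))} [GrpObj C] [GrpObj B] [IsAffine C.left]
    (b : B ⟶ C) [IsMonHom b] {R : Type u} [CommRing R] {f : Spec (CommRingCat.of R) ⟶ Spec (CommRingCat.of k)}
    (v : Lie B R f) {a : Γ(C.left, ⊤)} (ha : b.left.appTop a = 0) : dv (LieS.map R f b v) a = 0 := by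
  rw [← rp_vec_snd]
  show TrivSqZeroExt.snd (rp ((v.1 : pt (DualNumber R) (fd f) ⟶ B) ≫ b) a) = 0
  rw [rp_comp_left, RingHom.comp_apply, show b.left.appTop.hom a = 0 from ha, map_zero, TrivSqZeroExt.snd_zero]

/-- Vectors with a limit are tangent to the subgroup with limits. -/
theorem exists_map_eq {C B : Over (Spec (CommRingCat.of k))} [GrpObj C] [GrpObj B] [IsAffine C.left]
    {M : Type} [AddCommGroup M] (j : Red.DS (Spec (CommRingCat.of k)) M ⟶ C) [IsMonHom j] (mu : M →+ ℤ)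
    {b : B ⟶ C} [IsMonHom b] (hb : IsP (Red.DSmap _ mu ≫ j) b) {R : Type u} [CommRing R]
    {f : Spec (CommRingCat.of R) ⟶ Spec (CommRingCat.of k)} {v : Lie C R f} {d : M} (hv : IsWt j v d)
    (hd : 0 ≤ mu d) : ∃ v₀ : Lie B R f, LieS.map R f b v₀ = v := by
  haveI := hb.2.1
  haveI : Mono b := Over.mono_of_mono_left b
  haveI : IsAffineHom C.hom := isAffineHom_of_isAffine C.hom
  have hP : (v.1 : pt (DualNumber R) (fd f) ⟶ C) ∈ PSub (fd f) (Red.DSmap (Spec (CommRingCat.of k)) mu ≫ j) :=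
    IsWt.mem_PSub (c := j) hv mu hd
  obtain ⟨y, hy⟩ := (hb.exists_fac_iff (B := DualNumber R) (f := fd f) (g := v.1)).2 hP
  let y' : dpt R f ⟶ B := y
  have hy' : y' ≫ b = v.1 := hy
  refine ⟨⟨y', ?_⟩, Subtype.ext hy'⟩
  rw [mem_Lie_iff, ← cancel_mono b, Category.assoc, hy', (mem_Lie_iff C R f v.1).1 v.2, MonObj.one_comp]

variable [IsAlgClosed k] {C : Over (Spec (CommRingCat.of k))} [GrpObj C] [IsAffine C.left] [Smooth C.hom]
  [ConnectedSpace C.left]

local notation "f₀" => 𝟙 (Spec (CommRingCat.of k))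

/-- Negative weight vectors are proportional. -/
theorem neg_unique {M : Type} [AddCommGroup M] (j : Red.DS (Spec (CommRingCat.of k)) M ⟶ C) [IsMonHom j]
    (mu : M →+ ℤ) {B : Over (Spec (CommRingCat.of k))} [GrpObj B] {b : B ⟶ C} (hb : IsP (Red.DSmap _ mu ≫ j) b)
    (z : Γ(C.left, ⊤)) (hz : ∀ v : Lie C k f₀, dv v z = 0 → ∀ a, b.left.appTop a = 0 → dv v a = 0)
    {v w : Lie C k f₀} {d e : M} (hv : IsWt j v d) (hd : mu d < 0) (hv1 : v ≠ 1) (hw : IsWt j w e) (he : mu e < 0)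
    (hw1 : w ≠ 1) : e = d ∧ ∃ r : k, w = r • v := by
  have hzero : ∀ {u : Lie C k f₀}, dv u z = 0 → ∀ x m, mu m < 0 → dv u (wc j x m) = 0 := fun hu x m hm =>
    hz _ hu _ (appTop_wc_eq_zero j mu hb x hm)
  have hvz : dv v z ≠ 0 := fun h => hv1 (Der.dv_injective (funext fun x => by
    rw [Der.dv_one, ← hv.dv_wc_self, hzero h x d hd]))
  let r : k := dv w z / dv v z
  have hu : ∀ x, dv ((r • v) * w⁻¹) x = r * dv v x - dv w x := fun x => by
    rw [Der.dv_mul, Der.dv_smul, dv_inv, sub_eq_add_neg]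
  have huz : dv ((r • v) * w⁻¹) z = 0 := by
    rw [hu, div_mul_cancel₀ _ hvz, sub_self]
  have hed : e = d := by
    by_contra hne
    refine hw1 (Der.dv_injective (funext fun x => ?_))
    have h := hzero huz x e he
    rw [hu, hv x e hne, mul_zero, zero_sub, neg_eq_zero, hw.dv_wc_self] at h
    rw [Der.dv_one, h]
  subst hed
  refine ⟨rfl, r, Der.dv_injective (funext fun x => ?_)⟩
  have h := hzero huz x e he
  rw [hu, hv.dv_wc_self, hw.dv_wc_self, sub_eq_zero] at h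
  rw [Der.dv_smul, h]

/-- A homomorphism which is the identity modulo a line is a sign on the line. -/
theorem line_sign {M M' : Type} [AddCommGroup M] [Module.Free ℤ M] [AddCommGroup M'] (π : M →+ M') (m₁ : M)
    (hm₁ : m₁ ≠ 0) (hπ₁ : π m₁ = 0) (hker : ∀ x, π x = 0 → ∃ l : ℤ, x = l • m₁) (w w' : M →+ M)
    (hw : ∀ x, π (w x) = π x) (hww' : ∀ x, w (w' x) = x) :
    (∀ x, π x = 0 → w x = x) ∨ ∀ x, π x = 0 → w x = -x := by
  obtain ⟨a, ha⟩ := hker (w m₁) (by rw [hw, hπ₁])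
  obtain ⟨c, hc⟩ := hker (w' m₁) (by rw [← hw, hww', hπ₁])
  have h1 : c * a = 1 := smul_left_injective ℤ hm₁ (by
    show (c * a) • m₁ = (1 : ℤ) • m₁
    rw [mul_smul, ← ha, ← map_zsmul, ← hc, one_smul, hww'])
  rcases Int.eq_one_or_neg_one_of_mul_eq_one (by rw [mul_comm]; exact h1 : a * c = 1) with rfl | rfl
  · refine Or.inl fun x hx => ?_
    obtain ⟨l, rfl⟩ := hker x hx
    rw [map_zsmul, ha, one_smul]
  · refine Or.inr fun x hx => ?_
    obtain ⟨l, rfl⟩ := hker x hx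
    rw [map_zsmul, ha, neg_one_smul, smul_neg]

variable {M : Type} [AddCommGroup M] [Module.Free ℤ M] [Module.Finite ℤ M]
  (j : Red.DS (Spec (CommRingCat.of k)) M ⟶ C) [IsMonHom j]

/-- Nonzero weights are nonzero on regular functionals. -/
theorem ne_zero_of_regular (mu : M →+ ℤ) (hreg : Regular j mu) {v : Lie C k f₀} {d : M} (hv : IsWt j v d)
    (hv1 : v ≠ 1) (hd : d ≠ 0) : mu d ≠ 0 := fun h => hv1 (by
  have h0 : IsWt (Red.DSmap _ mu ≫ j) v 0 := by rw [← h]; exact hv.DSmap mu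
  exact hv.eq_one ((mem_ZSub_iff_isWt_zero j v).1 (hreg _ _ _ ((mem_ZSub_iff_isWt_zero _ v).2 h0))) hd)

/-- The rank one statement for a negative weight. -/
theorem rank_one_core (hCr : Red.IsReductiveOver k C) (hj : AGF.IsMaxTorus j) (hself : Red.IsCentralizerOf j j)
    {M' : Type} [AddCommGroup M'] (π : M →+ M') (m₁ : M) (hm₁ : m₁ ≠ 0) (hπ₁ : π m₁ = 0)
    (hker : ∀ x, π x = 0 → ∃ l : ℤ, x = l • m₁)
    (hcent : ∀ (n : Chev.RP C) (X : Over (Spec (CommRingCat.of k))) (t : X ⟶ Red.DS (Spec (CommRingCat.of k)) M'),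
      (toUnit X ≫ n) * (t ≫ Red.DSmap _ π ≫ j) = (t ≫ Red.DSmap _ π ≫ j) * (toUnit X ≫ n))
    (hwt : ∀ (v : Lie C k f₀) (d : M), IsWt j v d → v ≠ 1 → π d = 0)
    (mu : M →+ ℤ) (hreg : Regular j mu) {v : Lie C k f₀} {d : M} (hv : IsWt j v d) (hd : mu d < 0) (hv1 : v ≠ 1) :
    (∃ w : Lie C k f₀, IsWt j w (-d) ∧ w ≠ 1) ∧
      ∀ (e : M) (w : Lie C k f₀), IsWt j w e → w ≠ 1 → e ≠ 0 → (e = d ∧ ∃ r : k, w = r • v) ∨ e = -d := by
  let S := Spec (CommRingCat.of k)
  haveI := hj.2.1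
  haveI : IsAffineHom C.hom := isAffineHom_of_isAffine C.hom
  haveI : AddGroup.FG M := Module.Finite.iff_addGroup_fg.1 inferInstance
  have hreg' : Regular j (-mu) := fun B _ f g hg => hreg B f g ((mem_ZSub_neg j mu).1 hg)
  obtain ⟨B, _, b, hb⟩ := exists_isP (Red.DSmap S mu ≫ j)
  obtain ⟨B', _, b', hb'⟩ := exists_isP (Red.DSmap S (-mu) ≫ j)
  haveI := hb.1; haveI := hb.2.1; haveI := hb'.1; haveI := hb'.2.1
  haveI : Mono b := Over.mono_of_mono_left b
  haveI : Mono b' := Over.mono_of_mono_left b'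
  have hB := isBorelOver_of_regular hCr j hj hself mu hreg b hb
  have hB' := isBorelOver_of_regular hCr j hj hself (-mu) hreg' b' hb'
  haveI := hB.2.2.1; haveI := hB.2.2.2.1
  have hd' : 0 ≤ (-mu) d := by rw [AddMonoidHom.neg_apply]; omega
  have hne : ¬ ∃ e : B' ⟶ B, e ≫ b = b' := by
    rintro ⟨e, he⟩
    obtain ⟨v₀, hv₀⟩ := exists_map_eq j (-mu) hb' hv hd'
    refine hv1 (Der.dv_injective (funext fun x => ?_))
    rw [Der.dv_one, ← hv.dv_wc_self, ← hv₀]
    refine dv_map_eq_zero b' v₀ ?_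
    rw [← he, Over.comp_left, Scheme.Hom.comp_appTop, CommRingCat.comp_apply, appTop_wc_eq_zero j mu hb x hd, map_zero]
  obtain ⟨tB, htB⟩ : ∃ t, t ≫ b = j := hb.exists_le j fun A _ f y => ZSub_le_PSub f _ (comp_mem_ZSub j mu y)
  obtain ⟨tB', htB'⟩ : ∃ t, t ≫ b' = j := hb'.exists_le j fun A _ f y => ZSub_le_PSub f _ (comp_mem_ZSub j (-mu) y)
  obtain ⟨n, τ, σ, hτ, hσ⟩ := Groth.Agent.S3912.result k C _ _ _ j b b' hj hB hB' tB htB tB' htB'
  obtain ⟨x, hx1, hx⟩ := cell_compl j hj hself π m₁ hm₁ hπ₁ hker hcent mu hb hb' hB hB' hne n τ σ hτ hσ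
  obtain ⟨z, hz⟩ := exists_killer b x n hx1 hx
  have huniq : ∀ {v w : Lie C k f₀} {d e : M}, IsWt j v d → mu d < 0 → v ≠ 1 → IsWt j w e → mu e < 0 → w ≠ 1 →
      e = d ∧ ∃ r : k, w = r • v := fun h1 h2 h3 h4 h5 h6 => neg_unique j mu hb z hz h1 h2 h3 h4 h5 h6
  -- the action of the normalising point
  haveI : IsMonHom (AGF.conjBy n j) := Chev.Borel.isMonHom_conjBy n j
  haveI : IsMonHom τ.hom := MTSplit.isMonHom_of_comp_mono τ.hom j _ hτ
  obtain ⟨w, hw⟩ := Chev.CharQuot.exists_DSmap (k := k) τ.hom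
  have hτ' : τ.inv ≫ j = AGF.conjBy n⁻¹ j := by
    conv_rhs => rw [show j = τ.inv ≫ τ.hom ≫ j by rw [Iso.inv_hom_id_assoc], hτ, ← Chev.Borel.comp_conjBy',
      Chev.Borel.comp_conjBy', Chev.Borel.comp_conjBy', Chev.Borel.conjBy_conjBy, inv_mul_cancel, Chev.Borel.conjBy_one]
  haveI : IsMonHom (AGF.conjBy n⁻¹ j) := Chev.Borel.isMonHom_conjBy n⁻¹ j
  haveI : IsMonHom τ.inv := MTSplit.isMonHom_of_comp_mono τ.inv j _ hτ'
  obtain ⟨w', hw'⟩ := Chev.CharQuot.exists_DSmap (k := k) τ.inv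
  have hww' : w.comp w' = AddMonoidHom.id M := DSmap_injective (k := k) (by
    rw [← DSmap_comp_apply, ← hw, ← hw', Iso.hom_inv_id, DSmap_id])
  have hπw : ∀ y, π (w y) = π y := fun y => by
    have e : Red.DSmap S π ≫ τ.hom = Red.DSmap S π := by
      rw [← cancel_mono j, Category.assoc, hτ, Chev.Borel.comp_conjBy, mul_inv_eq_iff_eq_mul]
      have h := hcent n _ (𝟙 _)
      rwa [Category.id_comp] at h
    rw [hw, DSmap_comp_apply] at e
    exact congr($(DSmap_injective e) y)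
  let ψ : C ⟶ C := AGF.conjBy n⁻¹ (𝟙 C)
  haveI : IsMonHom ψ := Chev.Borel.isMonHom_conjBy n⁻¹ (𝟙 C)
  haveI : Mono ψ := by
    haveI : IsIso ψ := ⟨AGF.conjBy n (𝟙 C), by
      rw [Chev.Borel.comp_conjBy', Category.comp_id, Chev.Borel.conjBy_conjBy, mul_inv_cancel, Chev.Borel.conjBy_one],
      by rw [Chev.Borel.comp_conjBy', Category.comp_id, Chev.Borel.conjBy_conjBy, inv_mul_cancel, Chev.Borel.conjBy_one]⟩
    infer_instance
  have hjψ : Red.DSmap S w' ≫ j = j ≫ ψ := by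
    rw [← hw', hτ', Chev.Borel.comp_conjBy', Category.comp_id]
  have htr : ∀ {u : Lie C k f₀} {e : M}, IsWt j u e → IsWt j (LieS.map k f₀ ψ u) (w e) :=
    fun hu => hu.transport ψ w' w hjψ hww'
  have htr1 : ∀ {u : Lie C k f₀}, u ≠ 1 → LieS.map k f₀ ψ u ≠ 1 := fun hu h =>
    hu (map_injective ψ (h.trans (map_one _).symm))
  have hπd : π d = 0 := hwt v d hv hv1
  rcases line_sign π m₁ hm₁ hπ₁ hker w w' hπw (fun y => congr($hww' y)) with hs | hs
  · exfalso
    obtain ⟨v₀, hv₀⟩ := exists_map_eq j (-mu) hb' hv hd'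
    have e : b' ≫ ψ = σ.inv ≫ b := by
      rw [show b' = σ.inv ≫ AGF.conjBy n b by rw [← hσ, Iso.inv_hom_id_assoc], Category.assoc, Chev.Borel.comp_conjBy',
        Category.comp_id, Chev.Borel.conjBy_conjBy, inv_mul_cancel, Chev.Borel.conjBy_one]
    have hu := htr hv
    rw [hs d hπd] at hu
    refine htr1 hv1 (Der.dv_injective (funext fun y => ?_))
    rw [Der.dv_one, ← hu.dv_wc_self, ← hv₀, ← rp_vec_snd]
    show TrivSqZeroExt.snd (rp (((v₀.1 : pt (DualNumber k) (fd f₀) ⟶ B') ≫ b') ≫ ψ) (wc j y d)) = 0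
    rw [Category.assoc, e, ← Category.assoc, rp_comp_left, RingHom.comp_apply,
      show b.left.appTop.hom (wc j y d) = 0 from appTop_wc_eq_zero j mu hb y hd, map_zero, TrivSqZeroExt.snd_zero]
  · have hu := htr hv
    rw [hs d hπd] at hu
    refine ⟨⟨_, hu, htr1 hv1⟩, fun e u hu' hu1 he0 => ?_⟩
    rcases lt_or_gt_of_ne (ne_zero_of_regular j mu hreg hu' hu1 he0) with he | he
    · exact Or.inl (huniq hv hd hv1 hu' he hu1)
    · refine Or.inr ?_
      have h2 := htr hu'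
      rw [hs e (hwt u e hu' hu1)] at h2
      obtain ⟨h3, -⟩ := huniq hv hd hv1 h2 (by rw [map_neg]; omega) (htr1 hu1)
      rw [← h3, neg_neg]

/-- **The rank one statement.** -/
theorem rank_one (hCr : Red.IsReductiveOver k C) (hj : AGF.IsMaxTorus j) (hself : Red.IsCentralizerOf j j)
    {M' : Type} [AddCommGroup M'] (π : M →+ M') (m₁ : M) (hm₁ : m₁ ≠ 0) (hπ₁ : π m₁ = 0)
    (hker : ∀ x, π x = 0 → ∃ l : ℤ, x = l • m₁)
    (hcent : ∀ (n : Chev.RP C) (X : Over (Spec (CommRingCat.of k))) (t : X ⟶ Red.DS (Spec (CommRingCat.of k)) M'),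
      (toUnit X ≫ n) * (t ≫ Red.DSmap _ π ≫ j) = (t ≫ Red.DSmap _ π ≫ j) * (toUnit X ≫ n))
    (hwt : ∀ (v : Lie C k f₀) (d : M), IsWt j v d → v ≠ 1 → π d = 0)
    {v : Lie C k f₀} {d : M} (hv : IsWt j v d) (hd0 : d ≠ 0) (hv1 : v ≠ 1) :
    (∃ w : Lie C k f₀, IsWt j w (-d) ∧ w ≠ 1) ∧
      ∀ (e : M) (w : Lie C k f₀), IsWt j w e → w ≠ 1 → e ≠ 0 → (e = d ∧ ∃ r : k, w = r • v) ∨ e = -d := by
  obtain ⟨mu, hmu⟩ := exists_regular (G := C) j
  rcases lt_or_gt_of_ne (ne_zero_of_regular j mu hmu hv hv1 hd0) with h | h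
  · exact rank_one_core j hCr hj hself π m₁ hm₁ hπ₁ hker hcent hwt mu hmu hv h hv1
  · exact rank_one_core j hCr hj hself π m₁ hm₁ hπ₁ hker hcent hwt (-mu)
      (fun B _ f g hg => hmu B f g ((mem_ZSub_neg j mu).1 hg)) hv (by rw [AddMonoidHom.neg_apply]; omega) hv1

end Groth.Agent.RootSys
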