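import Groth.Agent.RootSys.Weight

/-!
# The coordinate of a subgroup normalised by a split torus whose tangent space is a weight line
-/

set_option autoImplicit false
set_option backward.isDefEq.respectTransparency false
set_option linter.style.haveILetI false
set_option maxHeartbeats 1000000
set_option synthInstance.maxHeartbeats 400000

universe u

open CategoryTheory Limits MonoidalCategory CartesianMonoidalCategory MonObj AlgebraicGeometry LieS
open scoped CategoryTheory.Obj

noncomputable section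

namespace Groth.Agent.RootSys

open Groth.Agent.HomDiag Groth.Agent.DynPar
open Groth.Agent.DynPar.Der (dv uB pl sG)

variable {k : Type u} [Field k] {G U : Over (Spec (CommRingCat.of k))} [GrpObj G] [GrpObj U] [IsAffine G.left]
  [IsAffine U.left] {M : Type} [AddCommGroup M] (c : Red.DS (Spec (CommRingCat.of k)) M ⟶ G) [IsMonHom c] (u : U ⟶ G)

/-- A subgroup normalised by the torus has functions graded compatibly with those of the group. -/
theorem exists_grade (hn : ∀ (X : Over (Spec (CommRingCat.of k))) (t : X ⟶ Red.DS (Spec (CommRingCat.of k)) M)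
      (x : X ⟶ U), ∃ x' : X ⟶ U, (t ≫ c) * (x ≫ u) * (t ≫ c)⁻¹ = x' ≫ u) :
    ∃ gr : Γ(U.left, ⊤) →+* AddMonoidAlgebra Γ(U.left, ⊤) M,
      (∀ r, gr (sG U r) = AddMonoidAlgebra.single 0 (sG U r)) ∧
      (∀ a, gr (u.left.appTop a) = ∑ m ∈ wts c a, AddMonoidAlgebra.single m (u.left.appTop (wc c a m))) ∧
      ∀ a m, gr (u.left.appTop (wc c a m)) = AddMonoidAlgebra.single m (u.left.appTop (wc c a m)) := by
  let f : Spec (CommRingCat.of Γ(U.left, ⊤)) ⟶ Spec (CommRingCat.of k) := U.left.isoSpec.inv ≫ U.hom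
  let y : pt Γ(U.left, ⊤) f ⟶ U := Over.homMk U.left.isoSpec.inv rfl
  have hy : rp y = RingHom.id _ := by
    rw [← rep_left_eq_rp]
    refine Der.rep_eq ?_
    rw [CommRingCat.ofHom_id, Spec.map_id, Category.id_comp]
    rfl
  obtain ⟨x, hx⟩ := hn _ (xu f M ≫ Red.DSmap _ (AddMonoidHom.id M)) (qc M f ≫ y)
  have e : orb f (Red.DSmap _ (AddMonoidHom.id M) ≫ c) (y ≫ u) = x ≫ u := by
    rw [orb_apply, ← hx]
    simp only [Category.assoc]
  have hu : ∀ {B : Type u} [CommRing B] {f' : Spec (CommRingCat.of B) ⟶ Spec (CommRingCat.of k)} (z : pt B f' ⟶ U)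
      (a : Γ(G.left, ⊤)), rp (z ≫ u) a = rp z (u.left.appTop a) := fun z a => by
    rw [rp_comp_left, RingHom.comp_apply]
  refine ⟨rp x, fun r => ?_, fun a => ?_, fun a m => ?_⟩
  · rw [sG_eq, rp_hom]
    have h1 := rp_hom y ((Scheme.ΓSpecIso (CommRingCat.of k)).inv r)
    rw [hy, RingHom.id_apply] at h1
    rw [scalar_mem_range (cC Γ(U.left, ⊤) M) (fC := f) (fC' := fL f M) rfl, ← h1]
    rfl
  · rw [← hu, ← e, rp_orb]
    refine Finset.sum_congr rfl fun m _ => ?_
    rw [hu, hy]
    rfl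
  · rw [← hu, ← e, rp_orb_wc, hu, hy]
    rfl

variable {c}

/-- **The coordinate.** -/
theorem exists_coord [IsDomain Γ(U.left, ⊤)] [IsNoetherianRing Γ(U.left, ⊤)] [Module.Free ℤ M] [IsMonHom u]
    (hs : Function.Surjective u.left.appTop)
    (hn : ∀ (X : Over (Spec (CommRingCat.of k))) (t : X ⟶ Red.DS (Spec (CommRingCat.of k)) M)
      (x : X ⟶ U), ∃ x' : X ⟶ U, (t ≫ c) * (x ≫ u) * (t ≫ c)⁻¹ = x' ≫ u) {d : M} (hd : d ≠ 0)
    (hU1 : ∀ w : Lie U k (Spec.map (CommRingCat.ofHom (algebraMap k k))),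
      IsWt c (LieS.map k _ u w) d)
    {w₀ : Lie U k (Spec.map (CommRingCat.ofHom (algebraMap k k)))} (hw₀ : LieS.map k _ u w₀ ≠ 1)
    (hU3 : ∀ w : Lie U k (Spec.map (CommRingCat.ofHom (algebraMap k k))),
      ∃ r : k, LieS.map k _ u w = r • LieS.map k _ u w₀) :
    ∃ a₀ : Γ(G.left, ⊤), let t := u.left.appTop (wc c a₀ d)
      (∀ {B : Type u} [CommRing B] (f : Spec (CommRingCat.of B) ⟶ Spec (CommRingCat.of k)),
        rp (1 : pt B f ⟶ U) t = 0) ∧
      Function.Bijective (Polynomial.eval₂RingHom (sG U) t) ∧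
      (∀ a (m : M), (∀ n : ℕ, m ≠ n • d) → u.left.appTop (wc c a m) = 0) ∧
      ∀ a (n : ℕ), ∃ r : k, u.left.appTop (wc c a (n • d)) = sG U r * t ^ n := by
  classical
  obtain ⟨gr, grs, grsum, grw⟩ := exists_grade c u hn
  let fk : Spec (CommRingCat.of k) ⟶ Spec (CommRingCat.of k) := Spec.map (CommRingCat.ofHom (algebraMap k k))
  have hfk : fk = 𝟙 _ := by
    show Spec.map _ = _
    rw [Algebra.algebraMap_self, CommRingCat.ofHom_id, Spec.map_id]
  let ε : Γ(U.left, ⊤) →+* k := uB U fk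
  have hεs : ∀ r, ε (sG U r) = r := fun r => by
    have h := Spec.map_injective ((Der.uB_sG (G := U) fk).trans
      (show fk = Spec.map (CommRingCat.ofHom (RingHom.id k)) by rw [hfk, CommRingCat.ofHom_id, Spec.map_id]))
    exact congr($(h).hom r)
  have hu1 : ∀ {B : Type u} [CommRing B] (f : Spec (CommRingCat.of B) ⟶ Spec (CommRingCat.of k)) (a : Γ(G.left, ⊤)),
      rp (1 : pt B f ⟶ U) (u.left.appTop a) = rp (1 : pt B f ⟶ G) a := fun {B} _ f a => by
    rw [← MonObj.one_comp u (X := pt B f), rp_comp_left, RingHom.comp_apply]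
  have hε0 : ∀ a {m : M}, m ≠ 0 → ε (u.left.appTop (wc c a m)) = 0 := fun a m hm => by
    show uB U fk _ = 0
    rw [uB_eq, hu1, rp_one_wc c a hm]
  have hdv : ∀ (w : Lie U k fk) a, dv (LieS.map k _ u w) a = dv w (u.left.appTop a) := fun w a => by
    rw [← rp_vec_snd, ← rp_vec_snd]
    show TrivSqZeroExt.snd (rp ((w.1 : pt (DualNumber k) (fd fk) ⟶ U) ≫ u) a) = _
    rw [rp_comp_left, RingHom.comp_apply]
  obtain ⟨a₀, ha₀⟩ : ∃ a, dv (LieS.map k _ u w₀) (wc c a d) ≠ 0 := by
    by_contra! h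
    exact hw₀ (Der.dv_injective (funext fun x => by rw [Der.dv_one, ← (hU1 w₀).dv_wc_self, h]))
  refine ⟨a₀, ?_⟩
  intro t
  have ht0 : ε t = 0 := hε0 a₀ hd
  have htw : dv w₀ t ≠ 0 := by rw [← hdv]; exact ha₀
  have htne : t ≠ 0 := fun h => htw (by rw [h, DynPar.dv_zero])
  have hgrt : ∀ n : ℕ, gr (t ^ n) = AddMonoidAlgebra.single (n • d) (t ^ n) := fun n => by
    rw [map_pow, show gr t = _ from grw a₀ d, AddMonoidAlgebra.single_pow]
  have htpow : ∀ (r : k) (n : ℕ), gr (sG U r * t ^ n) = AddMonoidAlgebra.single (n • d) (sG U r * t ^ n) :=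
    fun r n => by rw [map_mul, grs, hgrt, AddMonoidAlgebra.single_mul_single, zero_add]
  -- the augmentation ideal and its square
  let J : Ideal Γ(U.left, ⊤) := RingHom.ker ε
  have htJ : t ∈ J := ht0
  letI : Algebra k Γ(U.left, ⊤) := (sG U).toAlgebra
  have hlin : ∀ x ∈ J, ∃ r : k, x - sG U r * t ∈ J ^ 2 := fun x hx => by
    refine ⟨dv w₀ x / dv w₀ t, ?_⟩
    set r := dv w₀ x / dv w₀ t with hr
    set x' := x - sG U r * t with hx'
    have hx'J : x' ∈ J := J.sub_mem hx (J.mul_mem_left _ htJ)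
    by_contra hne
    let p : Submodule k Γ(U.left, ⊤) := (J ^ 2).restrictScalars k ⊔ Submodule.span k {1}
    have hxp : x' ∉ p := fun h => by
      obtain ⟨y, hy, z, hz, hyz⟩ := Submodule.mem_sup.1 h
      obtain ⟨a, rfl⟩ := Submodule.mem_span_singleton.1 hz
      have h0 : ε y = 0 := Ideal.pow_le_self two_ne_zero hy
      have h2 := congrArg ε hyz
      rw [map_add, h0, zero_add, Algebra.smul_def, map_mul, map_one, _root_.mul_one, show ε x' = 0 from hx'J] at h2
      rw [show (algebraMap k Γ(U.left, ⊤)) a = sG U a from rfl, hεs] at h2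
      rw [h2, zero_smul, add_zero] at hyz
      exact hne (hyz ▸ hy)
    obtain ⟨F, hF, hFp⟩ := Submodule.exists_dual_map_eq_bot_of_notMem hxp inferInstance
    replace hFp : ∀ {z}, z ∈ p → F z = 0 := fun hz =>
      (Submodule.eq_bot_iff _).1 hFp _ (Submodule.mem_map_of_mem hz)
    have hsub : ∀ a, a - sG U (ε a) ∈ J := fun a => by
      show ε _ = 0
      rw [map_sub, hεs, sub_self]
    have hmul : ∀ a b, F (a * b) = ε a * F b + F a * ε b := fun a b => by
      have h1 : (a - sG U (ε a)) * (b - sG U (ε b)) ∈ J ^ 2 := by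
        rw [pow_two]; exact Ideal.mul_mem_mul (hsub a) (hsub b)
      have h2 : F ((a - sG U (ε a)) * (b - sG U (ε b))) = 0 := hFp (Submodule.mem_sup_left h1)
      have h3 : F 1 = 0 := hFp (Submodule.mem_sup_right (Submodule.mem_span_singleton_self 1))
      rw [show (a - sG U (ε a)) * (b - sG U (ε b)) =
        a * b - ε a • b - ε b • a + (ε a * ε b) • (1 : Γ(U.left, ⊤)) by
          rw [Algebra.smul_def, Algebra.smul_def, Algebra.smul_def, map_mul]
          show _ = _ - sG U _ * _ - sG U _ * _ + sG U _ * sG U _ * _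
          ring] at h2
      simp only [map_add, map_sub, _root_.map_smul, h3, smul_eq_mul, mul_zero, add_zero] at h2
      linear_combination h2
    obtain ⟨δ, hδ⟩ := Der.exists_of_der (G := U) (f := fk) (fun a => F a) (fun a b => map_add F a b) hmul
      (fun r => by
        rw [show sG U r = r • (1 : Γ(U.left, ⊤)) by rw [Algebra.smul_def, _root_.mul_one]; rfl, _root_.map_smul,
          show F 1 = 0 from hFp (Submodule.mem_sup_right (Submodule.mem_span_singleton_self 1)), smul_zero])
    obtain ⟨s, hs'⟩ := hU3 δ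
    refine hF ?_
    obtain ⟨a, ha⟩ := hs x'
    rw [← hδ, ← ha, ← hdv, hs', Der.dv_smul, hdv, ha]
    have : dv w₀ x' = 0 := by
      rw [hx', show x - sG U r * t = x + sG U (-r) * t by rw [map_neg]; ring, Der.dv_add, Der.dv_leibniz, Der.dv_sG,
        zero_mul, add_zero, show uB U fk (sG U (-r)) = -r from hεs _, hr, neg_mul, div_mul_cancel₀ _ htw, add_neg_cancel]
    rw [this, mul_zero]
  have hpow : ∀ (n : ℕ), ∀ x ∈ J ^ n, ∃ r : k, x - sG U r * t ^ n ∈ J ^ (n + 1) := by
    intro n
    induction n with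
    | zero =>
      intro x _
      refine ⟨ε x, ?_⟩
      rw [pow_zero, _root_.mul_one, zero_add, pow_one]
      show ε _ = 0
      rw [map_sub, hεs, sub_self]
    | succ n ih =>
      intro x hx
      rw [pow_succ] at hx
      refine Submodule.mul_induction_on hx (fun a ha b hb => ?_) (fun a b ha hb => ?_)
      · obtain ⟨r, hr⟩ := ih a ha
        obtain ⟨s, hs'⟩ := hlin b hb
        refine ⟨r * s, ?_⟩
        have key : a * b - sG U (r * s) * t ^ (n + 1) =
            (a - sG U r * t ^ n) * b + sG U r * t ^ n * (b - sG U s * t) := by rw [map_mul]; ring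
        rw [key]
        refine (J ^ (n + 1 + 1)).add_mem ?_ ?_
        · rw [pow_succ]; exact Ideal.mul_mem_mul hr hb
        · rw [show n + 1 + 1 = n + 2 from rfl, pow_add]
          exact Ideal.mul_mem_mul ((J ^ n).mul_mem_left _ (Ideal.pow_mem_pow htJ n)) hs'
      · obtain ⟨r, hr⟩ := ha
        obtain ⟨s, hs'⟩ := hb
        exact ⟨r + s, by rw [map_add, add_mul, add_sub_add_comm]; exact (J ^ (n + 1 + 1)).add_mem hr hs'⟩
  -- the powers of the augmentation ideal are graded
  have hgrJ : ∀ x ∈ J, gr x ∈ Ideal.map (cC Γ(U.left, ⊤) M) J := by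
    intro x hx
    obtain ⟨a, rfl⟩ := hs x
    rw [grsum]
    refine Ideal.sum_mem _ fun m hm => ?_
    have hmJ : u.left.appTop (wc c a m) ∈ J := by
      by_cases h0 : m = 0
      · subst h0
        show ε _ = 0
        have h : ε (u.left.appTop a) = ε (u.left.appTop (wc c a 0)) := by
          conv_lhs => rw [← sum_wc c a, map_sum, map_sum]
          exact Finset.sum_eq_single 0 (fun m _ h => hε0 a h) fun h => absurd hm h
        rw [← h]; exact hx
      · exact hε0 a h0
    rw [show AddMonoidAlgebra.single m (u.left.appTop (wc c a m)) =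
        AddMonoidAlgebra.single m 1 * cC Γ(U.left, ⊤) M (u.left.appTop (wc c a m)) by
      show _ = _ * AddMonoidAlgebra.single 0 _
      rw [AddMonoidAlgebra.single_mul_single, add_zero, _root_.one_mul]]
    exact Ideal.mul_mem_left _ _ (Ideal.mem_map_of_mem _ hmJ)
  have hcoef : ∀ (n : ℕ) x, x ∈ J ^ n → ∀ m, (gr x).coeff m ∈ J ^ n := fun n x hx m => by
    have h1 : gr x ∈ Ideal.map (cC Γ(U.left, ⊤) M) (J ^ n) := by
      rw [Ideal.map_pow]
      have hmap : Ideal.map gr J ≤ Ideal.map (cC Γ(U.left, ⊤) M) J :=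
        Ideal.map_le_iff_le_comap.2 fun y hy => hgrJ y hy
      exact Ideal.pow_right_mono hmap n
        (Ideal.map_pow gr J n ▸ Ideal.mem_map_of_mem gr hx)
    have h2 : AddMonoidAlgebra.mapRingHom M (Ideal.Quotient.mk (J ^ n)) (gr x) = 0 := by
      refine (Ideal.map_le_iff_le_comap.2 fun y hy => ?_ :
        Ideal.map (cC Γ(U.left, ⊤) M) (J ^ n) ≤ RingHom.ker (AddMonoidAlgebra.mapRingHom M (Ideal.Quotient.mk (J ^ n)))) h1
      show AddMonoidAlgebra.mapRingHom M _ (AddMonoidAlgebra.single 0 y) = 0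
      simp [Ideal.Quotient.eq_zero_iff_mem.2 hy]
    have h3 := congr(($h2).coeff m)
    rw [← Ideal.Quotient.eq_zero_iff_mem]
    simpa using h3
  -- homogeneous elements
  have hinj : ∀ {i j : ℕ}, i • d = j • d → i = j := fun {i j} h => by
    have h' : ((i : ℤ) - j) • d = 0 := by rw [sub_smul, natCast_zsmul, natCast_zsmul, h, sub_self]
    have := (smul_eq_zero.1 h').resolve_right hd
    omega
  have hstep : ∀ (n : ℕ) (x : Γ(U.left, ⊤)) (e : M), gr x = AddMonoidAlgebra.single e x → e ≠ n • d → x ∈ J ^ n →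
      x ∈ J ^ (n + 1) := fun n x e hx he hxn => by
    obtain ⟨r, hr⟩ := hpow n x hxn
    have h := hcoef (n + 1) _ hr e
    rw [map_sub, hx, htpow, AddMonoidAlgebra.coeff_sub, Finsupp.sub_apply, AddMonoidAlgebra.coeff_single,
      AddMonoidAlgebra.coeff_single, Finsupp.single_eq_same, Finsupp.single_eq_of_ne he, sub_zero] at h
    exact h
  have hJtop : J ≠ ⊤ := RingHom.ker_ne_top ε
  have hkill : ∀ (N : ℕ) (x : Γ(U.left, ⊤)) (e : M), gr x = AddMonoidAlgebra.single e x → x ∈ J ^ N →
      (∀ n, N ≤ n → e ≠ n • d) → x = 0 := fun N x e hx hN he => by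
    have hall : ∀ n, N ≤ n → x ∈ J ^ n := fun n hn => by
      induction n, hn using Nat.le_induction with
      | base => exact hN
      | succ n hn ih => exact hstep n x e hx (he n hn) ih
    have : x ∈ ⨅ i : ℕ, J ^ i := Submodule.mem_iInf _ |>.2 fun n =>
      if h : N ≤ n then hall n h else Ideal.pow_le_pow_right (by omega) hN
    rwa [Ideal.iInf_pow_eq_bot_of_isDomain _ hJtop, Submodule.mem_bot] at this
  have hzero : ∀ a (m : M), (∀ n : ℕ, m ≠ n • d) → u.left.appTop (wc c a m) = 0 := fun a m hm =>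
    hkill 0 _ m (grw a m) (by rw [pow_zero, Ideal.one_eq_top]; exact Submodule.mem_top) fun n _ => hm n
  have hspan : ∀ a (N : ℕ), ∃ r : k, u.left.appTop (wc c a (N • d)) = sG U r * t ^ N := by
    intro a N
    set x := u.left.appTop (wc c a (N • d))
    have hxN : x ∈ J ^ N := by
      have : ∀ n, n ≤ N → x ∈ J ^ n := fun n hn => by
        induction n with
        | zero => rw [pow_zero, Ideal.one_eq_top]; exact Submodule.mem_top
        | succ n ih => exact hstep n x _ (grw a _) (fun h => absurd (hinj h) (by omega)) (ih (by omega))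
      exact this N le_rfl
    obtain ⟨r, hr⟩ := hpow N x hxN
    refine ⟨r, sub_eq_zero.1 (hkill (N + 1) _ (N • d) ?_ hr fun n hn h => absurd (hinj h) (by omega))⟩
    rw [map_sub, htpow, grw, AddMonoidAlgebra.single_sub]
  refine ⟨fun {B} _ f => by rw [hu1, rp_one_wc c a₀ hd], ⟨?_, ?_⟩, hzero, hspan⟩
  · rw [injective_iff_map_eq_zero]
    intro p hp
    ext n
    rw [Polynomial.coe_eval₂RingHom, Polynomial.eval₂_eq_sum, Polynomial.sum] at hp
    have h := congrArg gr hp
    rw [map_sum, map_zero] at h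
    simp only [htpow] at h
    have h2 := congr(($h).coeff (n • d))
    rw [AddMonoidAlgebra.coeff_sum, Finsupp.finsetSum_apply, Finset.sum_eq_single n
      (fun i _ hi => by rw [AddMonoidAlgebra.coeff_single, Finsupp.single_eq_of_ne (fun e => hi (hinj e).symm)])
      (fun hn => by rw [Polynomial.notMem_support_iff.1 hn, map_zero, zero_mul, AddMonoidAlgebra.single_zero]; rfl),
      AddMonoidAlgebra.coeff_single, Finsupp.single_eq_same] at h2
    replace h2 := (mul_eq_zero.1 h2).resolve_right (pow_ne_zero n htne)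
    rw [Polynomial.coeff_zero, ← hεs (p.coeff n), h2, map_zero]
  · intro x
    obtain ⟨a, rfl⟩ := hs x
    rw [← sum_wc c a, map_sum]
    refine (RingHom.mem_range).1 (Subring.sum_mem _ fun m _ => RingHom.mem_range.2 ?_)
    by_cases h : ∃ n : ℕ, m = n • d
    · obtain ⟨n, rfl⟩ := h
      obtain ⟨r, hr⟩ := hspan a n
      exact ⟨Polynomial.C r * Polynomial.X ^ n, by simp [hr]⟩
    · exact ⟨0, by rw [map_zero, hzero a m (not_exists.1 h)]⟩

end Groth.Agent.RootSys
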