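import Groth.Agent.RootSys.RootCoord
import Groth.Agent.RootIntrinsic.Tangent

/-!
# A subgroup with a weight coordinate is the additive group, acted on by the character
-/

set_option autoImplicit false
set_option backward.isDefEq.respectTransparency false
set_option linter.style.haveILetI false
set_option maxHeartbeats 1000000
set_option synthInstance.maxHeartbeats 400000

universe u

open CategoryTheory Limits MonoidalCategory CartesianMonoidalCategory MonObj AlgebraicGeometry LieS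
open scoped CategoryTheory.Obj

noncomputable section

namespace Groth.Agent.RootSys

open Groth.Agent.HomDiag Groth.Agent.DynPar
open Groth.Agent.DynPar.Der (dv uB pl sG)

variable {k : Type u} [Field k] {U : Over (Spec (CommRingCat.of k))} [GrpObj U] [IsAffine U.left]
  {t : Γ(U.left, ⊤)}

/-- A point is determined by the value of a generator. -/
theorem pt_ext_gen (hsur : Function.Surjective (Polynomial.eval₂RingHom (sG U) t)) {B : Type u} [CommRing B]
    {f : Spec (CommRingCat.of B) ⟶ Spec (CommRingCat.of k)} {z z' : pt B f ⟶ U} (h : rp z t = rp z' t) : z = z' := by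
  refine rp_ext (RingHom.ext fun a => ?_)
  obtain ⟨p, rfl⟩ := hsur a
  induction p using Polynomial.induction_on' with
  | add p q hp hq => rw [map_add, map_add, map_add, hp, hq]
  | monomial n r =>
    rw [Polynomial.coe_eval₂RingHom, Polynomial.eval₂_monomial, map_mul, map_mul, map_pow, map_pow, h, sG_eq,
      rp_hom, rp_hom]

/-- Every value is taken. -/
theorem exists_pt_gen (hbij : Function.Bijective (Polynomial.eval₂RingHom (sG U) t)) {B : Type u} [CommRing B]
    (f : Spec (CommRingCat.of B) ⟶ Spec (CommRingCat.of k)) (b : B) : ∃ z : pt B f ⟶ U, rp z t = b := by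
  obtain ⟨ψ, rfl⟩ := Spec.map_surjective f
  let e := RingEquiv.ofBijective _ hbij
  let φ : Γ(U.left, ⊤) →+* B := (Polynomial.eval₂RingHom ψ.hom b).comp e.symm.toRingHom
  have hφt : φ t = b := by
    show Polynomial.eval₂RingHom ψ.hom b (e.symm t) = b
    rw [show e.symm t = Polynomial.X from e.symm_apply_eq.2 (by simp [e])]
    simp
  have hφs : φ.comp (sG U) = ψ.hom := RingHom.ext fun r => by
    show Polynomial.eval₂RingHom ψ.hom b (e.symm (sG U r)) = _
    rw [show e.symm (sG U r) = Polynomial.C r from e.symm_apply_eq.2 (by simp [e])]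
    simp
  let z : pt B (Spec.map ψ) ⟶ U := Over.homMk (Spec.map (CommRingCat.ofHom φ) ≫ U.left.isoSpec.inv) (by
    show (_ ≫ _) ≫ U.hom = Spec.map ψ
    rw [Category.assoc, ← Der.specMap_sG (G := U), ← Spec.map_comp, ← CommRingCat.ofHom_comp, hφs,
      CommRingCat.ofHom_hom])
  refine ⟨z, ?_⟩
  rw [← hφt, ← rep_left_eq_rp]
  exact congrArg (fun h : Γ(U.left, ⊤) →+* B => h t) (Der.rep_eq (φ := φ) rfl)

variable {G : Over (Spec (CommRingCat.of k))} [GrpObj G] [IsAffine G.left]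
  {M : Type} [AddCommGroup M] {c : Red.DS (Spec (CommRingCat.of k)) M ⟶ G} [IsMonHom c] {u : U ⟶ G} {d : M}
  {a₀ : Γ(G.left, ⊤)}

/-- The torus multiplies the coordinate by the character. -/
theorem rp_conj (ha : u.left.appTop (wc c a₀ d) = t) {B : Type u} [CommRing B]
    {f : Spec (CommRingCat.of B) ⟶ Spec (CommRingCat.of k)} (g : pt B f ⟶ Red.DS (Spec (CommRingCat.of k)) M)
    (z z' : pt B f ⟶ U) (hz : (g ≫ c) * (z ≫ u) * (g ≫ c)⁻¹ = z' ≫ u) :
    rp z' t = chv g (Multiplicative.ofAdd d) * rp z t := by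
  obtain ⟨θ, hθ, h1, h2⟩ := exists_qm_xu f M (RingHom.id B)
    (show Spec.map (CommRingCat.ofHom (RingHom.id B)) ≫ f = f by rw [CommRingCat.ofHom_id, Spec.map_id, Category.id_comp]) g
  have e : qm θ hθ ≫ orb f (Red.DSmap _ (AddMonoidHom.id M) ≫ c) (z ≫ u) = z' ≫ u := by
    rw [← hz, orb_apply, MonObj.comp_mul, MonObj.comp_mul, GrpObj.comp_inv, ← Category.assoc (qm θ hθ) (xu f M),
      h1, ← Category.assoc (qm θ hθ) (qc M f), h2, qm_id, Category.id_comp, DSmap_id, Category.id_comp]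
  have hu : ∀ w : pt B f ⟶ U, rp (w ≫ u) (wc c a₀ d) = rp w t := fun w => by
    rw [rp_comp_left, RingHom.comp_apply, ← ha]
  have hb : θ (AddMonoidAlgebra.single 0 (rp z t)) = rp z t := by
    have h3 := congr(rp ($h2 ≫ z ≫ u) (wc c a₀ d))
    rw [qm_id, Category.id_comp, Category.assoc, rp_qm, qc, rp_qm, RingHom.comp_apply, RingHom.comp_apply, hu] at h3
    exact h3
  have hg : θ (AddMonoidAlgebra.single d 1) = chv g (Multiplicative.ofAdd d) := by
    rw [← h1, chv_qm, chv_xu]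
    rfl
  rw [← hu z', ← e, rp_qm, RingHom.comp_apply, rp_orb_wc, hu, ← hg]
  conv_rhs => rw [← hb, ← map_mul, AddMonoidAlgebra.single_mul_single, add_zero, _root_.one_mul]
  rfl

/-- The coordinate is additive. -/
theorem rp_mul_gen [IsMonHom u] [Module.Free ℤ M] (hd : d ≠ 0) (ha : u.left.appTop (wc c a₀ d) = t)
    (hbij : Function.Bijective (Polynomial.eval₂RingHom (sG U) t))
    (hone : ∀ {B : Type u} [CommRing B] (f : Spec (CommRingCat.of B) ⟶ Spec (CommRingCat.of k)),
      rp (1 : pt B f ⟶ U) t = 0)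
    (hn : ∀ (X : Over (Spec (CommRingCat.of k))) (s : X ⟶ Red.DS (Spec (CommRingCat.of k)) M)
      (x : X ⟶ U), ∃ x' : X ⟶ U, (s ≫ c) * (x ≫ u) * (s ≫ c)⁻¹ = x' ≫ u) [Mono u]
    {B : Type u} [CommRing B] {f : Spec (CommRingCat.of B) ⟶ Spec (CommRingCat.of k)} (x y : pt B f ⟶ U) :
    rp (x * y) t = rp x t + rp y t := by
  classical
  obtain ⟨ψ, rfl⟩ := Spec.map_surjective f
  let fQ : Spec (CommRingCat.of (MvPolynomial (Fin 2) k)) ⟶ Spec (CommRingCat.of k) := Spec.map (CommRingCat.ofHom MvPolynomial.C)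
  obtain ⟨X, hX⟩ := exists_pt_gen hbij fQ (MvPolynomial.X 0)
  obtain ⟨Y, hY⟩ := exists_pt_gen hbij fQ (MvPolynomial.X 1)
  set p : (MvPolynomial (Fin 2) k) := rp (X * Y) t with hp
  -- scaling
  let θ : (MvPolynomial (Fin 2) k) →+* AddMonoidAlgebra (MvPolynomial (Fin 2) k) M := MvPolynomial.eval₂Hom ((cC (MvPolynomial (Fin 2) k) M).comp MvPolynomial.C)
    fun i => AddMonoidAlgebra.single d (MvPolynomial.X i)
  have hθ : Spec.map (CommRingCat.ofHom θ) ≫ fQ = fL fQ M := by
    show _ ≫ Spec.map _ = Spec.map _ ≫ Spec.map _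
    rw [← Spec.map_comp, ← Spec.map_comp, ← CommRingCat.ofHom_comp, ← CommRingCat.ofHom_comp]
    congr 2
    ext r : 1
    simp [θ]
  let g : pt (AddMonoidAlgebra (MvPolynomial (Fin 2) k) M) (fL fQ M) ⟶ Red.DS _ M := xu fQ M
  have hg : chv g (Multiplicative.ofAdd d) = AddMonoidAlgebra.single d 1 := chv_xu fQ M _
  obtain ⟨X', hX'⟩ := hn _ g (qc M fQ ≫ X)
  obtain ⟨Y', hY'⟩ := hn _ g (qc M fQ ≫ Y)
  obtain ⟨P', hP'⟩ := hn _ g (qc M fQ ≫ (X * Y))
  have hmul : P' = X' * Y' := by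
    rw [← cancel_mono u, ← hP', MonObj.comp_mul (qc M fQ), MonObj.mul_comp, MonObj.mul_comp, ← hX', ← hY']
    group
  have hval : ∀ (Z : pt (MvPolynomial (Fin 2) k) fQ ⟶ U) (Z' : pt (AddMonoidAlgebra (MvPolynomial (Fin 2) k) M) (fL fQ M) ⟶ U),
      (g ≫ c) * ((qc M fQ ≫ Z) ≫ u) * (g ≫ c)⁻¹ = Z' ≫ u → rp Z' t = AddMonoidAlgebra.single d (rp Z t) :=
    fun Z Z' h => by
      rw [rp_conj ha g _ Z' h, hg, qc, rp_qm, RingHom.comp_apply]
      show _ * AddMonoidAlgebra.single 0 _ = _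
      rw [AddMonoidAlgebra.single_mul_single, add_zero, _root_.one_mul]
  have hX2 : qm θ hθ ≫ X = X' := pt_ext_gen hbij.2 (by
    rw [rp_qm, RingHom.comp_apply, hX, hval X X' hX', hX]; simp [θ])
  have hY2 : qm θ hθ ≫ Y = Y' := pt_ext_gen hbij.2 (by
    rw [rp_qm, RingHom.comp_apply, hY, hval Y Y' hY', hY]; simp [θ])
  have hθp : θ p = AddMonoidAlgebra.single d p := by
    rw [hp, ← hval (X * Y) P' hP', hmul, ← hX2, ← hY2, ← MonObj.comp_mul, rp_qm, RingHom.comp_apply]
  -- only linear terms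
  have hdeg : ∀ s : Fin 2 →₀ ℕ, s 0 + s 1 ≠ 1 → MvPolynomial.coeff s p = 0 := fun s hs => by
    have hmon : ∀ q : Fin 2 →₀ ℕ, ∀ r : k, θ (MvPolynomial.monomial q r) =
        AddMonoidAlgebra.single ((q 0 + q 1) • d) (MvPolynomial.monomial q r) := fun q r => by
      have hq : MvPolynomial.monomial q r = MvPolynomial.C r * MvPolynomial.X 0 ^ q 0 * MvPolynomial.X 1 ^ q 1 := by
        rw [MvPolynomial.monomial_eq, Finsupp.prod_fintype _ _ (fun _ => pow_zero _), Fin.prod_univ_two, _root_.mul_assoc]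
      rw [hq]
      simp only [θ, map_mul, map_pow, MvPolynomial.eval₂Hom_C, MvPolynomial.eval₂Hom_X', RingHom.comp_apply]
      show AddMonoidAlgebra.single 0 _ * _ * _ = _
      rw [AddMonoidAlgebra.single_pow, AddMonoidAlgebra.single_pow, AddMonoidAlgebra.single_mul_single,
        AddMonoidAlgebra.single_mul_single, zero_add, ← add_smul]
    have h1 := congr(($hθp).coeff ((s 0 + s 1) • d))
    have hne : (s 0 + s 1) • d ≠ d := fun h => by
      have h' : (((s 0 + s 1 : ℕ) : ℤ) - 1) • d = 0 := by rw [sub_smul, natCast_zsmul, one_smul, h, sub_self]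
      have := (smul_eq_zero.1 h').resolve_right hd
      omega
    rw [AddMonoidAlgebra.coeff_single, Finsupp.single_eq_of_ne hne] at h1
    have h2 := congrArg (MvPolynomial.coeff s) h1
    conv_lhs at h2 => rw [p.as_sum, map_sum]
    rw [AddMonoidAlgebra.coeff_sum, Finsupp.finsetSum_apply, MvPolynomial.coeff_sum, MvPolynomial.coeff_zero] at h2
    by_contra hcs
    rw [Finset.sum_eq_single s (fun q _ hq => by
        rw [hmon, AddMonoidAlgebra.coeff_single, Finsupp.single_apply]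
        split_ifs
        · rw [MvPolynomial.coeff_monomial, if_neg hq]
        · exact MvPolynomial.coeff_zero _)
      (fun h => absurd (MvPolynomial.notMem_support_iff.1 h) hcs),
      hmon, AddMonoidAlgebra.coeff_single, Finsupp.single_eq_same, MvPolynomial.coeff_monomial, if_pos rfl] at h2
    exact hcs h2
  -- the coefficients
  have hspec : ∀ (a b : k), MvPolynomial.eval ![a, b] p = MvPolynomial.coeff (Finsupp.single 0 1) p * a +
      MvPolynomial.coeff (Finsupp.single 1 1) p * b := fun a b => by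
    have he : p = MvPolynomial.C (MvPolynomial.coeff (Finsupp.single 0 1) p) * MvPolynomial.X 0 +
        MvPolynomial.C (MvPolynomial.coeff (Finsupp.single 1 1) p) * MvPolynomial.X 1 := by
      refine MvPolynomial.ext _ _ fun s => ?_
      rw [MvPolynomial.coeff_add, MvPolynomial.coeff_C_mul, MvPolynomial.coeff_C_mul, MvPolynomial.coeff_X,
        MvPolynomial.coeff_X]
      by_cases hs : s 0 + s 1 = 1
      · rcases Nat.add_eq_one_iff.1 hs with ⟨h0, h1⟩ | ⟨h0, h1⟩
        · obtain rfl : s = Finsupp.single 1 1 := by ext i; fin_cases i <;> simp [h0, h1]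
          rw [if_neg, if_pos rfl, mul_zero, zero_add, _root_.mul_one]
          intro h; simpa using DFunLike.congr_fun h 0
        · obtain rfl : s = Finsupp.single 0 1 := by ext i; fin_cases i <;> simp [h0, h1]
          rw [if_pos rfl, if_neg, mul_zero, add_zero, _root_.mul_one]
          intro h; simpa using DFunLike.congr_fun h 1
      · rw [hdeg s hs, if_neg, if_neg, mul_zero, mul_zero, add_zero] <;> rintro rfl <;> simp at hs
    conv_lhs => rw [he]
    simp
  have hev : ∀ (a b : k) (h : Spec.map (CommRingCat.ofHom (MvPolynomial.eval ![a, b])) ≫ fQ =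
      Spec.map (CommRingCat.ofHom (RingHom.id k))), rp (qm _ h ≫ X) t = a ∧ rp (qm _ h ≫ Y) t = b := fun a b h => by
    constructor <;> simp [rp_qm, hX, hY]
  have hsp : ∀ (a b : k), Spec.map (CommRingCat.ofHom (MvPolynomial.eval ![a, b])) ≫ fQ =
      Spec.map (CommRingCat.ofHom (RingHom.id k)) := fun a b => by
    show _ ≫ Spec.map _ = _
    rw [← Spec.map_comp, ← CommRingCat.ofHom_comp]
    congr 2
    ext r
    simp
  have ha1 : MvPolynomial.coeff (Finsupp.single 0 1) p = 1 := by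
    have h := hspec 1 0
    rw [mul_zero, add_zero, _root_.mul_one] at h
    rw [← h, hp, ← RingHom.comp_apply, ← rp_qm _ (hsp 1 0), MonObj.comp_mul]
    have hy0 : qm _ (hsp 1 0) ≫ Y = 1 := pt_ext_gen hbij.2 (by rw [(hev 1 0 _).2, hone])
    rw [hy0, _root_.mul_one, (hev 1 0 _).1]
  have hb1 : MvPolynomial.coeff (Finsupp.single 1 1) p = 1 := by
    have h := hspec 0 1
    rw [mul_zero, zero_add, _root_.mul_one] at h
    rw [← h, hp, ← RingHom.comp_apply, ← rp_qm _ (hsp 0 1), MonObj.comp_mul]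
    have hx0 : qm _ (hsp 0 1) ≫ X = 1 := pt_ext_gen hbij.2 (by rw [(hev 0 1 _).1, hone])
    rw [hx0, _root_.one_mul, (hev 0 1 _).2]
  -- general points
  let φ : (MvPolynomial (Fin 2) k) →+* B := MvPolynomial.eval₂Hom ψ.hom ![rp x t, rp y t]
  have hφ : Spec.map (CommRingCat.ofHom φ) ≫ fQ = Spec.map ψ := by
    show _ ≫ Spec.map _ = _
    rw [← Spec.map_comp, ← CommRingCat.ofHom_comp]
    congr 1
    ext r
    simp [φ]
  have hx : qm φ hφ ≫ X = x := pt_ext_gen hbij.2 (by rw [rp_qm, RingHom.comp_apply, hX]; simp [φ])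
  have hy : qm φ hφ ≫ Y = y := pt_ext_gen hbij.2 (by rw [rp_qm, RingHom.comp_apply, hY]; simp [φ])
  have hp2 : p = MvPolynomial.X 0 + MvPolynomial.X 1 := by
    refine MvPolynomial.ext _ _ fun s => ?_
    rw [MvPolynomial.coeff_add, MvPolynomial.coeff_X, MvPolynomial.coeff_X]
    by_cases hs : s 0 + s 1 = 1
    · rcases Nat.add_eq_one_iff.1 hs with ⟨h0, h1⟩ | ⟨h0, h1⟩
      · obtain rfl : s = Finsupp.single 1 1 := by ext i; fin_cases i <;> simp [h0, h1]
        rw [hb1, if_neg, if_pos rfl, zero_add]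
        intro h; simpa using DFunLike.congr_fun h 0
      · obtain rfl : s = Finsupp.single 0 1 := by ext i; fin_cases i <;> simp [h0, h1]
        rw [ha1, if_pos rfl, if_neg, add_zero]
        intro h; simpa using DFunLike.congr_fun h 1
    · rw [hdeg s hs, if_neg, if_neg, add_zero] <;> rintro rfl <;> simp at hs
  conv_lhs => rw [← hx, ← hy, ← MonObj.comp_mul, rp_qm, RingHom.comp_apply, ← hp, hp2]
  simp [φ]

end Groth.Agent.RootSys

namespace Groth.Agent.RootSys

open Groth.Agent.HomDiag Groth.Agent.DynPar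
open Groth.Agent.DynPar.Der (dv uB pl sG)

variable {k : Type u} [Field k] {U : Over (Spec (CommRingCat.of k))} [GrpObj U] [IsAffine U.left]
  {t : Γ(U.left, ⊤)} {G T : Over (Spec (CommRingCat.of k))} [GrpObj G] [IsAffine G.left] [GrpObj T]
  {M : Type} [AddCommGroup M] [Module.Free ℤ M] {u : U ⟶ G} {d : M} {a₀ : Γ(G.left, ⊤)}

theorem gaFn_pt {B : Type u} [CommRing B] {f : Spec (CommRingCat.of B) ⟶ Spec (CommRingCat.of k)}
    (z : pt B f ⟶ U) (t : Γ(U.left, ⊤)) :
    Red.gaFn (z ≫ BGaNotS.gaPt t) = (Scheme.ΓSpecIso (CommRingCat.of B)).inv (rp z t) := by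
  rw [BGaNotS.gaFn_comp, BGaNotS.gaFn_gaPt]
  exact (ConcreteCategory.congr_hom (Scheme.ΓSpecIso (CommRingCat.of B)).hom_inv_id _).symm

/-- **The root homomorphism** of a subgroup with a weight coordinate. -/
theorem exists_iso_ga (i : T ⟶ G) (E : Grp.mk T ≅ Grp.mk (Red.DS (Spec (CommRingCat.of k)) M))
    [IsMonHom (E.inv.hom.hom ≫ i)] [IsMonHom u] [IsClosedImmersion u.left] (hd : d ≠ 0)
    (ha : u.left.appTop (wc (E.inv.hom.hom ≫ i) a₀ d) = t)
    (hbij : Function.Bijective (Polynomial.eval₂RingHom (sG U) t))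
    (hone : ∀ {B : Type u} [CommRing B] (f : Spec (CommRingCat.of B) ⟶ Spec (CommRingCat.of k)),
      rp (1 : pt B f ⟶ U) t = 0)
    (hn : ∀ (X : Over (Spec (CommRingCat.of k))) (s : X ⟶ T) (x : X ⟶ U), ∃ x' : X ⟶ U,
      (s ≫ i) * (x ≫ u) * (s ≫ i)⁻¹ = x' ≫ u) :
    ∃ e : U ≅ Red.Ga (Spec (CommRingCat.of k)), IsMonHom e.hom ∧
      Red.IsRootHom i (E.hom.hom.hom ≫ Red.chi _ d) (e.inv ≫ u) := by
  let S := Spec (CommRingCat.of k)
  haveI : Mono u := Over.mono_of_mono_left u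
  have hnc : ∀ (X : Over S) (s : X ⟶ Red.DS S M) (x : X ⟶ U),
      ∃ x' : X ⟶ U, (s ≫ E.inv.hom.hom ≫ i) * (x ≫ u) * (s ≫ E.inv.hom.hom ≫ i)⁻¹ = x' ≫ u := fun X s x => by
    obtain ⟨x', hx'⟩ := hn X (s ≫ E.inv.hom.hom) x
    exact ⟨x', by rw [← hx', Category.assoc]⟩
  let h : U ⟶ Red.Ga S := BGaNotS.gaPt t
  haveI : IsMonHom h := isMonHom_of_mul h fun X a b => by
    have hh : (fst U U * snd U U) ≫ h = (fst U U ≫ h) * (snd U U ≫ h) := by
      refine hom_ext_pts _ _ fun B _ f y => BGaNotS.gaPt_ext ?_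
      rw [MonObj.comp_mul y (fst U U ≫ h), BGaNotS.gaFn_mul, ← Category.assoc, ← Category.assoc, ← Category.assoc,
        gaFn_pt, gaFn_pt, gaFn_pt, MonObj.comp_mul, rp_mul_gen hd ha hbij hone hnc, map_add]
    have h2 := congr(lift a b ≫ $hh)
    simp only [MonObj.comp_mul, MonObj.mul_comp, ← Category.assoc, lift_fst, lift_snd] at h2
    exact h2
  haveI : IsAffine Red.GaZ.left := isAffine_Spec _
  haveI : IsAffineHom (Red.Ga S).hom :=
    MorphismProperty.pullback_snd (P := @IsAffineHom) Red.GaZ.hom _ (isAffineHom_of_isAffine _)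
  haveI : IsAffine (Red.Ga S).left := isAffine_of_isAffineHom (Red.Ga S).hom
  let fA : Spec (CommRingCat.of Γ((Red.Ga S).left, ⊤)) ⟶ S := (Red.Ga S).left.isoSpec.inv ≫ (Red.Ga S).hom
  let j : pt Γ((Red.Ga S).left, ⊤) fA ⟶ Red.Ga S := Over.homMk (Red.Ga S).left.isoSpec.inv rfl
  haveI : IsIso j.left := inferInstanceAs (IsIso (Red.Ga S).left.isoSpec.inv)
  haveI : IsIso ((Over.forget _).map j) := ‹IsIso j.left›
  haveI : IsIso j := isIso_of_reflects_iso j (Over.forget _)
  obtain ⟨z, hz⟩ := exists_pt_gen hbij fA ((Scheme.ΓSpecIso _).hom (Red.gaFn j))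
  have hzh : z ≫ h = j := BGaNotS.gaPt_ext (by
    rw [gaFn_pt, hz]
    exact ConcreteCategory.congr_hom (Scheme.ΓSpecIso _).hom_inv_id (Red.gaFn j))
  let e : U ≅ Red.Ga S :=
    { hom := h
      inv := inv j ≫ z
      hom_inv_id := hom_ext_pts _ _ fun B _ f y => pt_ext_gen hbij.2 (by
        have h1 : (y ≫ h ≫ inv j ≫ z) ≫ h = y ≫ h := by
          simp only [Category.assoc, hzh, IsIso.inv_hom_id, Category.comp_id]
        have h2 := congrArg Red.gaFn h1
        rw [gaFn_pt, gaFn_pt] at h2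
        rw [Category.comp_id]
        exact (ConcreteCategory.bijective_of_isIso (Scheme.ΓSpecIso (CommRingCat.of B)).inv).1 h2)
      inv_hom_id := by rw [Category.assoc, hzh, IsIso.inv_hom_id] }
  haveI : IsMonHom e.hom := ‹IsMonHom h›
  haveI : Mono e.hom := ⟨fun a b hab => by simpa using congrArg (· ≫ e.inv) hab⟩
  haveI : IsMonHom e.inv := MTSplit.isMonHom_of_comp_mono e.inv e.hom (𝟙 _) e.inv_hom_id
  haveI : IsIso e.inv := e.symm.isIso_hom
  have hval : ∀ {B : Type u} [CommRing B] {f : Spec (CommRingCat.of B) ⟶ S} (x : pt B f ⟶ Red.Ga S),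
      Red.gaFn x = (Scheme.ΓSpecIso (CommRingCat.of B)).inv (rp (x ≫ e.inv) t) := fun {B} _ f x => by
    rw [← gaFn_pt]
    show _ = Red.gaFn ((x ≫ e.inv) ≫ e.hom)
    rw [Category.assoc, e.inv_hom_id, Category.comp_id]
  haveI : IsIso e.inv.left := inferInstanceAs (IsIso ((Over.forget _).map e.inv))
  refine ⟨e, inferInstance, inferInstance, by rw [Over.comp_left]; infer_instance, fun X s x => ?_⟩
  refine ⟨BGaNotS.gaPt (Red.gmFn (s ≫ E.hom.hom.hom ≫ Red.chi S d) * Red.gaFn x), ?_, BGaNotS.gaFn_gaPt _⟩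
  refine hom_ext_pts _ _ fun B _ f y => ?_
  have h1 : E.hom.hom.hom ≫ E.inv.hom.hom = 𝟙 T := congrArg (fun z => z.hom.hom) E.hom_inv_id
  obtain ⟨w, hw⟩ := hn _ (y ≫ s) ((y ≫ x) ≫ e.inv)
  rw [MonObj.comp_mul, MonObj.comp_mul, GrpObj.comp_inv, ← Category.assoc y s, ← Category.assoc y x,
    ← Category.assoc (y ≫ x), hw, ← Category.assoc y, ← Category.assoc]
  refine congrArg (· ≫ u) (pt_ext_gen hbij.2 ((ConcreteCategory.bijective_of_isIso
    (Scheme.ΓSpecIso (CommRingCat.of B)).inv).1 ?_))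
  have hc := rp_conj ha ((y ≫ s) ≫ E.hom.hom.hom) ((y ≫ x) ≫ e.inv) w (by
    rw [Category.assoc (y ≫ s), reassoc_of% h1]; exact hw)
  have hch : (Scheme.ΓSpecIso (CommRingCat.of B)).inv (chv ((y ≫ s) ≫ E.hom.hom.hom) (Multiplicative.ofAdd d)) =
      y.left.appTop (Red.gmFn (s ≫ E.hom.hom.hom ≫ Red.chi S d)) := by
    rw [← Category.assoc s, RootIntrinsic.gmFn_chi, ← ch_comp, ← Category.assoc]
    exact ConcreteCategory.congr_hom (Scheme.ΓSpecIso (CommRingCat.of B)).hom_inv_id _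
  rw [hc, map_mul, ← hval, hch, BGaNotS.gaFn_comp, BGaNotS.gaFn_gaPt, map_mul, ← hval, BGaNotS.gaFn_comp]

end Groth.Agent.RootSys
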