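import Groth.Agent.RootSys.Basic

/-!
# Systems of simple roots
-/

noncomputable section
open Function Set Finsupp

namespace Groth.Agent.RootSys

variable {ι M N : Type*} [AddCommGroup M] [AddCommGroup N] {P : RootPairing ι ℤ M N}

/-- The combination of roots with given integer coefficients. -/
abbrev lc (P : RootPairing ι ℤ M N) (c : ι →₀ ℤ) : M := Finsupp.linearCombination ℤ P.root c

lemma exists_nonneg_coef {S : Set ι} {x : M} (h : x ∈ RootD.natSpan P S) :
    ∃ c : ι →₀ ℤ, ↑c.support ⊆ S ∧ (∀ a, 0 ≤ c a) ∧ lc P c = x := by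
  classical
  obtain ⟨s, hs, rfl⟩ := natSpan_iff.mp h
  induction s using Multiset.induction_on with
  | empty => exact ⟨0, by simp, fun _ => le_rfl, by simp [sumRoots]⟩
  | cons a s ih =>
    have hsS : ∀ b ∈ s, b ∈ S := fun b hb => hs b (Multiset.mem_cons_of_mem hb)
    obtain ⟨c, hc, hnn, he⟩ := ih hsS (natSpan_iff.mpr ⟨s, hsS, rfl⟩)
    refine ⟨Finsupp.single a 1 + c, fun b hb => ?_, fun b => ?_, by simp [lc, sumRoots, map_add, ← he]⟩
    · rcases Finset.mem_union.mp (Finsupp.support_add hb) with h | h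
      · rw [Finset.mem_singleton.mp (Finsupp.support_single_subset h)]
        exact hs a (Multiset.mem_cons_self _ _)
      · exact hc h
    · have := hnn b
      simp only [Finsupp.add_apply, Finsupp.single_apply]
      split_ifs <;> omega

lemma lc_mem_natSpan {S : Set ι} {c : ι →₀ ℤ} (hc : ↑c.support ⊆ S) (hnn : ∀ a, 0 ≤ c a) :
    lc P c ∈ RootD.natSpan P S := by
  rw [lc, Finsupp.linearCombination_apply]
  refine AddSubmonoid.sum_mem _ fun a ha => ?_
  show c a • P.root a ∈ _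
  obtain ⟨n, hn⟩ := Int.eq_ofNat_of_zero_le (hnn a)
  rw [hn, natCast_zsmul]
  exact AddSubmonoid.nsmul_mem _ (root_mem_natSpan (hc ha)) n

variable {Δ : Set ι} (hΔ : RootD.IsSimpleSys P Δ)
include hΔ

lemma lc_injective {c d : ι →₀ ℤ} (hc : ↑c.support ⊆ Δ) (hd : ↑d.support ⊆ Δ) (h : lc P c = lc P d) :
    c = d :=
  linearIndepOn_iffₛ.mp hΔ.linInd c hc d hd h

lemma exists_coef (k : ι) : ∃ c : ι →₀ ℤ, ↑c.support ⊆ Δ ∧ ((∀ a, 0 ≤ c a) ∨ ∀ a, c a ≤ 0) ∧
    lc P c = P.root k := by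
  rcases hΔ.mem_or_neg_mem k with h | h <;> obtain ⟨c, hc, hnn, he⟩ := exists_nonneg_coef h
  · exact ⟨c, hc, Or.inl hnn, he⟩
  · exact ⟨-c, by simpa using hc, Or.inr fun a => by simpa using hnn a, by rw [lc, map_neg, ← lc, he, neg_neg]⟩

/-- The coordinates of a root. -/
def coef (k : ι) : ι →₀ ℤ := (exists_coef hΔ k).choose

lemma coef_support (k : ι) : ↑(coef hΔ k).support ⊆ Δ := (exists_coef hΔ k).choose_spec.1

lemma coef_sign (k : ι) : (∀ a, 0 ≤ coef hΔ k a) ∨ ∀ a, coef hΔ k a ≤ 0 :=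
  (exists_coef hΔ k).choose_spec.2.1

lemma lc_coef (k : ι) : lc P (coef hΔ k) = P.root k := (exists_coef hΔ k).choose_spec.2.2

lemma coef_eq {k : ι} {c : ι →₀ ℤ} (hc : ↑c.support ⊆ Δ) (h : lc P c = P.root k) : coef hΔ k = c :=
  lc_injective hΔ (coef_support hΔ k) hc (by rw [lc_coef, h])

lemma coef_eq_zero_of_notMem (k : ι) {a : ι} (ha : a ∉ Δ) : coef hΔ k a = 0 :=
  Finsupp.notMem_support_iff.mp fun h => ha (coef_support hΔ k h)

lemma coef_simple {i : ι} (hi : i ∈ Δ) : coef hΔ i = Finsupp.single i 1 :=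
  coef_eq hΔ (fun _ ha => Finset.mem_singleton.mp (Finsupp.support_single_subset ha) ▸ hi) (by simp [lc])

lemma coef_opp (k : ι) : coef hΔ (opp P k) = -coef hΔ k :=
  coef_eq hΔ (by simpa using coef_support hΔ k) (by rw [lc, map_neg, ← lc, lc_coef, root_opp])

lemma coef_of_eq_add {i j k : ι} (h : P.root k = P.root i + P.root j) :
    coef hΔ k = coef hΔ i + coef hΔ j := by
  classical
  refine coef_eq hΔ (fun a ha => ?_) (by rw [lc, map_add, ← lc, ← lc, lc_coef, lc_coef, h])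
  rcases Finset.mem_union.mp (Finsupp.support_add ha) with h | h <;> exact coef_support hΔ _ h

lemma coef_reflection {i : ι} (hi : i ∈ Δ) (k : ι) :
    coef hΔ (RootPairing.Equiv.reflection P i • k) = coef hΔ k - Finsupp.single i (P.pairing k i) := by
  classical
  refine coef_eq hΔ (fun a ha => ?_) (by
    rw [lc, map_sub, Finsupp.linearCombination_single, ← lc, lc_coef, root_reflection_smul])
  rcases Finset.mem_union.mp (Finsupp.support_sub ha) with h | h
  · exact coef_support hΔ _ h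
  · exact Finset.mem_singleton.mp (Finsupp.support_single_subset h) ▸ hi

lemma coef_ne_zero (k : ι) : coef hΔ k ≠ 0 := fun h => by
  have e := congr_arg (P.coroot' k) (lc_coef hΔ k)
  rw [h, lc, map_zero, map_zero, P.root_coroot'_eq_pairing, P.pairing_same] at e
  norm_num at e

/-- The height of a root. -/
def ht (k : ι) : ℤ := (coef hΔ k).sum fun _ a => a

lemma ht_simple {i : ι} (hi : i ∈ Δ) : ht hΔ i = 1 := by simp [ht, coef_simple hΔ hi]

lemma ht_of_eq_add {i j k : ι} (h : P.root k = P.root i + P.root j) : ht hΔ k = ht hΔ i + ht hΔ j := by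
  rw [ht, coef_of_eq_add hΔ h]
  exact Finsupp.sum_add_index' (fun _ => rfl) fun _ _ _ => rfl

lemma ht_opp (k : ι) : ht hΔ (opp P k) = -ht hΔ k := by
  rw [ht, coef_opp]
  simp [ht, Finsupp.sum]

lemma ht_reflection {i : ι} (hi : i ∈ Δ) (k : ι) :
    ht hΔ (RootPairing.Equiv.reflection P i • k) = ht hΔ k - P.pairing k i := by
  rw [ht, coef_reflection hΔ hi, sub_eq_add_neg, Finsupp.sum_add_index' (fun _ => rfl) (fun _ _ _ => rfl),
    ← Finsupp.single_neg, Finsupp.sum_single_index rfl, ht, sub_eq_add_neg]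

lemma ht_pos_of_nonneg {k : ι} (h : ∀ a, 0 ≤ coef hΔ k a) : 0 < ht hΔ k := by
  obtain ⟨a, ha⟩ : ∃ a, coef hΔ k a ≠ 0 := by
    by_contra! h0
    exact coef_ne_zero hΔ k (Finsupp.ext h0)
  exact Finset.sum_pos' (fun b _ => h b) ⟨a, Finsupp.mem_support_iff.mpr ha, lt_of_le_of_ne (h a) ha.symm⟩

lemma mem_posOf_iff (k : ι) : k ∈ RootD.posOf P Δ ↔ ∀ a, 0 ≤ coef hΔ k a := by
  refine ⟨fun h => ?_, fun h => ?_⟩
  · obtain ⟨c, hc, hnn, he⟩ := exists_nonneg_coef h
    rwa [coef_eq hΔ hc he]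
  · show P.root k ∈ RootD.natSpan P Δ
    rw [← lc_coef hΔ k]
    exact lc_mem_natSpan (coef_support hΔ k) h

lemma mem_posOf_of_coef_pos {k a : ι} (h : 0 < coef hΔ k a) : k ∈ RootD.posOf P Δ :=
  (mem_posOf_iff hΔ k).mpr ((coef_sign hΔ k).resolve_right fun hn => (hn a).not_gt h)

lemma mem_posOf_iff_ht (k : ι) : k ∈ RootD.posOf P Δ ↔ 0 < ht hΔ k := by
  refine ⟨fun h => ht_pos_of_nonneg hΔ ((mem_posOf_iff hΔ k).mp h), fun h => ?_⟩
  refine (mem_posOf_iff hΔ k).mpr ((coef_sign hΔ k).resolve_right fun hn => ?_)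
  exact h.not_ge (Finset.sum_nonpos fun a _ => hn a)

lemma opp_mem_posOf_iff (k : ι) : opp P k ∈ RootD.posOf P Δ ↔ k ∉ RootD.posOf P Δ := by
  rw [mem_posOf_iff_ht hΔ, mem_posOf_iff_ht hΔ, ht_opp]
  have : ht hΔ k ≠ 0 := fun h0 => by
    rcases coef_sign hΔ k with h | h
    · exact (ht_pos_of_nonneg hΔ h).ne' h0
    · have := ht_pos_of_nonneg hΔ (k := opp P k) fun a => by simpa [coef_opp hΔ] using h a
      rw [ht_opp, h0] at this
      norm_num at this
  omega

lemma simple_mem_posOf {i : ι} (hi : i ∈ Δ) : i ∈ RootD.posOf P Δ := root_mem_natSpan hi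

lemma isPosSys_posOf [Finite ι] : RootD.IsPosSys P (RootD.posOf P Δ) := by
  refine (isPosSys_iff _).mpr ⟨fun i hi h => (opp_mem_posOf_iff hΔ i).mp h hi,
    fun i => (em (i ∈ RootD.posOf P Δ)).imp_right (opp_mem_posOf_iff hΔ i).mpr, fun i j k hi hj hk => ?_⟩
  show P.root k ∈ RootD.natSpan P Δ
  rw [hk]
  exact add_mem hi hj

lemma posOf_subset [Finite ι] {S : Set ι} (hS : RootD.IsClosedSub P S) (h : Δ ⊆ S) :
    RootD.posOf P Δ ⊆ S := fun k hk => (isClosedSub_iff S).mp hS k (natSpan_mono h hk)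

lemma subset_iff_eq_posOf [Finite ι] {S : Set ι} (hS : RootD.IsPosSys P S) :
    Δ ⊆ S ↔ S = RootD.posOf P Δ := by
  refine ⟨fun h => (Set.Subset.antisymm (posOf_subset hΔ (IsPosSys.closed hS) h) fun k hk => ?_).symm,
    fun h => h ▸ fun i hi => simple_mem_posOf hΔ hi⟩
  by_contra hk'
  exact hS.disjoint hk (posOf_subset hΔ (IsPosSys.closed hS) h ((opp_mem_posOf_iff hΔ k).mpr hk'))

lemma isIndiv_of_mem {i : ι} (hi : i ∈ Δ) : RootD.IsIndiv P i := fun j hj => by
  have e : coef hΔ i = coef hΔ j + coef hΔ j := coef_of_eq_add hΔ (by rw [← hj, two_zsmul])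
  have := DFunLike.congr_fun e i
  rw [coef_simple hΔ hi, Finsupp.add_apply, Finsupp.single_eq_same] at this
  omega

lemma pairing_le_zero [Finite ι] {i j : ι} (hi : i ∈ Δ) (hj : j ∈ Δ) (hij : i ≠ j) : P.pairing i j ≤ 0 := by
  by_contra! h
  obtain ⟨k, hk⟩ := sub_root_mem h hij
  have e : coef hΔ i = coef hΔ k + coef hΔ j := coef_of_eq_add hΔ (by rw [hk, sub_add_cancel])
  have e1 := DFunLike.congr_fun e i
  have e2 := DFunLike.congr_fun e j
  simp only [coef_simple hΔ hi, coef_simple hΔ hj, Finsupp.add_apply, Finsupp.single_eq_same,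
    Finsupp.single_eq_of_ne hij, Finsupp.single_eq_of_ne hij.symm] at e1 e2
  rcases coef_sign hΔ k with hs | hs
  · have := hs j; omega
  · have := hs i; omega

lemma exists_simple_pairing_pos [Finite ι] {k : ι} (hk : k ∈ RootD.posOf P Δ) :
    ∃ i ∈ Δ, 0 < coef hΔ k i ∧ 0 < P.pairing k i := by
  have e := congr_arg (P.coroot' k) (lc_coef hΔ k)
  rw [lc, Finsupp.linearCombination_apply, map_finsuppSum, P.root_coroot'_eq_pairing, P.pairing_same] at e
  obtain ⟨i, hi, hpos⟩ : ∃ i ∈ (coef hΔ k).support, 0 < coef hΔ k i * P.pairing i k := by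
    by_contra! hle
    have h0 : ((coef hΔ k).sum fun a b => P.coroot' k (b • P.root a)) ≤ 0 :=
      Finset.sum_nonpos fun a ha => by
        show P.coroot' k (coef hΔ k a • P.root a) ≤ 0
        rw [map_zsmul, P.root_coroot'_eq_pairing, smul_eq_mul]; exact hle a ha
    omega
  have hc := (mem_posOf_iff hΔ k).mp hk i
  have h1 : 0 < coef hΔ k i := lt_of_le_of_ne hc (Finsupp.mem_support_iff.mp hi).symm
  exact ⟨i, coef_support hΔ k hi, h1, pairing_pos_comm.mp (pos_of_mul_pos_right hpos hc)⟩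

lemma mem_simple_iff [Finite ι] {k : ι} (hk : k ∈ RootD.posOf P Δ) :
    k ∈ Δ ↔ ¬ ∃ i j, i ∈ RootD.posOf P Δ ∧ j ∈ RootD.posOf P Δ ∧ P.root k = P.root i + P.root j := by
  refine ⟨fun hkΔ ⟨i, j, hi, hj, h⟩ => ?_, fun h => ?_⟩
  · have := ht_of_eq_add hΔ h
    rw [ht_simple hΔ hkΔ] at this
    have := (mem_posOf_iff_ht hΔ i).mp hi
    have := (mem_posOf_iff_ht hΔ j).mp hj
    omega
  · by_contra hkΔ
    obtain ⟨i, hi, hci, hp⟩ := exists_simple_pairing_pos hΔ hk
    obtain ⟨j, hj⟩ := sub_root_mem hp (fun e => hkΔ (e ▸ hi))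
    have he : P.root k = P.root i + P.root j := by rw [hj, add_sub_cancel]
    refine h ⟨i, j, simple_mem_posOf hΔ hi, ?_, he⟩
    have e := coef_of_eq_add hΔ he
    obtain ⟨a, ha⟩ : ∃ a, 0 < coef hΔ j a := by
      by_contra! hle
      have h2 : ∀ a, coef hΔ k a ≤ Finsupp.single i 1 a := fun a => by
        have := hle a
        rw [e, coef_simple hΔ hi, Finsupp.add_apply]
        omega
      have h3 : coef hΔ k = Finsupp.single i 1 := Finsupp.ext fun a => by
        have h4 := (mem_posOf_iff hΔ k).mp hk a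
        have h5 := h2 a
        rcases eq_or_ne a i with rfl | hne
        · rw [Finsupp.single_eq_same] at h5 ⊢; omega
        · rw [Finsupp.single_eq_of_ne hne] at h5 ⊢; omega
      apply hkΔ
      rwa [show k = i from P.root.injective (by rw [← lc_coef hΔ k, h3]; simp [lc])]
    exact mem_posOf_of_coef_pos hΔ ha

lemma mem_posOf_reflection {i : ι} (hi : i ∈ Δ) {k : ι} (hk : k ∈ RootD.posOf P Δ)
    {a : ι} (hai : a ≠ i) (ha : coef hΔ k a ≠ 0) :
    RootPairing.Equiv.reflection P i • k ∈ RootD.posOf P Δ := by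
  refine mem_posOf_of_coef_pos hΔ (a := a) ?_
  rw [coef_reflection hΔ hi, Finsupp.sub_apply, Finsupp.single_eq_of_ne hai, sub_zero]
  exact lt_of_le_of_ne ((mem_posOf_iff hΔ k).mp hk a) ha.symm

lemma eq_or_eq_two_smul_of_coef [Finite ι] {i k : ι} (hi : i ∈ Δ) (hk : k ∈ RootD.posOf P Δ)
    (h : ∀ a, a ≠ i → coef hΔ k a = 0) : k = i ∨ P.root k = (2 : ℤ) • P.root i := by
  have hc : coef hΔ k = Finsupp.single i (coef hΔ k i) := Finsupp.ext fun a => by
    rcases eq_or_ne a i with rfl | hne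
    · rw [Finsupp.single_eq_same]
    · rw [Finsupp.single_eq_of_ne hne, h a hne]
  have hr : P.root k = coef hΔ k i • P.root i := by
    conv_lhs => rw [← lc_coef hΔ k, hc, lc, Finsupp.linearCombination_single]
  have h1 : P.pairing k i = coef hΔ k i * 2 := by
    rw [← P.root_coroot'_eq_pairing, hr, map_zsmul, P.root_coroot'_eq_pairing, P.pairing_same, smul_eq_mul]
  have h2 : coef hΔ k i * P.pairing i k = 2 := by
    rw [← P.pairing_same k, ← P.root_coroot'_eq_pairing k k, hr, map_zsmul, P.root_coroot'_eq_pairing, smul_eq_mul]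
  have h3 := (mem_posOf_iff hΔ k).mp hk i
  have h4 : coef hΔ k i ≤ 2 := Int.le_of_dvd two_pos ⟨_, h2.symm⟩
  rcases (by omega : coef hΔ k i = 0 ∨ coef hΔ k i = 1 ∨ coef hΔ k i = 2) with h5 | h5 | h5
  · rw [h5, zero_mul] at h2; norm_num at h2
  · exact Or.inl (P.root.injective (by rw [hr, h5, one_zsmul]))
  · exact Or.inr (by rw [hr, h5])

end Groth.Agent.RootSys
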