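import Groth.Agent.RootSys.Sl2RelK
import Groth.Agent.RootSys.GaBC
import Groth.Agent.RootSys.FieldGen
import Mathlib.RingTheory.AdjoinRoot

/-!
# The commutation relation of opposite root groups over a field
-/

set_option autoImplicit false
set_option backward.isDefEq.respectTransparency false
set_option linter.style.haveILetI false
set_option maxHeartbeats 1000000
set_option synthInstance.maxHeartbeats 400000

universe u

open CategoryTheory Limits MonoidalCategory CartesianMonoidalCategory MonObj AlgebraicGeometry LieS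
open scoped CategoryTheory.Obj TensorProduct

noncomputable section

namespace Groth.Agent.RootSys

open Groth.Agent.HomDiag Groth.Agent.DynPar Groth.Agent.MTBridge

variable {k : Type u} [Field k] {G : Over (Spec (CommRingCat.of k))} [GrpObj G] {M : Type} [AddCommGroup M]
  {j : Red.DS (Spec (CommRingCat.of k)) M ⟶ G} {u v : Red.Ga (Spec (CommRingCat.of k)) ⟶ G} {d : M}

/-- Products in the cell are decomposed uniquely, over any base field. -/
theorem cellMul_inj [IsAffine G.left] [Module.Free ℤ M] [IsMonHom j] [Mono j] (hd : d ≠ 0)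
    (hu : Red.IsRootHom j (Red.chi _ d) u) (hv : Red.IsRootHom j (Red.chi _ (-d)) v) {A : Type u} [CommRing A]
    {f : Spec (CommRingCat.of A) ⟶ Spec (CommRingCat.of k)} {a a' b b' : A}
    {t t' : pt A f ⟶ Red.DS (Spec (CommRingCat.of k)) M} (h : cellMul j u v a t b = cellMul j u v a' t' b') :
    a = a' ∧ t = t' ∧ b = b' := by
  haveI := hu.1; haveI := hv.1; haveI := hu.2.1; haveI := hv.2.1
  haveI : Mono u := Over.mono_of_mono_left u
  haveI : Mono v := Over.mono_of_mono_left v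
  obtain ⟨g, hg⟩ := exists_dual_ne_zero hd
  obtain ⟨mu, hmu⟩ : ∃ mu : M →+ ℤ, 0 < mu d := by
    rcases lt_or_gt_of_ne hg with h | h
    · exact ⟨-g, by rw [AddMonoidHom.neg_apply]; omega⟩
    · exact ⟨g, h⟩
  let lam := Red.DSmap (Spec (CommRingCat.of k)) mu ≫ j
  let lam' := Red.DSmap (Spec (CommRingCat.of k)) (-mu) ≫ j
  have hPv : ∀ y, gpt f y ≫ v ∈ USub f lam' := fun y =>
    rootHom_mem_USub hv (-mu) (by rw [AddMonoidHom.neg_apply, map_neg]; omega) _
  have hPu : ∀ y, gpt f y ≫ u ∈ USub f lam := fun y => rootHom_mem_USub hu mu hmu _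
  have hPS : ∀ t b, t ≫ j * gpt f b ≫ u ∈ PSub f lam := fun t b =>
    mul_mem (ZSub_le_PSub _ _ (comp_mem_ZSub j mu t)) (USub_le_PSub _ _ (hPu _))
  simp only [cellMul, _root_.mul_assoc] at h
  have h1 : (gpt f a' ≫ v)⁻¹ * gpt f a ≫ v = 1 :=
    eq_one_of_opp (-mu) (mul_mem (inv_mem (hPv _)) (hPv _)) (by
      rw [neg_neg, show (gpt f a' ≫ v)⁻¹ * gpt f a ≫ v = (t' ≫ j * gpt f b' ≫ u) * (t ≫ j * gpt f b ≫ u)⁻¹ by
        rw [eq_mul_inv_iff_mul_eq, _root_.mul_assoc, h, inv_mul_cancel_left]]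
      exact mul_mem (hPS _ _) (inv_mem (hPS _ _)))
  have ha : gpt f a = gpt f a' := (cancel_mono v).1 (inv_mul_eq_one.1 h1).symm
  have ha' : a = a' := by have := congrArg gval ha; rwa [gval_gpt, gval_gpt] at this
  subst ha'
  have hh' := mul_left_cancel h
  have h2 : (t' ≫ j)⁻¹ * t ≫ j = 1 := by
    refine eq_one_of_opp (c := j) mu ?_ ?_
    · rw [show (t' ≫ j)⁻¹ * t ≫ j = gpt f b' ≫ u * (gpt f b ≫ u)⁻¹ by
        rw [eq_mul_inv_iff_mul_eq, _root_.mul_assoc, hh', inv_mul_cancel_left]]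
      exact mul_mem (hPu _) (inv_mem (hPu _))
    · exact mul_mem (inv_mem (ZSub_le_PSub _ _ (comp_mem_ZSub j (-mu) t'))) (ZSub_le_PSub _ _ (comp_mem_ZSub j (-mu) t))
  have ht : t = t' := (cancel_mono j).1 (inv_mul_eq_one.1 h2).symm
  subst ht
  refine ⟨rfl, rfl, ?_⟩
  have := congrArg gval ((cancel_mono u).1 (mul_left_cancel hh'))
  rwa [gval_gpt, gval_gpt] at this

/-- Points of an affine group are detected after an injective map of rings. -/
theorem qm_injective [IsAffine G.left] {A A' : Type u} [CommRing A] [CommRing A']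
    {f : Spec (CommRingCat.of A) ⟶ Spec (CommRingCat.of k)} {f' : Spec (CommRingCat.of A') ⟶ Spec (CommRingCat.of k)}
    (h : A →+* A') (hh : Function.Injective h) (hf : Spec.map (CommRingCat.ofHom h) ≫ f = f') {x y : pt A f ⟶ G}
    (e : qm h hf ≫ x = qm h hf ≫ y) : x = y :=
  rp_ext (RingHom.ext fun a => hh (by rw [← RingHom.comp_apply, ← rp_qm h hf, e, rp_qm, RingHom.comp_apply]))

section Transfer

variable {K : Type u} [Field K] (ιk : k →+* K) {A : Type u} [CommRing A]
  {fa : Spec (CommRingCat.of A) ⟶ Spec (CommRingCat.of K)} {fb : Spec (CommRingCat.of A) ⟶ Spec (CommRingCat.of k)}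
  (e : fa ≫ Spec.map (CommRingCat.ofHom ιk) = fb)

theorem down_gpt (w : Red.Ga (Spec (CommRingCat.of k)) ⟶ G) (x : A) :
    down (Spec.map (CommRingCat.ofHom ιk)) e (gpt fb x ≫ w) = gpt fa x ≫ bcGa (Spec.map (CommRingCat.ofHom ιk)) w := by
  rw [bcGa_eq, down, ← Category.assoc (upId' _ e)]
  congr 2
  refine BGaNotS.gaPt_ext ?_
  rw [gaFn_gaPush, BGaNotS.gaFn_comp, gpt, gpt, BGaNotS.gaFn_gaPt, BGaNotS.gaFn_gaPt]
  show (Scheme.Hom.appTop (𝟙 _)).hom _ = _
  rw [Scheme.Hom.id_appTop]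
  rfl

theorem down_torus (c : Red.DS (Spec (CommRingCat.of k)) M ⟶ G) (t : pt A fb ⟶ Red.DS (Spec (CommRingCat.of k)) M)
    (t' : pt A fa ⟶ Red.DS (Spec (CommRingCat.of K)) M) (h : ∀ m, chv t m = chv t' m) :
    down (Spec.map (CommRingCat.ofHom ιk)) e (t ≫ c) = t' ≫ bcHom' (Spec.map (CommRingCat.ofHom ιk)) c := by
  rw [bcHom', ← Category.assoc, comp_ej, ← toBC_comp, down, ← Category.assoc (upId' _ e)]
  congr 2
  refine ch_ext fun m => ?_
  rw [ch_map_ejPt, ch_comp]
  show (Scheme.Hom.appTop (𝟙 _)).hom _ = _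
  rw [Scheme.Hom.id_appTop]
  exact (ConcreteCategory.bijective_of_isIso (Scheme.ΓSpecIso (CommRingCat.of A)).hom).1 (h m)

include e in
theorem sl2_down {c : K} {e' : M →+ ℤ}
    (h : Sl2Rel (bcHom' (Spec.map (CommRingCat.ofHom ιk)) j) (bcGa (Spec.map (CommRingCat.ofHom ιk)) u)
      (bcGa (Spec.map (CommRingCat.ofHom ιk)) v) c e') (φ : K →+* A) (hfa : Spec.map (CommRingCat.ofHom φ) = fa)
    (x y : A) (w : Aˣ) (t : pt A fb ⟶ Red.DS (Spec (CommRingCat.of k)) M) (hw : (w : A) = 1 + φ c * (x * y))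
    (ht : ∀ m, chv t m = ((w ^ e' (Multiplicative.toAdd m) : Aˣ) : A)) :
    gpt fb x ≫ u * gpt fb y ≫ v = cellMul j u v (y * (w⁻¹ : Aˣ)) t (x * (w⁻¹ : Aˣ)) := by
  subst hfa
  obtain ⟨t', ht'⟩ := exists_chv (f := Spec.map (CommRingCat.ofHom φ)) (S := Spec (CommRingCat.of K)) (chv t)
  apply (upEquiv (Spec.map (CommRingCat.ofHom ιk)) e (G := G)).injective
  show down _ e _ = down _ e _
  rw [cellMul, down_mul, down_mul, down_mul, down_gpt, down_gpt, down_gpt, down_gpt,
    down_torus ιk e j t t' fun m => (ht' m).symm]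
  exact h φ x y w t' hw fun m => (ht' m).trans (ht m)

end Transfer

/-- **The commutation relation over a field**, from the one over an algebraically closed extension. -/
theorem exists_sl2Rel_descend [IsAffine G.left] [Module.Free ℤ M] [Module.Finite ℤ M] [IsMonHom j] [Mono j] (hd : d ≠ 0)
    (hu : Red.IsRootHom j (Red.chi _ d) u) (hv : Red.IsRootHom j (Red.chi _ (-d)) v)
    (K : Type u) [Field K] [IsAlgClosed K] [Algebra k K]
    (hKa : IsAffine (Red.bc (Spec.map (CommRingCat.ofHom (algebraMap k K))) G).left)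
    (hKr : Red.IsReductiveOver K (Red.bc (Spec.map (CommRingCat.ofHom (algebraMap k K))) G))
    (hKm : AGF.IsMaxTorus (bcHom' (Spec.map (CommRingCat.ofHom (algebraMap k K))) j)) :
    ∃ (c : k) (e : M →+ ℤ), c ≠ 0 ∧ e d = 2 ∧ Sl2Rel j u v c e := by
  classical
  haveI := hKa
  let ιk : k →+* K := algebraMap k K
  let jj := Spec.map (CommRingCat.ofHom ιk)
  obtain ⟨cK, e, hc, hed, H⟩ := exists_sl2Rel_closed (j := bcHom' jj j) hKr hKm hd (isRootHom_bc jj hu)
    (isRootHom_bc jj hv)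
  have hcomp : ∀ {A : Type u} [CommRing A] (φ : K →+* A) (φk : k →+* A), φ.comp ιk = φk →
      Spec.map (CommRingCat.ofHom φ) ≫ jj = Spec.map (CommRingCat.ofHom φk) := fun φ φk h => by
    rw [← Spec.map_comp, ← CommRingCat.ofHom_comp, h]
  -- the constant is rational
  obtain ⟨c, rfl⟩ : ∃ c, algebraMap k K c = cK := by
    let R := K ⊗[k] K
    let c₁ : R := cK ⊗ₜ 1
    let c₂ : R := 1 ⊗ₜ cK
    suffices h12 : c₁ = c₂ by
      obtain ⟨lam, hlam⟩ := LinearMap.exists_leftInverse_of_injective (Algebra.linearMap k K)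
        (LinearMap.ker_eq_bot.2 (algebraMap k K).injective)
      refine ⟨lam cK, ?_⟩
      have h := congrArg ((TensorProduct.lid k K).toLinearMap ∘ₗ TensorProduct.map lam LinearMap.id) h12
      simp only [c₁, c₂, LinearMap.comp_apply, TensorProduct.map_tmul, LinearMap.id_apply, LinearEquiv.coe_coe,
        TensorProduct.lid_tmul] at h
      have h1 : lam 1 = 1 := by simpa using LinearMap.congr_fun hlam 1
      rw [h1, one_smul, Algebra.smul_def, _root_.mul_one] at h
      exact h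
    let q : Polynomial R := Polynomial.X ^ 4
    let A := AdjoinRoot q
    let ε : A := AdjoinRoot.root q
    let ψ : R →+* A := AdjoinRoot.of q
    let φ₁ : K →+* A := ψ.comp Algebra.TensorProduct.includeLeftRingHom
    let φ₂ : K →+* A := ψ.comp Algebra.TensorProduct.includeRight.toRingHom
    let φk : k →+* A := ψ.comp (algebraMap k R)
    have hε : ∀ n, 4 ≤ n → ε ^ n = 0 := fun n hn => by
      show AdjoinRoot.mk q Polynomial.X ^ n = 0
      rw [← map_pow, AdjoinRoot.mk_eq_zero]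
      exact pow_dvd_pow _ hn
    have hunit : ∀ a : A, ∃ w : Aˣ, (w : A) = 1 + a * (ε * ε) := fun a =>
      ⟨(IsNilpotent.isUnit_one_add ⟨2, by rw [mul_pow, ← pow_two, ← pow_mul, hε 4 le_rfl, mul_zero]⟩).unit,
        IsUnit.unit_spec _⟩
    have hk₁ : φ₁.comp ιk = φk := RingHom.ext fun r => congrArg ψ
      ((Algebra.TensorProduct.includeLeft (R := k) (S := k) (A := K) (B := K)).commutes r)
    have hk₂ : φ₂.comp ιk = φk := RingHom.ext fun r => congrArg ψ
      ((Algebra.TensorProduct.includeRight (R := k) (A := K) (B := K)).commutes r)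
    obtain ⟨w₁, hw₁⟩ := hunit (φ₁ cK)
    obtain ⟨w₂, hw₂⟩ := hunit (φ₂ cK)
    let fb := Spec.map (CommRingCat.ofHom φk)
    have hχ : ∀ w : Aˣ, ∃ t : pt A fb ⟶ Red.DS (Spec (CommRingCat.of k)) M,
        ∀ m, chv t m = ((w ^ e (Multiplicative.toAdd m) : Aˣ) : A) := fun w =>
      exists_chv (f := fb) (S := Spec (CommRingCat.of k))
        { toFun := fun m => ((w ^ e (Multiplicative.toAdd m) : Aˣ) : A)
          map_one' := by simp
          map_mul' := fun a b => by rw [toAdd_mul, map_add, zpow_add, Units.val_mul] }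
    obtain ⟨t₁, ht₁⟩ := hχ w₁
    obtain ⟨t₂, ht₂⟩ := hχ w₂
    have e₁ := sl2_down ιk (hcomp φ₁ φk hk₁) H φ₁ rfl ε ε w₁ t₁ hw₁ ht₁
    have e₂ := sl2_down ιk (hcomp φ₂ φk hk₂) H φ₂ rfl ε ε w₂ t₂ hw₂ ht₂
    obtain ⟨ha, -, -⟩ := cellMul_inj hd hu hv (e₁.symm.trans e₂)
    have h3 : ε * (w₂ : A) = ε * (w₁ : A) := by
      have := congrArg (fun z => z * (w₁ : A) * (w₂ : A)) ha
      simp only [_root_.mul_assoc] at this
      rw [← _root_.mul_assoc ((w₁⁻¹ : Aˣ) : A), Units.inv_mul, _root_.one_mul, mul_comm (w₁ : A) (w₂ : A),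
        ← _root_.mul_assoc ((w₂⁻¹ : Aˣ) : A), Units.inv_mul, _root_.one_mul] at this
      exact this
    rw [hw₁, hw₂] at h3
    have h4 : ψ (c₂ - c₁) * ε ^ 3 = 0 := by
      rw [map_sub]
      show (φ₂ cK - φ₁ cK) * ε ^ 3 = 0
      linear_combination h3
    have h5 : q ∣ Polynomial.C (c₂ - c₁) * Polynomial.X ^ 3 := by
      rw [← AdjoinRoot.mk_eq_zero, map_mul, map_pow]
      exact h4
    have h6 := Polynomial.X_pow_dvd_iff.1 h5 3 (by norm_num)
    rw [Polynomial.coeff_C_mul_X_pow, if_pos rfl, sub_eq_zero] at h6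
    exact h6.symm
  refine ⟨c, e, fun h => hc (by rw [h, map_zero]), hed, fun {A} _ φ x y w t hw ht => ?_⟩
  letI : Algebra k A := φ.toAlgebra
  let A' := K ⊗[k] A
  let g : A →+* A' := Algebra.TensorProduct.includeRight.toRingHom
  have hg : Function.Injective g := Algebra.TensorProduct.includeRight_injective (algebraMap k K).injective
  let φK : K →+* A' := Algebra.TensorProduct.includeLeftRingHom
  have hk : φK.comp ιk = g.comp φ := RingHom.ext fun r => by
    show (Algebra.TensorProduct.includeLeft (R := k) (S := k) (A := K) (B := A)) (algebraMap k K r) =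
      (Algebra.TensorProduct.includeRight (R := k) (A := K) (B := A)) (algebraMap k A r)
    rw [AlgHom.commutes, AlgHom.commutes]
  have hf : Spec.map (CommRingCat.ofHom g) ≫ Spec.map (CommRingCat.ofHom φ) =
      Spec.map (CommRingCat.ofHom (g.comp φ)) := by rw [← Spec.map_comp, ← CommRingCat.ofHom_comp]
  refine qm_injective g hg hf ?_
  rw [MonObj.comp_mul, qm_cellMul, ← Category.assoc, ← Category.assoc, qm_gpt, qm_gpt, map_mul, map_mul]
  have hval : ∀ n : ℤ, g ((w ^ n : Aˣ) : A) = ((Units.map (g : A →* A') w ^ n : A'ˣ) : A') := fun n => by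
    rw [← map_zpow]; rfl
  have hinv : g ((w⁻¹ : Aˣ) : A) = (((Units.map (g : A →* A') w)⁻¹ : A'ˣ) : A') := by
    rw [← zpow_neg_one, hval, zpow_neg_one]
  rw [hinv]
  refine sl2_down ιk (hcomp φK (g.comp φ) hk) H φK rfl (g x) (g y) (Units.map (g : A →* A') w) _ ?_ fun m => ?_
  · show g (w : A) = _
    rw [hw, map_add, map_one, map_mul, map_mul]
    show _ + (g.comp φ) c * _ = _ + (φK.comp ιk) c * _
    rw [hk]
  · rw [chv_qm, ht, hval]

/-- **The commutation relation** of opposite root groups of a split maximal torus. -/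
theorem exists_sl2Rel [IsAffine G.left] [Smooth G.hom] [ConnectedSpace G.left] (hG : Red.IsReductive G)
    {T : Over (Spec (CommRingCat.of k))} [GrpObj T] (i : T ⟶ G) (hT : Red.IsMaximalTorus i) [Module.Free ℤ M]
    [Module.Finite ℤ M] (E : Grp.mk T ≅ Grp.mk (Red.DS (Spec (CommRingCat.of k)) M)) [IsMonHom (E.inv.hom.hom ≫ i)]
    (hd : d ≠ 0) {u v : Red.Ga (Spec (CommRingCat.of k)) ⟶ G}
    (hu : Red.IsRootHom (E.inv.hom.hom ≫ i) (Red.chi _ d) u)
    (hv : Red.IsRootHom (E.inv.hom.hom ≫ i) (Red.chi _ (-d)) v) :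
    ∃ (c : k) (e : M →+ ℤ), c ≠ 0 ∧ e d = 2 ∧ Sl2Rel (E.inv.hom.hom ≫ i) u v c e := by
  obtain ⟨K, _, _, φ, hKa, hKr, hKm⟩ := exists_closure_setting hG i hT E
  letI : Algebra k K := φ.toAlgebra
  haveI : Mono i := hT.2.1
  haveI : IsIso E.inv.hom.hom := inferInstanceAs (IsIso ((Grp.forget _).map E.inv))
  haveI : Mono (E.inv.hom.hom ≫ i) := mono_comp _ _
  exact exists_sl2Rel_descend hd hu hv K hKa hKr hKm

end Groth.Agent.RootSys
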