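import Groth.Agent.RootSys.RankCell
import Mathlib.RingTheory.Nullstellensatz

/-!
# The commutation relation of opposite root groups over an algebraically closed field

From the shape of the open cell: `u x v y = v (y / w) · e(w) · u (x / w)` with `w = 1 + c x y`,
for a nonzero constant `c` and a cocharacter `e` of value two on the root.
-/

set_option autoImplicit false
set_option backward.isDefEq.respectTransparency false
set_option linter.style.haveILetI false
set_option maxHeartbeats 1000000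
set_option synthInstance.maxHeartbeats 400000

universe u

open CategoryTheory Limits MonoidalCategory CartesianMonoidalCategory MonObj AlgebraicGeometry LieS
open scoped CategoryTheory.Obj

noncomputable section

namespace Groth.Agent.RootSys

open Groth.Agent.HomDiag Groth.Agent.DynPar

variable {k : Type u} [Field k] {G : Over (Spec (CommRingCat.of k))} [GrpObj G] {M : Type} [AddCommGroup M]
  {j : Red.DS (Spec (CommRingCat.of k)) M ⟶ G} {u v : Red.Ga (Spec (CommRingCat.of k)) ⟶ G} {d : M}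

/-- The commutation relation of a pair of opposite root groups. -/
def Sl2Rel (j : Red.DS (Spec (CommRingCat.of k)) M ⟶ G) (u v : Red.Ga (Spec (CommRingCat.of k)) ⟶ G) (c : k)
    (e : M →+ ℤ) : Prop :=
  ∀ {A : Type u} [CommRing A] (φ : k →+* A) (x y : A) (w : Aˣ)
    (t : pt A (Spec.map (CommRingCat.ofHom φ)) ⟶ Red.DS (Spec (CommRingCat.of k)) M),
    (w : A) = 1 + φ c * (x * y) → (∀ m, chv t m = ((w ^ e (Multiplicative.toAdd m) : Aˣ) : A)) →
      gpt (Spec.map (CommRingCat.ofHom φ)) x ≫ u * gpt (Spec.map (CommRingCat.ofHom φ)) y ≫ v =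
        cellMul j u v (y * (w⁻¹ : Aˣ)) t (x * (w⁻¹ : Aˣ))

section Points

variable {B : Type u} [CommRing B] {f : Spec (CommRingCat.of B) ⟶ Spec (CommRingCat.of k)}

theorem ds_comm (s t : pt B f ⟶ Red.DS (Spec (CommRingCat.of k)) M) : s * t = t * s :=
  chv_ext fun m => by rw [chv_mul, chv_mul, mul_comm]

theorem gpt_comp_add [IsMonHom u] (a b : B) : gpt f (a + b) ≫ u = gpt f a ≫ u * gpt f b ≫ u := by
  rw [gpt_add, MonObj.mul_comp]

theorem gpt_comp_zero [IsMonHom u] : gpt f (0 : B) ≫ u = 1 := by rw [gpt_zero, MonObj.one_comp]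

theorem root_conj (hu : Red.IsRootHom j (Red.chi _ d) u) (t : pt B f ⟶ Red.DS (Spec (CommRingCat.of k)) M) (a : B) :
    t ≫ j * gpt f a ≫ u * (t ≫ j)⁻¹ = gpt f (chv t (Multiplicative.ofAdd d) * a) ≫ u := by
  rw [rootHom_conj hu, gval_gpt]

theorem root_comm (hu : Red.IsRootHom j (Red.chi _ d) u) (t : pt B f ⟶ Red.DS (Spec (CommRingCat.of k)) M) (a : B) :
    t ≫ j * gpt f a ≫ u = gpt f (chv t (Multiplicative.ofAdd d) * a) ≫ u * t ≫ j := by
  rw [← root_conj hu, inv_mul_cancel_right]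

theorem root_comm' [IsMonHom j] (hu : Red.IsRootHom j (Red.chi _ d) u)
    (t : pt B f ⟶ Red.DS (Spec (CommRingCat.of k)) M) (a : B) :
    gpt f a ≫ u * t ≫ j = t ≫ j * gpt f (chv t⁻¹ (Multiplicative.ofAdd d) * a) ≫ u := by
  rw [← root_conj hu, GrpObj.inv_comp, inv_inv]
  group

theorem chv_eq_one_of_idem {t : pt B f ⟶ Red.DS (Spec (CommRingCat.of k)) M} (h : t * t = t) (m : Multiplicative M) :
    chv t m = 1 := by
  have e : chv t m * chv t m = chv t m := by rw [← chv_mul, h]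
  exact (IsUnit.map (chv t) (Group.isUnit m)).mul_left_cancel (e.trans (_root_.mul_one _).symm)

theorem inv_mul_idem {H : Type*} [Group H] (t : H) : t⁻¹ * t * (t⁻¹ * t) = t⁻¹ * t := by group

theorem chv_inv_mul (t : pt B f ⟶ Red.DS (Spec (CommRingCat.of k)) M) (m : Multiplicative M) :
    chv t⁻¹ m * chv t m = 1 := by
  rw [← chv_mul]
  exact chv_eq_one_of_idem (inv_mul_idem t) m

end Points

/-- Products in the cell are preserved by maps of rings. -/
theorem qm_cellMul {B B' : Type u} [CommRing B] [CommRing B'] {f : Spec (CommRingCat.of B) ⟶ Spec (CommRingCat.of k)}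
    {f' : Spec (CommRingCat.of B') ⟶ Spec (CommRingCat.of k)} (h : B →+* B')
    (hf : Spec.map (CommRingCat.ofHom h) ≫ f = f') (a b : B) (t : pt B f ⟶ Red.DS (Spec (CommRingCat.of k)) M) :
    qm h hf ≫ cellMul j u v a t b = cellMul j u v (h a) (qm h hf ≫ t) (h b) := by
  simp only [cellMul, MonObj.comp_mul, ← Category.assoc, qm_gpt]

/-- A cocharacter-like functional does not vanish on a nonzero element of a lattice. -/
theorem exists_dual_ne_zero [Module.Free ℤ M] (hd : d ≠ 0) : ∃ f : M →+ ℤ, f d ≠ 0 := by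
  by_contra! h
  exact hd ((Module.forall_dual_apply_eq_zero_iff ℤ d).1 fun φ => h φ.toAddMonoidHom)

variable [IsAlgClosed k]

/-- A rational point of the torus with a given value of a nonzero character. -/
theorem exists_pt_chv [Module.Free ℤ M] (hd : d ≠ 0) (f : Spec (CommRingCat.of k) ⟶ Spec (CommRingCat.of k)) {a : k}
    (ha : a ≠ 0) : ∃ s : pt k f ⟶ Red.DS (Spec (CommRingCat.of k)) M, chv s (Multiplicative.ofAdd d) = a := by
  obtain ⟨g, hg⟩ := exists_dual_ne_zero hd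
  obtain ⟨r, hr⟩ := IsAlgClosed.exists_pow_nat_eq a (Int.natAbs_pos.2 hg)
  have hr0 : r ≠ 0 := fun h => ha (by rw [← hr, h, zero_pow (Int.natAbs_pos.2 hg).ne'])
  obtain ⟨q, hq, hqa⟩ : ∃ q : k, q ≠ 0 ∧ q ^ g d = a := by
    rcases Int.natAbs_eq (g d) with h | h
    · exact ⟨r, hr0, by rw [h, zpow_natCast, hr]⟩
    · exact ⟨r⁻¹, inv_ne_zero hr0, by rw [h, zpow_neg, inv_zpow, inv_inv, zpow_natCast, hr]⟩
  let χ : Multiplicative M →* k :=
    { toFun := fun m => q ^ g (Multiplicative.toAdd m)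
      map_one' := by simp
      map_mul' := fun x y => by rw [toAdd_mul, map_add, zpow_add₀ hq] }
  obtain ⟨s, hs⟩ := exists_chv (S := Spec (CommRingCat.of k)) (f := f) χ
  exact ⟨s, (hs _).trans hqa⟩

/-- Units of a localisation of the line at a linear polynomial. -/
theorem exists_unit_form {W : Polynomial k} (hdeg : W.degree = 1) {l : Localization.Away W} (hl : IsUnit l) :
    ∃ (r : k) (n i : ℕ), l * algebraMap _ _ (W ^ n) = algebraMap _ _ (Polynomial.C r * W ^ i) := by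
  have hW0 : W ≠ 0 := fun h => by rw [h, Polynomial.degree_zero] at hdeg; simp at hdeg
  have hinj : Function.Injective (algebraMap (Polynomial k) (Localization.Away W)) :=
    IsLocalization.injective _ (powers_le_nonZeroDivisors_of_noZeroDivisors hW0)
  obtain ⟨w, hw⟩ := hl
  obtain ⟨⟨q, _, n, rfl⟩, hq⟩ := IsLocalization.surj (Submonoid.powers W) l
  obtain ⟨⟨q', _, n', rfl⟩, hq'⟩ := IsLocalization.surj (Submonoid.powers W) ((w⁻¹ : _ˣ) : Localization.Away W)
  have h : q * q' = W ^ n * W ^ n' := hinj (by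
    rw [map_mul, map_mul, ← hq, ← hq', _root_.mul_mul_mul_comm, ← hw, Units.mul_inv, _root_.one_mul])
  obtain ⟨i, -, hi⟩ := (dvd_prime_pow (Polynomial.prime_of_degree_eq_one hdeg) _).1
    (⟨q', by rw [h, pow_add]⟩ : q ∣ W ^ (n + n'))
  obtain ⟨z, hz⟩ := hi.symm
  obtain ⟨r, -, hr⟩ := Polynomial.isUnit_iff.1 z.isUnit
  exact ⟨r, n, i, by rw [hq, ← hz, ← hr, mul_comm]⟩

/-- Exponents are determined by the powers of the nonzero scalars. -/
theorem zpow_inj_all {m n : ℤ} (h : ∀ q : k, q ≠ 0 → q ^ m = q ^ n) : m = n := by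
  classical
  by_contra hne
  have hN : 0 < (m - n).natAbs := Int.natAbs_pos.2 (sub_ne_zero.2 hne)
  obtain ⟨q, hq⟩ := Infinite.exists_notMem_finset ((Polynomial.X ^ (m - n).natAbs - 1 : Polynomial k).roots.toFinset ∪ {0})
  rw [Finset.mem_union, Finset.mem_singleton, not_or] at hq
  refine hq.1 (Multiset.mem_toFinset.2 ((Polynomial.mem_roots (Polynomial.X_pow_sub_C_ne_zero hN 1)).2 ?_))
  have h1 : q ^ (m - n) = 1 := by rw [zpow_sub₀ hq.2, h q hq.2, div_self (zpow_ne_zero _ hq.2)]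
  rw [Polynomial.IsRoot, Polynomial.eval_sub, Polynomial.eval_pow, Polynomial.eval_X, Polynomial.eval_C, sub_eq_zero,
    ← zpow_natCast]
  rcases Int.natAbs_eq (m - n) with e | e
  · rw [← e]; exact h1
  · rw [show ((m - n).natAbs : ℤ) = -(m - n) by omega, zpow_neg, h1, inv_one]

/-- The operations of a pair of opposite root groups on products in the cell. -/
structure CellOps (j : Red.DS (Spec (CommRingCat.of k)) M ⟶ G) (u v : Red.Ga (Spec (CommRingCat.of k)) ⟶ G) (d : M)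
    {B : Type u} [CommRing B] (f : Spec (CommRingCat.of B) ⟶ Spec (CommRingCat.of k)) : Prop where
  zero_left : ∀ y : B, gpt f (0 : B) ≫ u * gpt f y ≫ v = cellMul j u v y 1 0
  zero_right : ∀ x : B, gpt f x ≫ u * gpt f (0 : B) ≫ v = cellMul j u v 0 1 x
  scale : ∀ {x y a b : B} {t : pt B f ⟶ Red.DS (Spec (CommRingCat.of k)) M}
    (s : pt B f ⟶ Red.DS (Spec (CommRingCat.of k)) M), gpt f x ≫ u * gpt f y ≫ v = cellMul j u v a t b →
    gpt f (chv s (Multiplicative.ofAdd d) * x) ≫ u * gpt f (chv s (Multiplicative.ofAdd (-d)) * y) ≫ v =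
      cellMul j u v (chv s (Multiplicative.ofAdd (-d)) * a) t (chv s (Multiplicative.ofAdd d) * b)
  left_of : ∀ {x x₁ y a b a' b' : B} {t t' : pt B f ⟶ Red.DS (Spec (CommRingCat.of k)) M},
    gpt f x ≫ u * gpt f y ≫ v = cellMul j u v a t b → gpt f x₁ ≫ u * gpt f a ≫ v = cellMul j u v a' t' b' →
    gpt f (x₁ + x) ≫ u * gpt f y ≫ v = cellMul j u v a' (t' * t) (chv t⁻¹ (Multiplicative.ofAdd d) * b' + b)
  left_to : ∀ {x x₁ y a b a' b' : B} {t t' : pt B f ⟶ Red.DS (Spec (CommRingCat.of k)) M},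
    gpt f x ≫ u * gpt f y ≫ v = cellMul j u v a t b → gpt f (x₁ + x) ≫ u * gpt f y ≫ v = cellMul j u v a' t' b' →
    ∃ b'', gpt f x₁ ≫ u * gpt f a ≫ v = cellMul j u v a' (t' * t⁻¹) b''
  right_of : ∀ {x y y₁ a b a' b' : B} {t t' : pt B f ⟶ Red.DS (Spec (CommRingCat.of k)) M},
    gpt f x ≫ u * gpt f y ≫ v = cellMul j u v a t b → gpt f b ≫ u * gpt f y₁ ≫ v = cellMul j u v a' t' b' →
    gpt f x ≫ u * gpt f (y + y₁) ≫ v = cellMul j u v (a + chv t (Multiplicative.ofAdd (-d)) * a') (t * t') b'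
  right_to : ∀ {x y y₁ a b a' b' : B} {t t' : pt B f ⟶ Red.DS (Spec (CommRingCat.of k)) M},
    gpt f x ≫ u * gpt f y ≫ v = cellMul j u v a t b → gpt f x ≫ u * gpt f (y + y₁) ≫ v = cellMul j u v a' t' b' →
    ∃ a'', gpt f b ≫ u * gpt f y₁ ≫ v = cellMul j u v a'' (t⁻¹ * t') b'

omit [IsAlgClosed k] in
theorem cellOps [IsMonHom j] (hu : Red.IsRootHom j (Red.chi _ d) u) (hv : Red.IsRootHom j (Red.chi _ (-d)) v)
    {B : Type u} [CommRing B] (f : Spec (CommRingCat.of B) ⟶ Spec (CommRingCat.of k)) : CellOps j u v d f := by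
  haveI := hu.1; haveI := hv.1
  refine ⟨fun y => ?_, fun x => ?_, fun {x y a b t} s h => ?_, fun {x x₁ y a b a' b' t t'} h h' => ?_,
    fun {x x₁ y a b a' b' t t'} h h' => ?_, fun {x y y₁ a b a' b' t t'} h h' => ?_,
    fun {x y y₁ a b a' b' t t'} h h' => ?_⟩
  · simp only [cellMul, gpt_comp_zero, MonObj.one_comp, _root_.mul_one, _root_.one_mul]
  · simp only [cellMul, gpt_comp_zero, MonObj.one_comp, _root_.mul_one, _root_.one_mul]
  · simp only [cellMul] at h ⊢
    rw [← root_conj hu, ← root_conj hv, ← root_conj hv, ← root_conj hu]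
    have hst : (s ≫ j)⁻¹ * t ≫ j = t ≫ j * (s ≫ j)⁻¹ := by
      rw [← GrpObj.inv_comp s j, ← MonObj.mul_comp, ds_comm, MonObj.mul_comp]
    calc (s ≫ j * gpt f x ≫ u * (s ≫ j)⁻¹) * (s ≫ j * gpt f y ≫ v * (s ≫ j)⁻¹)
        = s ≫ j * (gpt f x ≫ u * gpt f y ≫ v) * (s ≫ j)⁻¹ := by group
      _ = s ≫ j * gpt f a ≫ v * ((t ≫ j * (s ≫ j)⁻¹) * s ≫ j) * gpt f b ≫ u * (s ≫ j)⁻¹ := by rw [h]; group
      _ = _ := by rw [← hst]; group
  · simp only [cellMul] at h h' ⊢
    rw [gpt_comp_add, gpt_comp_add, MonObj.mul_comp]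
    calc gpt f x₁ ≫ u * gpt f x ≫ u * gpt f y ≫ v
        = gpt f x₁ ≫ u * (gpt f x ≫ u * gpt f y ≫ v) := _root_.mul_assoc _ _ _
      _ = (gpt f x₁ ≫ u * gpt f a ≫ v) * t ≫ j * gpt f b ≫ u := by rw [h]; simp only [_root_.mul_assoc]
      _ = gpt f a' ≫ v * t' ≫ j * (gpt f b' ≫ u * t ≫ j) * gpt f b ≫ u := by rw [h']; simp only [_root_.mul_assoc]
      _ = _ := by rw [root_comm' hu]; simp only [_root_.mul_assoc]
  · refine ⟨chv t⁻¹⁻¹ (Multiplicative.ofAdd d) * (b' + -b), ?_⟩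
    simp only [cellMul] at h h' ⊢
    rw [gpt_comp_add] at h'
    rw [MonObj.mul_comp, GrpObj.inv_comp]
    calc gpt f x₁ ≫ u * gpt f a ≫ v
        = gpt f x₁ ≫ u * gpt f x ≫ u * gpt f y ≫ v * (gpt f b ≫ u)⁻¹ * (t ≫ j)⁻¹ := by
          rw [_root_.mul_assoc (gpt f x₁ ≫ u), h]; group
      _ = gpt f a' ≫ v * t' ≫ j * (gpt f (b' + -b) ≫ u * t⁻¹ ≫ j) := by
          rw [h', gpt_comp_add, gpt_neg, GrpObj.inv_comp, GrpObj.inv_comp]; simp only [_root_.mul_assoc]
      _ = _ := by rw [root_comm' hu, GrpObj.inv_comp]; simp only [_root_.mul_assoc]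
  · simp only [cellMul] at h h' ⊢
    rw [gpt_comp_add, gpt_comp_add, MonObj.mul_comp]
    calc gpt f x ≫ u * (gpt f y ≫ v * gpt f y₁ ≫ v)
        = gpt f a ≫ v * t ≫ j * (gpt f b ≫ u * gpt f y₁ ≫ v) := by
          rw [← _root_.mul_assoc, h]; simp only [_root_.mul_assoc]
      _ = gpt f a ≫ v * (t ≫ j * gpt f a' ≫ v) * (t' ≫ j * gpt f b' ≫ u) := by rw [h']; simp only [_root_.mul_assoc]
      _ = _ := by rw [root_comm hv]; simp only [_root_.mul_assoc]
  · refine ⟨chv t⁻¹ (Multiplicative.ofAdd (-d)) * (-a + a'), ?_⟩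
    simp only [cellMul] at h h' ⊢
    rw [gpt_comp_add] at h'
    rw [MonObj.mul_comp, GrpObj.inv_comp]
    calc gpt f b ≫ u * gpt f y₁ ≫ v
        = (t ≫ j)⁻¹ * (gpt f a ≫ v)⁻¹ * (gpt f x ≫ u * (gpt f y ≫ v * gpt f y₁ ≫ v)) := by
          rw [← _root_.mul_assoc (gpt f x ≫ u), h]; group
      _ = (t⁻¹ ≫ j * gpt f (-a + a') ≫ v) * t' ≫ j * gpt f b' ≫ u := by
          rw [h', gpt_comp_add, gpt_neg, GrpObj.inv_comp, GrpObj.inv_comp]; simp only [_root_.mul_assoc]
      _ = _ := by rw [root_comm hv, GrpObj.inv_comp]; simp only [_root_.mul_assoc]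

/-- The products in the cell form the complement of a hyperbola. -/
theorem exists_bad_locus {p : MvPolynomial (Fin 2) k} (R : RankCell j u v p) [Module.Free ℤ M] (hd : d ≠ 0)
    (C : CellOps j u v d (Spec.map (CommRingCat.ofHom (RingHom.id k)))) :
    ∃ c : k, c ≠ 0 ∧ ∀ x y, MvPolynomial.eval ![x, y] p = 0 ↔ 1 + c * (x * y) = 0 := by
  let f := Spec.map (CommRingCat.ofHom (RingHom.id k))
  have good : ∀ x y, MvPolynomial.eval ![x, y] p ≠ 0 ↔
      ∃ a t b, gpt f x ≫ u * gpt f y ≫ v = cellMul j u v a t b := fun x y => by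
    rw [← isUnit_iff_ne_zero]
    exact R.cell (RingHom.id k) x y
  have hs : ∀ {α : k}, α ≠ 0 → ∀ {x y : k}, MvPolynomial.eval ![x, y] p ≠ 0 →
      MvPolynomial.eval ![α * x, α⁻¹ * y] p ≠ 0 := by
    intro α hα x y h
    obtain ⟨a, t, b, h⟩ := (good x y).1 h
    obtain ⟨s, hs⟩ := exists_pt_chv hd f hα
    have hs' : chv s (Multiplicative.ofAdd (-d)) = α⁻¹ := by
      refine eq_inv_of_mul_eq_one_left ?_
      rw [← hs, ← map_mul, ← ofAdd_add, neg_add_cancel, ofAdd_zero, map_one]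
    have h' := C.scale s h
    rw [hs, hs'] at h'
    exact (good _ _).2 ⟨_, _, _, h'⟩
  obtain ⟨y₀, hy₀, hy₀u⟩ := R.bad 1 one_ne_zero
  have hy₀0 : y₀ ≠ 0 := fun h => (good 1 0).2 ⟨_, _, _, C.zero_right 1⟩ (h ▸ hy₀)
  refine ⟨-y₀⁻¹, neg_ne_zero.2 (inv_ne_zero hy₀0), fun x y => ?_⟩
  rcases eq_or_ne x 0 with rfl | hx
  · simp only [zero_mul, mul_zero, add_zero, one_ne_zero, iff_false]
    exact (good 0 y).2 ⟨_, _, _, C.zero_left y⟩
  have e : MvPolynomial.eval ![x, y] p = 0 ↔ MvPolynomial.eval ![1, x * y] p = 0 := by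
    rw [← not_iff_not]
    constructor
    · intro h
      have := hs (inv_ne_zero hx) h
      rwa [inv_mul_cancel₀ hx, inv_inv] at this
    · intro h
      have := hs hx h
      rwa [_root_.mul_one, inv_mul_cancel_left₀ hx] at this
  rw [e]
  constructor
  · intro h
    rw [hy₀u _ h]; field_simp; ring
  · intro h
    have : x * y = y₀ := by field_simp at h; linear_combination -h
    rw [this]; exact hy₀

/-- The formulas for the two unipotent parts. -/
theorem cell_coords {p : MvPolynomial (Fin 2) k} (R : RankCell j u v p) {c : k} (hc : c ≠ 0)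
    (hbad : ∀ x y, MvPolynomial.eval ![x, y] p = 0 ↔ 1 + c * (x * y) = 0)
    (C : CellOps j u v d (Spec.map (CommRingCat.ofHom (RingHom.id k)))) {x y a b : k}
    {t : pt k (Spec.map (CommRingCat.ofHom (RingHom.id k))) ⟶ Red.DS (Spec (CommRingCat.of k)) M}
    (h : gpt (Spec.map (CommRingCat.ofHom (RingHom.id k))) x ≫ u *
      gpt (Spec.map (CommRingCat.ofHom (RingHom.id k))) y ≫ v = cellMul j u v a t b) :
    a = y / (1 + c * (x * y)) ∧ b = x / (1 + c * (x * y)) := by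
  let f := Spec.map (CommRingCat.ofHom (RingHom.id k))
  have good : ∀ x y, 1 + c * (x * y) ≠ 0 ↔
      ∃ a t b, gpt f x ≫ u * gpt f y ≫ v = cellMul j u v a t b := fun x y => by
    rw [← R.cell (RingHom.id k) x y, isUnit_iff_ne_zero]
    exact (not_congr (hbad x y)).symm
  have hw : 1 + c * (x * y) ≠ 0 := (good x y).2 ⟨a, t, b, h⟩
  constructor
  · rcases eq_or_ne y 0 with rfl | hy
    · obtain ⟨rfl, -, -⟩ := R.uniq (h.symm.trans (C.zero_right x))
      simp
    have h1 : 1 + c * ((-(c * y)⁻¹ - x) * a) = 0 := by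
      by_contra hn
      obtain ⟨a', t', b', h'⟩ := (good _ _).1 hn
      exact (good _ _).2 ⟨_, _, _, C.left_of h h'⟩ (by field_simp; ring)
    rw [eq_div_iff hw]
    field_simp at h1
    linear_combination -h1
  · rcases eq_or_ne x 0 with rfl | hx
    · obtain ⟨-, -, rfl⟩ := R.uniq (h.symm.trans (C.zero_left y))
      simp
    have h1 : 1 + c * (b * (-(c * x)⁻¹ - y)) = 0 := by
      by_contra hn
      obtain ⟨a', t', b', h'⟩ := (good _ _).1 hn
      exact (good _ _).2 ⟨_, _, _, C.right_of h h'⟩ (by field_simp; ring)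
    rw [eq_div_iff hw]
    field_simp at h1
    linear_combination -h1

/-- Restricted to a hyperbolic line, a unit of the plane minus a hyperbola is a monomial. -/
theorem exists_exponent {c : k} (hc : c ≠ 0)
    {l : Localization.Away (1 + MvPolynomial.C c * (MvPolynomial.X 0 * MvPolynomial.X 1) : MvPolynomial (Fin 2) k)}
    (hl : IsUnit l) : ∃ (r : k) (n : ℤ), ∀ (z : k), 1 + c * z ≠ 0 →
      ∀ χ : Localization.Away (1 + MvPolynomial.C c * (MvPolynomial.X 0 * MvPolynomial.X 1) : MvPolynomial (Fin 2) k) →+* k,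
        (∀ q, χ (algebraMap _ _ q) = MvPolynomial.eval ![1, z] q) → χ l = r * (1 + c * z) ^ n := by
  set W : MvPolynomial (Fin 2) k := 1 + MvPolynomial.C c * (MvPolynomial.X 0 * MvPolynomial.X 1) with hW
  set P : Polynomial k := 1 + Polynomial.C c * Polynomial.X with hP
  let θ₀ : MvPolynomial (Fin 2) k →+* Localization.Away P :=
    MvPolynomial.eval₂Hom (algebraMap k _) ![1, algebraMap (Polynomial k) _ Polynomial.X]
  have hθ₀ : IsUnit (θ₀ W) := by
    have : θ₀ W = algebraMap (Polynomial k) (Localization.Away P) P := by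
      simp [θ₀, hW, hP, IsScalarTower.algebraMap_apply k (Polynomial k) (Localization.Away P)]
    rw [this]; exact IsLocalization.Away.algebraMap_isUnit P
  obtain ⟨r, n, i, hri⟩ := exists_unit_form (W := P) (by rw [hP, add_comm, ← Polynomial.C_1, Polynomial.degree_linear hc]) (hl.map (IsLocalization.Away.lift W hθ₀ : Localization.Away W →+* _))
  refine ⟨r, (i : ℤ) - n, fun z hz χ hχ => ?_⟩
  have hev : IsUnit ((Polynomial.evalRingHom z) P) := isUnit_iff_ne_zero.2 (by simpa [hP] using hz)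
  let ρ : Localization.Away P →+* k := IsLocalization.Away.lift P hev
  have hρ : ∀ q, ρ (algebraMap _ _ q) = Polynomial.eval z q := fun q => IsLocalization.Away.lift_eq P hev q
  have hχ' : ρ.comp (IsLocalization.Away.lift W hθ₀) = χ := IsLocalization.ringHom_ext (Submonoid.powers W)
    (MvPolynomial.ringHom_ext
      (fun q => by
        rw [RingHom.comp_apply, RingHom.comp_apply, IsLocalization.Away.lift_eq, RingHom.comp_apply, hχ,
          MvPolynomial.eval₂Hom_C, IsScalarTower.algebraMap_apply k (Polynomial k) (Localization.Away P), hρ]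
        simp)
      fun i => by
        rw [RingHom.comp_apply, RingHom.comp_apply, IsLocalization.Away.lift_eq, RingHom.comp_apply, hχ,
          MvPolynomial.eval₂Hom_X']
        fin_cases i <;> simp [hρ])
  have h5 := congrArg ρ hri
  rw [map_mul, hρ, hρ, ← RingHom.comp_apply, hχ'] at h5
  rw [zpow_sub₀ hz, zpow_natCast, zpow_natCast, ← mul_div_assoc, eq_div_iff (pow_ne_zero _ hz)]
  simpa [hP] using h5

/-- **The commutation relation over an algebraically closed field.** -/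
theorem exists_sl2Rel_closed [IsAffine G.left] (hG : Red.IsReductiveOver k G) [Module.Free ℤ M] [Module.Finite ℤ M]
    [IsMonHom j] (hj : AGF.IsMaxTorus j) (hd : d ≠ 0) (hu : Red.IsRootHom j (Red.chi _ d) u)
    (hv : Red.IsRootHom j (Red.chi _ (-d)) v) : ∃ (c : k) (e : M →+ ℤ), c ≠ 0 ∧ e d = 2 ∧ Sl2Rel j u v c e := by
  classical
  obtain ⟨p, R⟩ := exists_rankCell hG j hj hd hu hv
  let f := Spec.map (CommRingCat.ofHom (RingHom.id k))
  have C := cellOps hu hv f
  obtain ⟨c, hc, hbad⟩ := exists_bad_locus R hd C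
  -- the universal decomposition
  let W : MvPolynomial (Fin 2) k := 1 + MvPolynomial.C c * (MvPolynomial.X 0 * MvPolynomial.X 1)
  have hWev : ∀ x y : k, MvPolynomial.eval ![x, y] W = 1 + c * (x * y) := fun x y => by simp [W]
  let L := Localization.Away W
  let φL : k →+* L := algebraMap k L
  let X0 : L := algebraMap (MvPolynomial (Fin 2) k) L (MvPolynomial.X 0)
  let X1 : L := algebraMap (MvPolynomial (Fin 2) k) L (MvPolynomial.X 1)
  have hWu : IsUnit (algebraMap (MvPolynomial (Fin 2) k) L W) := IsLocalization.Away.algebraMap_isUnit W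
  have hez : ∀ z : Fin 2 → k, z = ![z 0, z 1] := fun z => by funext i; fin_cases i <;> rfl
  have hφL : ∀ r, φL r = algebraMap (MvPolynomial (Fin 2) k) L (MvPolynomial.C r) := fun r =>
    IsScalarTower.algebraMap_apply k (MvPolynomial (Fin 2) k) L r
  have hpu : IsUnit (MvPolynomial.eval₂ φL ![X0, X1] p) := by
    have h1 : W ∈ (Ideal.span {p}).radical := by
      rw [← MvPolynomial.vanishingIdeal_zeroLocus_eq_radical (K := k)]
      intro z hz
      rw [MvPolynomial.mem_zeroLocus_iff] at hz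
      have h2 := hz p (Ideal.mem_span_singleton_self p)
      rw [MvPolynomial.aeval_eq_eval, hez z] at h2 ⊢
      rw [hWev]
      exact (hbad _ _).1 h2
    obtain ⟨n, hn⟩ := h1
    obtain ⟨q, hq⟩ := Ideal.mem_span_singleton'.1 hn
    have e : MvPolynomial.eval₂ φL ![X0, X1] p = algebraMap (MvPolynomial (Fin 2) k) L p := by
      rw [← MvPolynomial.coe_eval₂Hom]
      refine congrFun (congrArg DFunLike.coe (MvPolynomial.ringHom_ext (fun r => ?_) (fun i => ?_))) p
      · rw [MvPolynomial.eval₂Hom_C]; exact hφL r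
      · rw [MvPolynomial.eval₂Hom_X']; fin_cases i <;> rfl
    rw [e]
    exact isUnit_of_dvd_unit ⟨algebraMap _ L q, by rw [← map_mul, mul_comm, hq]⟩ (by rw [map_pow]; exact hWu.pow n)
  obtain ⟨a₀, t₀, b₀, hdec⟩ := (R.cell φL X0 X1).1 hpu
  have hψf : ∀ {ψ : L →+* k} {x y : k}, (∀ q, ψ (algebraMap _ L q) = MvPolynomial.eval ![x, y] q) →
      Spec.map (CommRingCat.ofHom ψ) ≫ Spec.map (CommRingCat.ofHom φL) = f := fun h => by
    rw [← Spec.map_comp, ← CommRingCat.ofHom_comp]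
    show _ = Spec.map _
    congr 2
    exact RingHom.ext fun r => by rw [RingHom.comp_apply, hφL, h, MvPolynomial.eval_C]; rfl
  have hev : ∀ x y, 1 + c * (x * y) ≠ 0 → ∃ ψ : L →+* k,
      ∀ q, ψ (algebraMap _ L q) = MvPolynomial.eval ![x, y] q := fun x y h => by
    have hu : IsUnit (MvPolynomial.eval ![x, y] W) := isUnit_iff_ne_zero.2 (by rwa [hWev])
    exact ⟨IsLocalization.Away.lift (S := L) W hu, fun q => IsLocalization.Away.lift_eq W hu q⟩
  have hψW : ∀ {ψ : L →+* k} {x y : k}, (∀ q, ψ (algebraMap _ L q) = MvPolynomial.eval ![x, y] q) →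
      1 + c * (x * y) ≠ 0 := fun {ψ x y} h => by rw [← hWev, ← h]; exact (hWu.map ψ).ne_zero
  have hdec' : ∀ {ψ : L →+* k} {x y : k} (h : ∀ q, ψ (algebraMap _ L q) = MvPolynomial.eval ![x, y] q),
      gpt f x ≫ u * gpt f y ≫ v = cellMul j u v (ψ a₀) (qm ψ (hψf h) ≫ t₀) (ψ b₀) := fun {ψ x y} h => by
    rw [← qm_cellMul, ← hdec, MonObj.comp_mul, ← Category.assoc, ← Category.assoc, qm_gpt, qm_gpt, h, h,
      MvPolynomial.eval_X, MvPolynomial.eval_X]
    rfl
  have hL0 : ∀ l : L, (∀ (x y : k) (ψ : L →+* k), (∀ q, ψ (algebraMap _ L q) = MvPolynomial.eval ![x, y] q) →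
      ψ l = 0) → l = 0 := by
    intro l hl
    obtain ⟨⟨q, s⟩, hq⟩ := IsLocalization.surj (Submonoid.powers W) l
    have hW0 : W ≠ 0 := fun h => by simpa [h] using hWev 0 0
    have hqW : q * W = 0 := MvPolynomial.funext fun z => by
      rw [hez z, map_mul, map_zero, hWev]
      rcases eq_or_ne (1 + c * (z 0 * z 1)) 0 with h | h
      · rw [h, mul_zero]
      · obtain ⟨ψ, h4⟩ := hev _ _ h
        rw [← h4, ← hq, map_mul, hl _ _ ψ h4, zero_mul, zero_mul]
    rw [(mul_eq_zero.1 hqW).resolve_right hW0, map_zero] at hq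
    exact (IsLocalization.map_units L s).mul_left_eq_zero.1 hq
  have hT : ∀ m : Multiplicative M, ∃ l : ℤ, ∀ (x y : k) (ψ : L →+* k),
      (∀ q, ψ (algebraMap _ L q) = MvPolynomial.eval ![x, y] q) → ψ (chv t₀ m) = (1 + c * (x * y)) ^ l := by
    intro m
    obtain ⟨r, l, hrl⟩ := exists_exponent hc (IsUnit.map (chv t₀) (Group.isUnit m))
    have hone : ∀ {ψ : L →+* k} {x y : k}, (∀ q, ψ (algebraMap _ L q) = MvPolynomial.eval ![x, y] q) → x * y = 0 →
        ψ (chv t₀ m) = 1 := fun {ψ x y} h hxy => by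
      have ht : qm ψ (hψf h) ≫ t₀ = 1 := by
        rcases mul_eq_zero.1 hxy with rfl | rfl
        · exact (R.uniq ((hdec' h).symm.trans (C.zero_left y))).2.1
        · exact (R.uniq ((hdec' h).symm.trans (C.zero_right x))).2.1
      rw [← chv_qm ψ (hψf h)]
      exact chv_eq_one_of_idem (by rw [ht, _root_.one_mul]) m
    obtain ⟨χ, g⟩ := hev 1 0 (by simp)
    have hr1 : r = 1 := by
      have := hrl 0 (by simp) χ g
      rw [hone g (by simp)] at this
      simpa using this.symm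
    refine ⟨l, fun x y ψ hψ => ?_⟩
    rcases eq_or_ne x 0 with rfl | hx0
    · rw [hone hψ (zero_mul y)]; simp
    obtain ⟨χ, g⟩ := hev 1 (x * y) (by rw [_root_.one_mul]; exact hψW hψ)
    have e := hrl (x * y) (hψW hψ) χ g
    rw [hr1, _root_.one_mul] at e
    rw [← e, ← chv_qm ψ (hψf hψ), ← chv_qm χ (hψf g)]
    obtain ⟨s, hs⟩ := exists_pt_chv hd f hx0
    have hs' : chv s (Multiplicative.ofAdd (-d)) = x⁻¹ := by
      refine eq_inv_of_mul_eq_one_left ?_
      rw [← hs, ← map_mul, ← ofAdd_add, neg_add_cancel, ofAdd_zero, map_one]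
    have h2 := C.scale s (hdec' g)
    rw [hs, hs', _root_.mul_one, inv_mul_cancel_left₀ hx0] at h2
    rw [(R.uniq ((hdec' hψ).symm.trans h2)).2.1]
  choose l hl using hT
  have hlq : ∀ q : k, q ≠ 0 → ∃ (z : k) (ψ : L →+* k), 1 + c * z = q ∧
      (∀ q', ψ (algebraMap _ L q') = MvPolynomial.eval ![1, z] q') ∧ ∀ m, ψ (chv t₀ m) = q ^ l m := fun q hq0 => by
    have hwq : 1 + c * ((q - 1) / c) = q := by field_simp; ring
    obtain ⟨ψ, g⟩ := hev 1 ((q - 1) / c) (by rw [_root_.one_mul, hwq]; exact hq0)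
    exact ⟨_, ψ, hwq, g, fun m => by rw [hl m _ _ ψ g, _root_.one_mul, hwq]⟩
  let e : M →+ ℤ := AddMonoidHom.mk' (fun m => l (Multiplicative.ofAdd m)) fun a b => zpow_inj_all fun q hq0 => by
    obtain ⟨z, ψ, -, -, hψ⟩ := hlq q hq0
    rw [zpow_add₀ hq0, ← hψ, ← hψ, ← hψ, ← map_mul, ← map_mul, ← ofAdd_add]
  -- the value of the cocharacter on the root
  have hed : e d = 2 := zpow_inj_all fun q hq0 => by
    obtain ⟨z, ψ, hz, g, hψ⟩ := hlq q hq0
    obtain ⟨x₁, hx₁, hx₁'⟩ : ∃ x₁ : k, x₁ ≠ 0 ∧ 1 + c * ((x₁ + 1) * z) ≠ 0 := by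
      by_cases h : 1 + c * (((1 : k) + 1) * z) ≠ 0
      · exact ⟨1, one_ne_zero, h⟩
      · exact ⟨-1, neg_ne_zero.2 one_ne_zero, by simp⟩
    obtain ⟨α, ga⟩ := hev _ _ hx₁'
    have h₂ := hdec' g
    obtain ⟨ea₂, eb₂⟩ := cell_coords R hc hbad C h₂
    rw [_root_.one_mul, hz] at ea₂ eb₂
    have hD : q + c * x₁ * z ≠ 0 := by rw [← hz]; convert hx₁' using 1; ring
    have hgood : 1 + c * (x₁ * ψ a₀) ≠ 0 := by
      rw [ea₂, show 1 + c * (x₁ * (z / q)) = (q + c * x₁ * z) / q by field_simp]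
      exact div_ne_zero hD hq0
    obtain ⟨β, gb⟩ := hev _ _ hgood
    obtain ⟨-, eb₃⟩ := cell_coords R hc hbad C (hdec' gb)
    obtain ⟨-, eb₁₂⟩ := cell_coords R hc hbad C (hdec' ga)
    obtain ⟨-, -, eb⟩ := R.uniq ((hdec' ga).symm.trans (C.left_of h₂ (hdec' gb)))
    have hinv : chv (qm ψ (hψf g) ≫ t₀)⁻¹ (Multiplicative.ofAdd d) = (q ^ e d)⁻¹ := by
      refine eq_inv_of_mul_eq_one_left ?_
      rw [show q ^ e d = chv (qm ψ (hψf g) ≫ t₀) (Multiplicative.ofAdd d) by rw [chv_qm, hψ]; rfl]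
      exact chv_inv_mul _ _
    rw [hinv, eb₁₂, eb₃, eb₂, ea₂, show 1 + c * ((x₁ + 1) * z) = q + c * x₁ * z by rw [← hz]; ring,
      show 1 + c * (x₁ * (z / q)) = (q + c * x₁ * z) / q by field_simp] at eb
    generalize hE : q ^ e d = E at eb ⊢
    have hE0 : E ≠ 0 := hE ▸ zpow_ne_zero _ hq0
    rw [zpow_two]
    have hDE : q + c * x₁ * z - x₁ * (c * z) = q := by ring
    generalize hDdef : q + c * x₁ * z = D at eb hD hDE
    have e3 : ((x₁ + 1) / D - 1 / q) * E = E⁻¹ * E * (x₁ * q / D) := by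
      rw [eb]
      field_simp
      ring
    rw [inv_mul_cancel₀ hE0, _root_.one_mul] at e3
    have e4 : ((x₁ + 1) * q - D) * E = x₁ * q * q := by
      field_simp at e3
      linear_combination e3
    refine mul_left_cancel₀ hx₁ ?_
    linear_combination e4 + x₁ * E * hz + E * hDE
  refine ⟨c, e, hc, hed, fun {A} _ φ x y w t hw ht => ?_⟩
  let w₀ : Lˣ := hWu.unit
  have hψw : ∀ {ψ : L →+* k} {x y : k}, (∀ q, ψ (algebraMap _ L q) = MvPolynomial.eval ![x, y] q) →
      ψ (w₀ : L) = 1 + c * (x * y) := fun h => by rw [IsUnit.unit_spec, h, hWev]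
  have ha₀ : a₀ = X1 * (w₀⁻¹ : Lˣ) := sub_eq_zero.1 (hL0 _ fun x y ψ h => by
    rw [map_sub, (cell_coords R hc hbad C (hdec' h)).1, map_mul, map_units_inv, hψw h, h, div_eq_mul_inv]
    simp)
  have hb₀ : b₀ = X0 * (w₀⁻¹ : Lˣ) := sub_eq_zero.1 (hL0 _ fun x y ψ h => by
    rw [map_sub, (cell_coords R hc hbad C (hdec' h)).2, map_mul, map_units_inv, hψw h, h, div_eq_mul_inv]
    simp)
  have ht₀ : ∀ m, chv t₀ m = ((w₀ ^ e (Multiplicative.toAdd m) : Lˣ) : L) := fun m =>
    sub_eq_zero.1 (hL0 _ fun x y ψ h => by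
      rw [map_sub, hl m x y ψ h, ← MonoidHom.coe_coe ψ, ← Units.coe_map, map_zpow, Units.val_zpow_eq_zpow_val,
        Units.coe_map, MonoidHom.coe_coe, hψw h]
      exact sub_self _)
  let Φ₀ : MvPolynomial (Fin 2) k →+* A := MvPolynomial.eval₂Hom φ ![x, y]
  have hΦW : Φ₀ W = (w : A) := by rw [hw]; simp [Φ₀, W]
  have hΦu : IsUnit (Φ₀ W) := hΦW ▸ w.isUnit
  let Φ : L →+* A := IsLocalization.Away.lift W hΦu
  have hΦ : ∀ q, Φ (algebraMap _ L q) = Φ₀ q := fun q => IsLocalization.Away.lift_eq W hΦu q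
  have hΦX0 : Φ X0 = x := (hΦ _).trans (by simp [Φ₀])
  have hΦX1 : Φ X1 = y := (hΦ _).trans (by simp [Φ₀])
  have hΦw : Units.map (Φ : L →* A) w₀ = w := Units.ext ((hΦ W).trans hΦW)
  have hΦf : Spec.map (CommRingCat.ofHom Φ) ≫ Spec.map (CommRingCat.ofHom φL) = Spec.map (CommRingCat.ofHom φ) := by
    rw [← Spec.map_comp, ← CommRingCat.ofHom_comp]
    congr 2
    exact RingHom.ext fun r => by rw [RingHom.comp_apply, hφL, hΦ]; simp [Φ₀]
  have hval : ∀ n : ℤ, Φ ((w₀ ^ n : Lˣ) : L) = ((w ^ n : Aˣ) : A) := fun n => by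
    rw [← hΦw, ← map_zpow]; rfl
  have h := congrArg (qm Φ hΦf ≫ ·) hdec
  simp only [MonObj.comp_mul, ← Category.assoc, qm_gpt, qm_cellMul, hΦX0, hΦX1] at h
  rw [h, ha₀, hb₀, map_mul, map_mul, hΦX0, hΦX1, ← zpow_neg_one, hval, zpow_neg_one,
    show t = qm Φ hΦf ≫ t₀ from chv_ext fun m => by rw [ht, chv_qm, ht₀, hval]]

end Groth.Agent.RootSys
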