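import Groth.Agent.DynPar.LieWt

/-!
# Weight vectors for the adjoint action of a diagonalisable group
-/

set_option autoImplicit false
set_option backward.isDefEq.respectTransparency false
set_option linter.style.haveILetI false
set_option maxHeartbeats 1000000
set_option synthInstance.maxHeartbeats 400000

universe u

open CategoryTheory Limits MonoidalCategory CartesianMonoidalCategory MonObj AlgebraicGeometry LieS
open scoped CategoryTheory.Obj

noncomputable section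

namespace Groth.Agent.RootSys

open Groth.Agent.HomDiag Groth.Agent.DynPar Groth.Agent.MTBridge
open Groth.Agent.DynPar.Der (dv uB pl sG)

variable {R : Type u} [CommRing R] {G : Over (Spec (CommRingCat.of R))} [GrpObj G] [IsAffine G.left]
variable {Γ : Type} [AddCommGroup Γ] (c : Red.DS (Spec (CommRingCat.of R)) Γ ⟶ G) [IsMonHom c]
variable {B B' : Type u} [CommRing B] [CommRing B'] {f : Spec (CommRingCat.of B) ⟶ Spec (CommRingCat.of R)}
  {f' : Spec (CommRingCat.of B') ⟶ Spec (CommRingCat.of R)}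

/-- A tangent vector is of weight `a`. -/
def IsWt (v : Lie G B f) (a : Γ) : Prop := ∀ (x : Γ(G.left, ⊤)) (m : Γ), m ≠ a → dv v (wc c x m) = 0

theorem isWt_of_comp {v u : Lie G B f} {a : Γ} (hu : ∀ x, dv u x = dv v (wc c x a)) : IsWt c u a := fun x m hm => by
  classical
  rw [hu, wc_wc c x m a, if_neg (Ne.symm hm), dv_zero]

variable {c}

theorem IsWt.dv_wc_self {v : Lie G B f} {a : Γ} (hv : IsWt c v a) (x : Γ(G.left, ⊤)) : dv v (wc c x a) = dv v x := by
  classical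
  conv_rhs => rw [← sum_wc c x, dv_sum]
  rw [Finset.sum_eq_single a (fun m _ hm => hv x m hm) (fun h => by rw [wc_eq_zero_of_notMem c h, dv_zero])]

theorem IsWt.mul {v w : Lie G B f} {a : Γ} (hv : IsWt c v a) (hw : IsWt c w a) : IsWt c (v * w) a := fun x m hm => by
  rw [Der.dv_mul, hv x m hm, hw x m hm, add_zero]

theorem isWt_one (a : Γ) : IsWt c (1 : Lie G B f) a := fun x m _ => Der.dv_one _

theorem IsWt.smul {v : Lie G B f} {a : Γ} (hv : IsWt c v a) (b : B) : IsWt c (b • v) a := fun x m hm => by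
  rw [Der.dv_smul, hv x m hm, mul_zero]

theorem IsWt.inv {v : Lie G B f} {a : Γ} (hv : IsWt c v a) : IsWt c v⁻¹ a := fun x m hm => by
  have h := Der.dv_mul v v⁻¹ (wc c x m)
  rw [mul_inv_cancel, Der.dv_one, hv x m hm, zero_add] at h
  exact h.symm

theorem IsWt.eq_one {v : Lie G B f} {a b : Γ} (hv : IsWt c v a) (hw : IsWt c v b) (hab : a ≠ b) : v = 1 :=
  Der.dv_injective (funext fun x => by rw [Der.dv_one, ← hv.dv_wc_self, hw x a hab])

theorem IsWt.pl {v : Lie G B f} {a : Γ} (hv : IsWt c v a) (h : B →+* B')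
    (hf : Spec.map (CommRingCat.ofHom h) ≫ f = f') : IsWt c (pl h hf v) a := fun x m hm => by
  rw [Der.dv_pl, hv x m hm, map_zero]

theorem IsWt.ad {v : Lie G B f} {a : Γ} (hv : IsWt c v a) (g : pt B f ⟶ Red.DS (Spec (CommRingCat.of R)) Γ) :
    Ad G B f (g ≫ c) v = chv g (Multiplicative.ofAdd a) • v :=
  Der.dv_injective (funext fun x => by
    rw [dv_Ad, Der.dv_smul, Finset.sum_eq_single a (fun m _ hm => by rw [hv x m hm, mul_zero])
      (fun h => by rw [wc_eq_zero_of_notMem c h, dv_zero, mul_zero]), hv.dv_wc_self])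

theorem IsWt.ad_pl {v : Lie G B f} {a : Γ} (hv : IsWt c v a) (h : B →+* B')
    (hf : Spec.map (CommRingCat.ofHom h) ≫ f = f') (g : pt B' f' ⟶ Red.DS (Spec (CommRingCat.of R)) Γ) :
    Ad G B' f' (g ≫ c) (Der.pl h hf v) = chv g (Multiplicative.ofAdd a) • Der.pl h hf v := (hv.pl h hf).ad g

variable (c)

/-- The criterion through the tautological point. -/
theorem isWt_of_ad {v : Lie G B f} {a : Γ} {g : pt (AddMonoidAlgebra B Γ) (fL f Γ) ⟶ Red.DS (Spec (CommRingCat.of R)) Γ}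
    (hg : ∀ m, chv g (Multiplicative.ofAdd m) = AddMonoidAlgebra.single m (1 : B))
    (h : Ad G (AddMonoidAlgebra B Γ) (fL f Γ) (g ≫ c) (pl (cC B Γ) rfl v) =
      chv g (Multiplicative.ofAdd a) • pl (cC B Γ) rfl v) : IsWt c v a := fun x m hm => by
  have h2 := congrArg (fun w => dv w (wc c x m)) h
  have e : dv (pl (cC B Γ) rfl v : Lie G _ (fL f Γ)) (wc c x m) = cC B Γ (dv v (wc c x m)) := Der.dv_pl _ rfl v _
  rw [dv_Ad_wc, Der.dv_smul, hg, hg, e] at h2
  replace h2 : AddMonoidAlgebra.single m (1 : B) * AddMonoidAlgebra.single 0 (dv v (wc c x m)) =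
      AddMonoidAlgebra.single a (1 : B) * AddMonoidAlgebra.single 0 (dv v (wc c x m)) := h2
  simp only [AddMonoidAlgebra.single_mul_single, add_zero, _root_.one_mul] at h2
  have h3 := congr(($h2).coeff m)
  rw [AddMonoidAlgebra.coeff_single, AddMonoidAlgebra.coeff_single, Finsupp.single_eq_same,
    Finsupp.single_eq_of_ne hm] at h3
  exact h3

theorem isWt_iff_forall_ad {v : Lie G B f} {a : Γ} : IsWt c v a ↔
    ∀ (B' : Type u) [CommRing B'] (f' : Spec (CommRingCat.of B') ⟶ Spec (CommRingCat.of R)) (h : B →+* B')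
      (hf : Spec.map (CommRingCat.ofHom h) ≫ f = f') (g : pt B' f' ⟶ Red.DS (Spec (CommRingCat.of R)) Γ),
      Ad G B' f' (g ≫ c) (pl h hf v) = chv g (Multiplicative.ofAdd a) • pl h hf v := by
  refine ⟨fun hv B' _ f' h hf g => hv.ad_pl h hf g, fun h => ?_⟩
  obtain ⟨g, hg⟩ := exists_taut (Γ := Γ) f
  exact isWt_of_ad c hg (h _ _ _ rfl g)

/-- Every tangent vector is a finite product of weight vectors. -/
theorem exists_wt_decomp [LocallyOfFiniteType G.hom] (v : Lie G B f) :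
    ∃ (F : Finset Γ) (u : Γ → Lie G B f), (∀ d a, dv (u d) a = dv v (wc c a d)) ∧ (∀ d, IsWt c (u d) d) ∧
      v = ∏ d ∈ F, u d := by
  obtain ⟨F, u, hu, hv⟩ := exists_decomp c v
  exact ⟨F, u, hu, fun d => isWt_of_comp c (hu d), hv⟩

variable {H : Over (Spec (CommRingCat.of R))} [GrpObj H] [IsAffine H.left] (φ : G ⟶ H) [IsMonHom φ]

omit [IsAffine G.left] [IsAffine H.left] in
theorem map_Ad (g : pt B f ⟶ G) (v : Lie G B f) :
    LieS.map B f φ (Ad G B f g v) = Ad H B f (g ≫ φ) (LieS.map B f φ v) :=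
  Subtype.ext (by
    show ((proj B f ≫ g) * v.1 * (proj B f ≫ g)⁻¹) ≫ φ =
      (proj B f ≫ g ≫ φ) * (v.1 ≫ φ) * (proj B f ≫ g ≫ φ)⁻¹
    simp only [MonObj.mul_comp, GrpObj.inv_comp, Category.assoc])

theorem map_smul (b : B) (v : Lie G B f) : LieS.map B f φ (b • v) = b • LieS.map B f φ v :=
  Subtype.ext (by
    show (scale B f b ≫ v.1) ≫ φ = scale B f b ≫ v.1 ≫ φ
    rw [Category.assoc])

theorem map_pl (h : B →+* B') (hf : Spec.map (CommRingCat.ofHom h) ≫ f = f') (v : Lie G B f) :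
    LieS.map B' f' φ (pl h hf v) = pl h hf (LieS.map B f φ v) :=
  Subtype.ext (by show (Der.qdual h hf ≫ v.1) ≫ φ = Der.qdual h hf ≫ v.1 ≫ φ; rw [Category.assoc])

omit [IsAffine G.left] [IsAffine H.left] in
theorem map_injective [Mono φ] : Function.Injective (LieS.map B f φ) := fun v w h =>
  Subtype.ext ((cancel_mono φ).1 (congrArg Subtype.val h))

variable {c φ}

theorem IsWt.map {v : Lie G B f} {a : Γ} (hv : IsWt c v a) (c' : Red.DS (Spec (CommRingCat.of R)) Γ ⟶ H)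
    [IsMonHom c'] (hc' : c ≫ φ = c') : IsWt c' (LieS.map B f φ v) a := by
  obtain ⟨g, hg⟩ := exists_taut (Γ := Γ) f
  refine isWt_of_ad c' hg ?_
  rw [← map_pl φ, ← hc', ← Category.assoc, ← map_Ad, hv.ad_pl, map_smul]

theorem IsWt.of_map [Mono φ] {v : Lie G B f} {a : Γ} {c' : Red.DS (Spec (CommRingCat.of R)) Γ ⟶ H} [IsMonHom c']
    (hc' : c ≫ φ = c') (hv : IsWt c' (LieS.map B f φ v) a) : IsWt c v a := by
  obtain ⟨g, hg⟩ := exists_taut (Γ := Γ) f
  refine isWt_of_ad c hg (map_injective φ ?_)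
  rw [map_Ad, map_smul, map_pl, Category.assoc, hc', hv.ad_pl]

theorem IsWt.DSmap {Γ' : Type} [AddCommGroup Γ'] {v : Lie G B f} {a : Γ} (hv : IsWt c v a) (θ : Γ →+ Γ')
    [IsMonHom (Red.DSmap (Spec (CommRingCat.of R)) θ ≫ c)] :
    IsWt (Red.DSmap (Spec (CommRingCat.of R)) θ ≫ c) v (θ a) := by
  obtain ⟨g, hg⟩ := exists_taut (Γ := Γ') f
  refine isWt_of_ad _ hg ?_
  rw [← Category.assoc, hv.ad_pl, chv_DSmap]
  rfl

variable (c)

/-- Fixed vectors are those of weight zero. -/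
theorem mem_ZSub_iff_isWt_zero [IsAffine (Spec (CommRingCat.of R))] (v : Lie G B f) :
    (v.1 : pt (DualNumber B) (fd f) ⟶ G) ∈ ZSub (fd f) c ↔ IsWt c v 0 := by
  have h := DynPar.mem_ZSub_iff (G := G) c (AddMonoidHom.id Γ) (g := (v.1 : pt (DualNumber B) (fd f) ⟶ G)) gens_univ
  rw [DSmap_id, Category.id_comp] at h
  refine h.trans ⟨fun h x m hm => ?_, fun h x _ m hm => TrivSqZeroExt.ext ?_ ?_⟩
  · rw [← rp_vec_snd, h x (Set.mem_univ x) m hm, TrivSqZeroExt.snd_zero]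
  · have hm' : m ≠ 0 := hm
    rw [rp_vec_fst, rp_one_wc c x hm', TrivSqZeroExt.fst_zero]
  · rw [rp_vec_snd, h x m hm, TrivSqZeroExt.snd_zero]

/-- Weight vectors with a limit. -/
theorem IsWt.mem_PSub [IsAffineHom G.hom] {Γ' : Type} [AddCommGroup Γ'] [LinearOrder Γ'] [IsOrderedAddMonoid Γ']
    {v : Lie G B f} {a : Γ} (hv : IsWt c v a) (θ : Γ →+ Γ') (ha : 0 ≤ θ a) :
    (v.1 : pt (DualNumber B) (fd f) ⟶ G) ∈ PSub (fd f) (Red.DSmap (Spec (CommRingCat.of R)) θ ≫ c) := by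
  refine (mem_PSub_iff c θ gens_univ).2 fun x _ m hm => TrivSqZeroExt.ext ?_ ?_
  · rw [rp_vec_fst, rp_one_wc c x (fun e : m = 0 => hm.ne (by rw [e, map_zero])), TrivSqZeroExt.fst_zero]
  · rw [rp_vec_snd, hv x m (fun e : m = a => absurd ha (not_le.2 (e ▸ hm))), TrivSqZeroExt.snd_zero]

/-- Components of vectors with a limit. -/
theorem dv_wc_eq_zero_of_mem_PSub {Γ' : Type} [AddCommGroup Γ'] [LinearOrder Γ'] [IsOrderedAddMonoid Γ']
    {v : Lie G B f} (θ : Γ →+ Γ')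
    (hv : (v.1 : pt (DualNumber B) (fd f) ⟶ G) ∈ PSub (fd f) (Red.DSmap (Spec (CommRingCat.of R)) θ ≫ c))
    (x : Γ(G.left, ⊤)) {m : Γ} (hm : θ m < 0) : dv v (wc c x m) = 0 := by
  rw [← rp_vec_snd, (mem_PSub_iff c θ gens_univ).1 hv x (Set.mem_univ x) m hm, TrivSqZeroExt.snd_zero]

/-- The weight space of a character, in the prelude's sense. -/
theorem mem_weightSpOf_iff [Algebra R B] (v : LieR G B) (a : Γ) :
    v ∈ LieWt.weightSpOf c (Red.chi (Spec (CommRingCat.of R)) a) B ↔ IsWt c v a := by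
  refine ⟨fun hv => ?_, fun hv B₁ _ _ φ t => ?_⟩
  · obtain ⟨t, ht⟩ := exists_chv (S := Spec (CommRingCat.of R))
      (f := Spec.map (CommRingCat.ofHom (algebraMap R (AddMonoidAlgebra B Γ)))) (AddMonoidAlgebra.of B Γ)
    let φ : B →ₐ[R] AddMonoidAlgebra B Γ := AddMonoidAlgebra.singleZeroAlgHom
    have h1 := hv (AddMonoidAlgebra B Γ) φ t
    refine isWt_of_ad c (g := (VecGrp.ptIso φ).hom ≫ t) (fun m => by rw [chv_ptIso, ht]; rfl) ?_
    rw [Category.assoc, chv_ptIso φ, ← chiVal_chi]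
    exact h1
  · show Ad G B₁ _ ((VecGrp.ptIso φ).hom ≫ t ≫ c) _ = VecGrp.chiVal _ t • _
    rw [chiVal_chi, ← chv_ptIso φ, ← Category.assoc]
    exact hv.ad_pl φ.toRingHom rfl _

end Groth.Agent.RootSys
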