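import Groth.Agent.RootSys.Sl2Rel

/-!
# The Weyl element of a pair of opposite root groups
-/

set_option autoImplicit false
set_option backward.isDefEq.respectTransparency false
set_option linter.style.haveILetI false
set_option maxHeartbeats 1000000
set_option synthInstance.maxHeartbeats 400000

universe u

open CategoryTheory Limits MonoidalCategory CartesianMonoidalCategory MonObj AlgebraicGeometry LieS
open scoped CategoryTheory.Obj

noncomputable section

namespace Groth.Agent.RootSys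

open Groth.Agent.HomDiag Groth.Agent.DynPar

variable {k : Type u} [Field k] {G : Over (Spec (CommRingCat.of k))} [GrpObj G] {M : Type} [AddCommGroup M]
  {j : Red.DS (Spec (CommRingCat.of k)) M ⟶ G} {u v : Red.Ga (Spec (CommRingCat.of k)) ⟶ G} {d : M}

/-- The reflection of a root and a functional. -/
def refl' (d : M) (e : M →+ ℤ) : M →+ M := AddMonoidHom.id M - (zmultiplesHom M d).comp e

theorem refl'_apply (d : M) (e : M →+ ℤ) (m : M) : refl' d e m = m - e m • d := rfl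

theorem refl'_invol {d : M} {e : M →+ ℤ} (hed : e d = 2) : (refl' d e).comp (refl' d e) = AddMonoidHom.id M :=
  AddMonoidHom.ext fun m => by
    show refl' d e (refl' d e m) = m
    rw [refl'_apply, refl'_apply, map_sub, map_zsmul, hed, smul_eq_mul]
    module

/-- The Weyl element over a test ring. -/
def weylA (u v : Red.Ga (Spec (CommRingCat.of k)) ⟶ G) {A : Type u} [CommRing A]
    (f : Spec (CommRingCat.of A) ⟶ Spec (CommRingCat.of k)) (gc : A) : pt A f ⟶ G :=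
  gpt f 1 ≫ u * gpt f (-gc) ≫ v * gpt f 1 ≫ u

/-- The Weyl element as a rational point. -/
def weylPt (u v : Red.Ga (Spec (CommRingCat.of k)) ⟶ G) (c : k) : 𝟙_ (Over (Spec (CommRingCat.of k))) ⟶ G :=
  weylA u v (𝟙 (Spec (CommRingCat.of k))) c⁻¹

theorem comp_weylPt {A : Type u} [CommRing A] (φ : k →+* A) (c : k) :
    toUnit (pt A (Spec.map (CommRingCat.ofHom φ))) ≫ weylPt u v c =
      weylA u v (Spec.map (CommRingCat.ofHom φ)) (φ c⁻¹) := by
  let f := Spec.map (CommRingCat.ofHom φ)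
  have hf : Spec.map (CommRingCat.ofHom φ) ≫ 𝟙 (Spec (CommRingCat.of k)) = f := Category.comp_id _
  have e : toUnit (pt A f) = qm φ hf := toUnit_unique _ (qm φ hf : pt A f ⟶ 𝟙_ (Over (Spec (CommRingCat.of k))))
  rw [e]
  show qm φ hf ≫ weylA u v _ _ = _
  simp only [weylA, MonObj.comp_mul, ← Category.assoc, qm_gpt, map_neg, map_one]
  rfl

/-- Translates of the Weyl element by the torus. -/
theorem weyl_scale [IsMonHom j] {c : k} (hc : c ≠ 0) {e : M →+ ℤ} (hed : e d = 2) (H : Sl2Rel j u v c e)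
    (hu : Red.IsRootHom j (Red.chi _ d) u) (hv : Red.IsRootHom j (Red.chi _ (-d)) v)
    {A : Type u} [CommRing A] (φ : k →+* A) {f : Spec (CommRingCat.of A) ⟶ Spec (CommRingCat.of k)}
    (hf : Spec.map (CommRingCat.ofHom φ) = f) (a : Aˣ)
    (t : pt A f ⟶ Red.DS (Spec (CommRingCat.of k)) M)
    (ht : ∀ m, chv t m = ((a ^ e (Multiplicative.toAdd m) : Aˣ) : A)) :
    gpt f (a : A) ≫ u *
        gpt f (-(φ c⁻¹ * (a⁻¹ : Aˣ))) ≫ v *
        gpt f (a : A) ≫ u =
      t ≫ j * weylA u v f (φ c⁻¹) := by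
  haveI := hu.1; haveI := hv.1
  set gc := φ c⁻¹ with hgc
  let U : A → (pt A f ⟶ G) := fun x => gpt f x ≫ u
  let V : A → (pt A f ⟶ G) := fun x => gpt f x ≫ v
  have hgcc : φ c * gc = 1 := by rw [hgc, ← map_mul, mul_inv_cancel₀ hc, map_one]
  have h : U ((a : A) - 1) * V gc = V (gc * (a⁻¹ : Aˣ)) * t ≫ j * U (((a : A) - 1) * (a⁻¹ : Aˣ)) :=
    (by subst hf; exact H φ _ _ a t (by linear_combination -((a : A) - 1) * hgcc) ht)
  have hUa : ∀ x y : A, U (x + y) = U x * U y := fun _ _ => gpt_comp_add _ _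
  have hVa : ∀ x y : A, V (x + y) = V x * V y := fun _ _ => gpt_comp_add _ _
  have hU0 : U 0 = 1 := gpt_comp_zero
  have hV0 : V 0 = 1 := gpt_comp_zero
  have hconj : t ≫ j * U (-((a⁻¹ : Aˣ) : A)) = U (-(a : A)) * t ≫ j := by
    show t ≫ j * gpt f _ ≫ u = gpt f _ ≫ u * t ≫ j
    rw [root_comm hu, ht, toAdd_ofAdd, hed]
    congr 4
    rw [zpow_two, Units.val_mul, mul_neg, _root_.mul_assoc, Units.mul_inv, _root_.mul_one]
  show U (a : A) * V (-(gc * (a⁻¹ : Aˣ))) * U (a : A) = t ≫ j * (U 1 * V (-gc) * U 1)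
  rw [← mul_inv_eq_iff_eq_mul]
  have i1 : (U 1 * V (-gc) * U 1)⁻¹ = U (-1) * V gc * U (-1) := by
    refine inv_eq_of_mul_eq_one_right ?_
    rw [show U 1 * V (-gc) * U 1 * (U (-1) * V gc * U (-1)) = U 1 * V (-gc) * (U 1 * U (-1)) * V gc * U (-1) by group,
      ← hUa, add_neg_cancel, hU0, _root_.mul_one, _root_.mul_assoc (U 1) (V (-gc)), ← hVa, neg_add_cancel, hV0,
      _root_.mul_one, ← hUa, add_neg_cancel, hU0]
  rw [i1]
  calc U (a : A) * V (-(gc * (a⁻¹ : Aˣ))) * U (a : A) * (U (-1) * V gc * U (-1))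
      = U (a : A) * V (-(gc * (a⁻¹ : Aˣ))) * ((U (a : A) * U (-1)) * V gc) * U (-1) := by group
    _ = U (a : A) * (V (-(gc * (a⁻¹ : Aˣ))) * V (gc * (a⁻¹ : Aˣ))) *
          t ≫ j * (U (((a : A) - 1) * (a⁻¹ : Aˣ)) * U (-1)) := by
        rw [← hUa, ← sub_eq_add_neg, h]; group
    _ = U (a : A) * (t ≫ j * U (-((a⁻¹ : Aˣ) : A))) := by
        rw [← hVa, neg_add_cancel, hV0, _root_.mul_one, ← hUa, _root_.mul_assoc]
        congr 3
        rw [sub_mul, Units.mul_inv, _root_.one_mul]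
        ring
    _ = _ := by rw [hconj, ← _root_.mul_assoc, ← hUa, add_neg_cancel, hU0, _root_.one_mul]

/-- Conjugation of an affine point of the torus by the Weyl element. -/
theorem weyl_conj_affine [IsMonHom j] {c : k} (hc : c ≠ 0) {e : M →+ ℤ} (hed : e d = 2) (H : Sl2Rel j u v c e)
    (hu : Red.IsRootHom j (Red.chi _ d) u) (hv : Red.IsRootHom j (Red.chi _ (-d)) v)
    {A : Type u} [CommRing A] (φ : k →+* A) {f : Spec (CommRingCat.of A) ⟶ Spec (CommRingCat.of k)}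
    (hf : Spec.map (CommRingCat.ofHom φ) = f)
    (t : pt A f ⟶ Red.DS (Spec (CommRingCat.of k)) M) :
    weylA u v f (φ c⁻¹) * t ≫ j * (weylA u v f (φ c⁻¹))⁻¹ =
      (t ≫ Red.DSmap _ (refl' d e)) ≫ j := by
  haveI := hu.1; haveI := hv.1
  let α : Aˣ :=
    { val := chv t (Multiplicative.ofAdd d)
      inv := chv t (Multiplicative.ofAdd (-d))
      val_inv := by rw [← map_mul, ← ofAdd_add, add_neg_cancel, ofAdd_zero, map_one]
      inv_val := by rw [← map_mul, ← ofAdd_add, neg_add_cancel, ofAdd_zero, map_one] }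
  obtain ⟨s, hs⟩ := exists_chv (f := f) (S := Spec (CommRingCat.of k)) (M := M)
    { toFun := fun m => ((α ^ e (Multiplicative.toAdd m) : Aˣ) : A)
      map_one' := by simp
      map_mul' := fun a b => by rw [toAdd_mul, map_add, zpow_add, Units.val_mul] }
  have h1 : t ≫ j * weylA u v f (φ c⁻¹) * (t ≫ j)⁻¹ = s ≫ j * weylA u v f (φ c⁻¹) := by
    rw [← weyl_scale hc hed H hu hv φ hf α s hs]
    show t ≫ j * (gpt f 1 ≫ u * gpt f (-φ c⁻¹) ≫ v * gpt f 1 ≫ u) * (t ≫ j)⁻¹ = _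
    rw [show t ≫ j * (gpt f 1 ≫ u * gpt f (-φ c⁻¹) ≫ v * gpt f 1 ≫ u) * (t ≫ j)⁻¹ =
        t ≫ j * gpt f 1 ≫ u * (t ≫ j)⁻¹ * (t ≫ j * gpt f (-φ c⁻¹) ≫ v * (t ≫ j)⁻¹) *
          (t ≫ j * gpt f 1 ≫ u * (t ≫ j)⁻¹) by group]
    rw [root_conj hu, root_conj hv, _root_.mul_one]
    congr 4
    show chv t (Multiplicative.ofAdd (-d)) * -φ c⁻¹ = -(φ c⁻¹ * chv t (Multiplicative.ofAdd (-d)))
    ring
  set N := weylA u v f (φ c⁻¹) with hN
  have h2 : N * t ≫ j * N⁻¹ = (s ≫ j)⁻¹ * t ≫ j := by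
    have h1' : t ≫ j * N = s ≫ j * N * t ≫ j := mul_inv_eq_iff_eq_mul.1 h1
    calc N * t ≫ j * N⁻¹ = (s ≫ j)⁻¹ * (s ≫ j * N * t ≫ j) * N⁻¹ := by group
      _ = _ := by rw [← h1']; group
  rw [h2, ← GrpObj.inv_comp s j, ← MonObj.mul_comp]
  congr 1
  refine chv_ext fun m => ?_
  rw [chv_mul, chv_DSmap]
  have hsinv : chv s⁻¹ m = ((α ^ (-e (Multiplicative.toAdd m)) : Aˣ) : A) := by
    have h3 := chv_inv_mul s m
    rw [hs, mul_comm] at h3
    rw [zpow_neg]
    exact Units.eq_inv_of_mul_eq_one_left (by rw [mul_comm]; rw [mul_comm] at h3; exact h3)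
  rw [hsinv, refl'_apply, sub_eq_add_neg, ← neg_zsmul, ofAdd_add, map_mul, ofAdd_zsmul, mul_comm]
  congr 1
  obtain ⟨n, hn | hn⟩ : ∃ n : ℕ, -e (Multiplicative.toAdd m) = n ∨ -e (Multiplicative.toAdd m) = -n :=
    ⟨_, Int.natAbs_eq _⟩
  · rw [hn, zpow_natCast, zpow_natCast, Units.val_pow_eq_pow_val, map_pow]
  · rw [hn, zpow_neg, zpow_neg, zpow_natCast, zpow_natCast, ← inv_pow, ← inv_pow, Units.val_pow_eq_pow_val, map_pow,
      ← ofAdd_neg]
    rfl

/-- **The Weyl element acts on the torus by the reflection.** -/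
theorem weyl_conj [IsAffine G.left] [IsMonHom j] {c : k} (hc : c ≠ 0) {e : M →+ ℤ} (hed : e d = 2) (H : Sl2Rel j u v c e)
    (hu : Red.IsRootHom j (Red.chi _ d) u) (hv : Red.IsRootHom j (Red.chi _ (-d)) v)
    {X : Over (Spec (CommRingCat.of k))} (t : X ⟶ Red.DS (Spec (CommRingCat.of k)) M) :
    (toUnit X ≫ weylPt u v c) * (t ≫ j) * (toUnit X ≫ weylPt u v c)⁻¹ = (t ≫ Red.DSmap _ (refl' d e)) ≫ j := by
  let T := Red.DS (Spec (CommRingCat.of k)) M
  suffices h : (toUnit T ≫ weylPt u v c) * j * (toUnit T ≫ weylPt u v c)⁻¹ = Red.DSmap _ (refl' d e) ≫ j by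
    have h' := congrArg (t ≫ ·) h
    simp only [MonObj.comp_mul, GrpObj.comp_inv, ← Category.assoc] at h'
    rwa [toUnit_unique (t ≫ toUnit T) (toUnit X)] at h'
  haveI : IsAffine (Red.diag (ULift.{u} ℤ) M).left := isAffine_Spec _
  haveI : IsAffineHom T.hom := MorphismProperty.pullback_snd (P := @IsAffineHom) (Red.diag (ULift.{u} ℤ) M).hom _
    (isAffineHom_of_isAffine _)
  haveI : IsAffine T.left := isAffine_of_isAffineHom T.hom
  obtain ⟨φ, hφ⟩ := Spec.map_surjective (T.left.isoSpec.inv ≫ T.hom)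
  let y : pt Γ(T.left, ⊤) (Spec.map (CommRingCat.ofHom φ.hom)) ⟶ T := Over.homMk T.left.isoSpec.inv (by
    show _ = Spec.map (CommRingCat.ofHom φ.hom)
    rw [CommRingCat.ofHom_hom, hφ])
  haveI : IsIso y.left := inferInstanceAs (IsIso T.left.isoSpec.inv)
  haveI : IsIso ((Over.forget _).map y) := inferInstanceAs (IsIso y.left)
  haveI : IsIso y := isIso_of_reflects_iso y (Over.forget _)
  rw [← cancel_epi y, MonObj.comp_mul, MonObj.comp_mul, GrpObj.comp_inv, ← Category.assoc,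
    toUnit_unique (y ≫ toUnit T) (toUnit _), comp_weylPt, ← Category.assoc]
  exact weyl_conj_affine hc hed H hu hv φ.hom rfl y

end Groth.Agent.RootSys
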